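/-
Enumeration of the code: weights, octads, dodecads, minimum distance.
-/
import Cfsg.Agent.Lib.Helper28.GolayFast

set_option autoImplicit false

namespace Cfsg.Agent.Lib.Helper28

open Cfsg
open scoped Pointwise

theorem enc_lt : ∀ j, j < 4096 → enc j < 2 ^ 24 := by
  intro j hj
  have := allBelow_spec (f := fun j => Nat.blt (encF j) 16777216) (n := 4096) (by decide +kernel) j hj
  rw [encF_eq j hj] at this
  simpa [Nat.blt_eq] using this

theorem isCode_enc : ∀ j, j < 4096 → isCode (enc j) = true := by
  intro j hj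
  have := allBelow_spec (f := fun j => isCodeF (encF j)) (n := 4096) (by decide +kernel) j hj
  rwa [encF_eq j hj, isCodeF_eq (enc_lt j hj)] at this

theorem exists_enc_of_isCode {m : ℕ} (hm : m < 2 ^ 24) (h : isCode m = true) :
    ∃ j, j < 4096 ∧ enc j = m := by
  refine ⟨m >>> 12, ?_, by simpa [isCode] using h⟩
  rw [Nat.shiftRight_eq_div_pow]
  apply Nat.div_lt_of_lt_mul
  norm_num at hm ⊢
  exact hm

/-- to prove something for all codeword masks it is enough to check the 4096 values of `enc` -/
theorem forall_code {P : ℕ → Prop} (h : ∀ j, j < 4096 → P (enc j)) {m : ℕ} (hm : m < 2 ^ 24)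
    (hc : isCode m = true) : P m := by
  obtain ⟨j, hj, rfl⟩ := exists_enc_of_isCode hm hc
  exact h j hj

/-- reflection principle: a boolean test that holds for the 4096 values of the fast encoder holds for
all masks of codewords -/
theorem forall_code_of_check {f : ℕ → Bool} (h : allBelow (fun j => f (encF j)) 4096 = true) {m : ℕ}
    (hm : m < 2 ^ 24) (hc : isCode m = true) : f m = true := by
  apply forall_code (P := fun m => f m = true) _ hm hc
  intro j hj
  have := allBelow_spec h j hj
  rwa [encF_eq j hj] at this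

/-- weights of codewords -/
theorem code_weight {m : ℕ} (hm : m < 2 ^ 24) (hc : isCode m = true) :
    pc 24 m = 0 ∨ pc 24 m = 8 ∨ pc 24 m = 12 ∨ pc 24 m = 16 ∨ pc 24 m = 24 := by
  have := forall_code_of_check (f := fun m => pcF m == 0 || pcF m == 8 || pcF m == 12 ||
    pcF m == 16 || pcF m == 24) (by decide +kernel) hm hc
  rw [pcF_eq hm] at this
  simpa [or_assoc] using this

theorem code_weight_zero {m : ℕ} (hm : m < 2 ^ 24) (h0 : pc 24 m = 0) : m = 0 := by
  rw [← mask_unmask m hm, ← card_eq_pc, Finset.card_eq_zero] at h0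
  rw [← mask_unmask m hm, h0, mask_empty]

theorem mem_octads_iff (o : Finset GolayPt) : o ∈ octads ↔ isCode (mask o) = true ∧ o.card = 8 := by
  unfold octads wordsOfWeight
  rw [Set.mem_ofPred_eq, mem_supports_iff]

theorem mem_dodecads_iff (o : Finset GolayPt) : o ∈ dodecads ↔ isCode (mask o) = true ∧ o.card = 12 := by
  unfold dodecads wordsOfWeight
  rw [Set.mem_ofPred_eq, mem_supports_iff]

theorem card_symmDiff_add (s t : Finset GolayPt) :
    (symmDiff s t).card + 2 * (s ∩ t).card = s.card + t.card := by
  have h1 : (symmDiff s t).card = (s \ t).card + (t \ s).card := by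
    rw [symmDiff_def, Finset.sup_eq_union, Finset.card_union_of_disjoint]
    exact Finset.disjoint_left.2 (fun x hx hx' => (Finset.mem_sdiff.1 hx).2 (Finset.mem_sdiff.1 hx').1)
  have h2 := Finset.card_sdiff_add_card_inter s t
  have h3 := Finset.card_sdiff_add_card_inter t s
  rw [Finset.inter_comm t s] at h3
  omega

/-- two codewords (as sets) that differ in fewer than 8 places are equal -/
theorem code_eq_of_symmDiff_lt {s t : Finset GolayPt} (hs : isCode (mask s) = true)
    (ht : isCode (mask t) = true) (h : (symmDiff s t).card < 8) : s = t := by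
  have hc : isCode (mask (symmDiff s t)) = true := by
    rw [mask_symmDiff]; exact isCode_xor _ _ hs ht
  have hw := code_weight (mask_lt _) hc
  rw [← card_eq_pc] at hw
  have h0 : (symmDiff s t).card = 0 := by omega
  rw [Finset.card_eq_zero] at h0
  exact symmDiff_eq_bot.1 h0

theorem octad_eq_of_inter {o o' : Finset GolayPt} (ho : o ∈ octads) (ho' : o' ∈ octads)
    (h : 5 ≤ (o ∩ o').card) : o = o' := by
  rw [mem_octads_iff] at ho ho'
  apply code_eq_of_symmDiff_lt ho.1 ho'.1
  have := card_symmDiff_add o o'
  omega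

theorem smul_mem_octads {g : Equiv.Perm GolayPt} (hg : g ∈ M24) {o : Finset GolayPt} (ho : o ∈ octads) :
    g • o ∈ octads := by
  rw [mem_octads_iff] at ho ⊢
  refine ⟨?_, by rw [Finset.card_smul_finset]; exact ho.2⟩
  rw [mask_smul]
  exact isCode_pm_of_mem hg (mask_lt _) ho.1

theorem smul_mem_dodecads {g : Equiv.Perm GolayPt} (hg : g ∈ M24) {o : Finset GolayPt} (ho : o ∈ dodecads) :
    g • o ∈ dodecads := by
  rw [mem_dodecads_iff] at ho ⊢
  refine ⟨?_, by rw [Finset.card_smul_finset]; exact ho.2⟩
  rw [mask_smul]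
  exact isCode_pm_of_mem hg (mask_lt _) ho.1

end Cfsg.Agent.Lib.Helper28
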