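/-
M24: explicit transversals along the base [∞,0,1,2,3,5,4], 5-transitivity, fixed point closure,
the order of M24.
-/
import Cfsg.Agent.Lib.Helper28.GolayCode

set_option autoImplicit false

namespace Cfsg.Agent.Lib.Helper28

open Cfsg
open scoped Pointwise

/-! ### transversals -/

/-- `T` is indexed by the target `y`; for every target in `targets` the table `T[y]` is in M24, fixes the
indices in `fixed` and maps `b` to `y`. -/
def checkLevel (fixed : List ℕ) (b : ℕ) (targets : List ℕ) (T : List (List ℕ)) : Bool :=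
  targets.all (fun y => inM24 (T.getD y []) && fixed.all (fun f => (T.getD y []).getD f 0 == f) &&
    ((T.getD y []).getD b 0 == y))

theorem checkLevel_spec {fixed : List ℕ} {b : ℕ} {targets : List ℕ} {T : List (List ℕ)}
    (h : checkLevel fixed b targets T = true) (hb : b < 24) (hf : ∀ f ∈ fixed, f < 24)
    (y : GolayPt) (hy : idx y ∈ targets) :
    ∃ u ∈ M24, (∀ f ∈ fixed, u (pt f) = pt f) ∧ u (pt b) = y := by
  simp only [checkLevel, List.all_eq_true, Bool.and_eq_true, beq_iff_eq] at h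
  obtain ⟨⟨h1, h2⟩, h3⟩ := h _ hy
  have hv : validTbl (T.getD (idx y) []) = true := by
    simp only [inM24, Bool.and_eq_true] at h1
    exact h1.1
  refine ⟨permOf (T.getD (idx y) []), permOf_mem_M24 h1, ?_, ?_⟩
  · intro f hff
    rw [permOf_apply hv, idx_pt f (hf f hff), h2 f hff]
  · rw [permOf_apply hv, idx_pt b hb, h3, pt_idx]

def trans1 : List (List ℕ) := [
  [23,22,11,15,17,9,19,13,20,5,16,2,21,7,18,3,10,4,14,6,8,12,1,0],
  [23,0,12,16,18,10,20,14,21,6,17,3,22,8,19,4,11,5,15,7,9,13,2,1],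
  [23,1,13,17,19,11,21,15,22,7,18,4,0,9,20,5,12,6,16,8,10,14,3,2],
  [23,2,14,18,20,12,22,16,0,8,19,5,1,10,21,6,13,7,17,9,11,15,4,3],
  [0,23,10,6,8,2,15,3,21,7,13,18,1,20,11,9,22,5,14,16,19,17,12,4],
  [0,23,16,6,11,17,21,15,12,9,14,10,1,8,7,20,3,13,19,2,4,18,22,5],
  [0,23,8,20,17,7,4,16,13,12,21,10,1,15,11,5,2,9,3,19,14,18,22,6],
  [0,23,16,11,14,21,20,15,9,13,6,18,1,8,4,17,2,12,3,19,5,22,10,7],
  [0,23,20,17,9,16,2,13,15,4,22,18,3,6,1,12,11,21,14,5,10,19,7,8],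
  [0,23,18,4,14,15,19,21,7,8,10,16,1,13,11,17,2,22,3,20,5,12,6,9],
  [23,0,6,12,9,7,2,4,13,20,17,3,1,21,18,19,22,15,8,11,14,5,16,10],
  [0,23,20,7,14,8,16,13,4,15,12,19,1,21,9,17,2,6,3,18,5,10,22,11],
  [23,0,9,3,13,11,7,22,19,1,17,18,20,8,10,6,15,14,21,5,4,2,16,12],
  [23,0,22,9,15,3,19,11,7,1,4,8,18,10,20,2,5,17,21,12,16,6,14,13],
  [0,23,20,7,17,13,16,4,8,22,2,15,18,10,1,11,6,12,3,9,21,5,19,14],
  [23,0,20,19,6,22,11,17,8,1,10,3,14,21,7,2,13,16,18,5,9,12,4,15],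
  [23,10,5,17,18,22,13,8,1,11,9,19,0,14,2,15,6,20,12,21,7,4,3,16],
  [0,23,18,22,6,14,4,20,19,9,5,15,1,21,16,10,3,12,13,2,8,7,11,17],
  [23,0,8,13,4,7,10,17,20,1,11,3,14,16,22,2,19,21,15,5,12,9,6,18],
  [23,1,9,14,5,8,11,18,21,2,12,4,15,17,0,3,20,22,16,6,13,10,7,19],
  [0,23,17,19,18,10,22,13,16,5,15,21,1,7,14,11,2,6,8,9,12,3,4,20],
  [23,0,19,20,10,12,4,17,13,1,6,3,14,15,9,2,8,18,16,5,7,22,11,21],
  [0,23,21,10,14,16,8,18,12,19,4,15,1,20,6,17,2,9,3,13,5,7,11,22],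
  [0,1,2,3,4,5,6,7,8,9,10,11,12,13,14,15,16,17,18,19,20,21,22,23]]

def trans2 : List (List ℕ) := [
  [0,1,2,3,4,5,6,7,8,9,10,11,12,13,14,15,16,17,18,19,20,21,22,23],
  [1,2,3,4,5,6,7,8,9,10,11,12,13,14,15,16,17,18,19,20,21,22,0,23],
  [2,3,4,5,6,7,8,9,10,11,12,13,14,15,16,17,18,19,20,21,22,0,1,23],
  [3,4,5,6,7,8,9,10,11,12,13,14,15,16,17,18,19,20,21,22,0,1,2,23],
  [4,1,3,6,20,18,21,13,8,5,22,16,12,11,15,9,19,2,14,7,10,17,0,23],
  [5,19,4,9,20,11,22,21,16,14,13,7,3,18,8,6,10,12,2,17,1,0,15,23],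
  [6,3,2,21,1,5,16,12,7,19,8,9,17,15,13,11,4,22,10,20,14,0,18,23],
  [7,13,3,22,15,10,19,20,17,5,14,1,21,2,16,8,11,12,4,6,9,18,0,23],
  [8,15,12,14,3,22,6,19,4,16,9,18,21,10,11,13,5,7,17,20,0,1,2,23],
  [9,20,3,16,13,10,15,12,6,11,18,21,14,17,8,5,22,19,1,7,2,4,0,23],
  [10,16,3,19,15,20,11,21,14,7,22,6,5,4,8,12,17,9,18,2,13,1,0,23],
  [11,17,4,20,16,21,12,22,15,8,0,7,6,5,9,13,18,10,19,3,14,2,1,23],
  [12,16,18,6,14,1,5,8,4,11,15,9,2,22,21,3,17,13,10,7,19,20,0,23],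
  [13,14,8,2,17,1,12,10,16,3,5,22,6,11,21,9,4,15,20,19,7,18,0,23],
  [14,13,19,11,17,15,5,6,12,21,16,8,18,2,9,3,7,20,10,4,0,1,22,23],
  [15,4,3,2,16,1,5,21,9,22,13,20,12,17,18,19,10,6,7,11,8,14,0,23],
  [16,3,19,15,20,11,21,14,7,22,6,5,4,8,12,17,9,18,2,13,1,0,10,23],
  [17,4,20,16,21,12,22,15,8,0,7,6,5,9,13,18,10,19,3,14,2,1,11,23],
  [18,6,3,2,21,1,5,16,12,7,19,8,9,17,15,13,11,4,22,10,20,14,0,23],
  [19,7,4,3,22,2,6,17,13,8,20,9,10,18,16,14,12,5,0,11,21,15,1,23],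
  [20,16,13,3,18,1,8,14,19,7,9,4,12,10,15,2,11,5,17,22,21,6,0,23],
  [21,11,3,2,18,1,5,15,7,12,8,19,22,17,16,20,6,10,9,4,13,14,0,23],
  [22,14,13,19,11,17,15,5,6,12,21,16,8,18,2,9,3,7,20,10,4,0,1,23],
  []]

def trans3 : List (List ℕ) := [
  [],
  [0,1,2,3,4,5,6,7,8,9,10,11,12,13,14,15,16,17,18,19,20,21,22,23],
  [0,2,18,3,1,10,4,20,9,16,21,14,13,8,19,15,12,22,6,17,5,7,11,23],
  [0,3,11,14,22,10,1,19,2,21,17,7,15,5,9,18,16,12,13,4,6,20,8,23],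
  [0,4,1,3,6,20,18,21,13,8,5,22,16,12,11,15,9,19,2,14,7,10,17,23],
  [0,5,1,13,16,21,20,18,2,4,8,17,14,19,11,15,12,9,3,6,7,22,10,23],
  [0,6,18,3,2,11,1,5,10,19,8,12,7,13,17,4,9,21,15,20,16,22,14,23],
  [0,7,13,3,22,15,10,19,20,17,5,14,1,21,2,16,8,11,12,4,6,9,18,23],
  [0,8,13,4,1,17,18,21,16,2,19,15,12,6,14,20,3,11,9,7,5,22,10,23],
  [0,9,20,3,16,13,10,15,12,6,11,18,21,14,17,8,5,22,19,1,7,2,4,23],
  [0,10,16,3,19,15,20,11,21,14,7,22,6,5,4,8,12,17,9,18,2,13,1,23],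
  [0,11,21,3,13,18,8,10,16,14,22,7,4,5,6,20,9,17,12,15,2,19,1,23],
  [0,12,16,18,6,14,1,5,8,4,11,15,9,2,22,21,3,17,13,10,7,19,20,23],
  [0,13,14,8,2,17,1,12,10,16,3,5,22,6,11,21,9,4,15,20,19,7,18,23],
  [0,14,2,3,12,5,7,8,6,20,22,9,13,4,17,21,15,1,18,10,11,16,19,23],
  [0,15,4,3,2,16,1,5,21,9,22,13,20,12,17,18,19,10,6,7,11,8,14,23],
  [0,16,11,3,2,8,1,14,7,13,18,12,4,9,5,10,19,22,21,6,20,15,17,23],
  [0,17,21,18,2,6,1,8,15,5,19,7,14,13,11,22,10,3,9,20,4,16,12,23],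
  [0,18,6,3,2,21,1,5,16,12,7,19,8,9,17,15,13,11,4,22,10,20,14,23],
  [0,19,10,8,5,21,7,4,17,18,3,20,14,12,15,22,16,11,6,13,2,9,1,23],
  [0,20,16,13,3,18,1,8,14,19,7,9,4,12,10,15,2,11,5,17,22,21,6,23],
  [0,21,11,3,2,18,1,5,15,7,12,8,19,22,17,16,20,6,10,9,4,13,14,23],
  [0,22,14,13,9,15,21,11,18,6,7,17,16,8,5,4,19,10,12,20,3,2,1,23],
  []]

def trans4 : List (List ℕ) := [
  [],
  [],
  [0,1,2,3,4,5,6,7,8,9,10,11,12,13,14,15,16,17,18,19,20,21,22,23],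
  [0,1,3,13,5,8,16,7,4,12,22,11,19,2,6,15,14,10,20,9,21,18,17,23],
  [0,1,4,15,19,5,21,10,12,2,22,17,6,3,8,16,20,7,9,18,13,14,11,23],
  [0,1,5,8,19,7,18,6,2,13,11,14,17,12,4,21,10,15,3,22,9,20,16,23],
  [0,1,6,18,13,5,16,11,9,2,7,17,4,3,20,21,8,22,12,15,19,14,10,23],
  [0,1,7,14,19,13,10,17,18,5,4,9,16,21,20,15,2,12,3,22,8,11,6,23],
  [0,1,8,9,12,22,10,3,15,16,20,4,5,2,14,21,18,19,7,6,17,13,11,23],
  [0,1,9,13,18,5,8,22,6,2,10,17,12,3,21,20,16,11,4,19,15,14,7,23],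
  [0,1,10,20,3,15,17,22,21,5,16,4,14,8,9,12,6,2,18,11,19,7,13,23],
  [0,1,11,3,16,19,2,12,5,22,17,9,13,14,20,10,15,4,21,18,7,8,6,23],
  [0,1,12,14,2,7,22,21,19,4,9,5,16,8,20,6,18,13,10,3,17,15,11,23],
  [0,1,13,12,17,7,5,11,10,2,16,6,3,19,20,22,18,14,8,9,4,21,15,23],
  [0,1,14,13,9,12,10,4,6,2,3,11,15,8,7,17,22,20,16,21,5,18,19,23],
  [0,1,15,7,3,5,19,17,2,11,6,9,20,21,8,14,22,4,10,18,16,13,12,23],
  [0,1,16,12,3,5,8,17,2,6,11,22,13,18,19,14,9,10,4,21,15,20,7,23],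
  [0,1,17,6,2,9,11,10,15,8,16,19,18,14,4,20,3,12,13,7,21,22,5,23],
  [0,1,18,6,9,5,10,21,13,2,8,17,15,3,22,11,7,20,19,4,12,14,16,23],
  [0,1,19,17,7,18,5,16,3,8,14,11,4,2,13,9,21,15,20,10,22,12,6,23],
  [0,1,20,18,9,5,4,11,21,12,14,16,17,10,22,13,2,6,8,3,7,19,15,23],
  [0,1,21,9,3,5,20,17,2,4,10,7,19,15,13,14,12,11,6,16,18,8,22,23],
  [0,1,22,14,13,19,11,17,15,5,6,12,21,16,8,18,2,9,3,7,20,10,4,23],
  []]

def trans5 : List (List ℕ) := [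
  [],
  [],
  [],
  [0,1,2,3,4,5,6,7,8,9,10,11,12,13,14,15,16,17,18,19,20,21,22,23],
  [0,1,2,4,19,16,17,5,12,15,9,11,18,6,22,10,7,13,8,3,20,14,21,23],
  [0,1,2,5,8,3,9,10,13,19,21,4,22,11,17,6,12,14,16,15,7,20,18,23],
  [0,1,2,6,13,21,17,5,9,18,12,10,15,4,7,11,22,19,20,3,8,14,16,23],
  [0,1,2,7,4,19,14,3,20,18,12,15,10,13,6,11,16,21,9,5,8,17,22,23],
  [0,1,2,8,15,12,14,3,22,6,19,4,16,9,18,21,10,11,13,5,7,17,20,23],
  [0,1,2,9,3,15,13,22,21,8,11,7,6,5,20,12,14,10,19,16,18,4,17,23],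
  [0,1,2,10,8,15,17,5,7,16,22,6,21,11,9,4,12,20,19,3,13,14,18,23],
  [0,1,2,11,20,8,13,16,21,14,5,19,7,9,18,17,15,12,6,4,3,22,10,23],
  [0,1,2,12,3,18,19,7,16,20,10,22,4,5,8,9,14,11,13,21,15,6,17,23],
  [0,1,2,13,3,22,19,21,15,11,18,10,20,17,16,12,5,4,9,6,8,7,14,23],
  [0,1,2,14,4,3,9,20,19,12,8,21,6,22,5,11,13,17,7,10,18,15,16,23],
  [0,1,2,15,3,10,18,8,13,7,19,22,16,17,20,6,5,9,4,12,21,11,14,23],
  [0,1,2,16,19,4,14,3,11,9,15,12,8,6,13,20,7,22,18,5,10,17,21,23],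
  [0,1,2,17,19,14,4,22,9,11,12,15,20,6,5,8,7,3,10,13,18,16,21,23],
  [0,1,2,18,9,8,21,19,14,13,4,3,5,10,12,22,15,11,17,7,16,6,20,23],
  [0,1,2,19,3,7,13,16,18,10,15,11,8,17,21,9,5,6,12,4,20,22,14,23],
  [0,1,2,20,18,9,14,3,7,4,13,6,21,12,15,16,11,10,19,5,22,17,8,23],
  [0,1,2,21,12,7,5,14,13,10,9,22,16,11,6,20,18,19,4,3,15,17,8,23],
  [0,1,2,22,21,16,18,8,20,14,5,15,10,6,13,17,19,4,9,12,3,11,7,23],
  []]

def trans6 : List (List ℕ) := [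
  [],
  [],
  [],
  [],
  [],
  [0,1,2,3,4,5,6,7,8,9,10,11,12,13,14,15,16,17,18,19,20,21,22,23],
  [],
  [],
  [],
  [],
  [],
  [],
  [],
  [],
  [0,1,2,3,21,14,11,18,4,9,20,22,13,19,17,10,7,5,16,12,15,8,6,23],
  [],
  [],
  [0,1,2,3,8,17,22,16,21,9,15,6,19,12,5,20,18,14,7,13,10,4,11,23],
  [],
  [],
  [],
  [],
  [],
  []]

def trans7 : List (List ℕ) := [
  [],
  [],
  [],
  [],
  [0,1,2,3,4,5,6,7,8,9,10,11,12,13,14,15,16,17,18,19,20,21,22,23],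
  [],
  [0,1,2,3,6,5,4,22,20,12,11,10,9,19,14,18,21,17,15,13,8,16,7,23],
  [0,1,2,3,7,5,22,4,15,11,12,9,10,21,14,8,19,17,20,16,18,13,6,23],
  [0,1,2,3,8,5,20,15,4,21,19,13,16,11,14,7,12,17,22,10,6,9,18,23],
  [0,1,2,3,9,5,12,11,21,4,22,7,6,15,14,13,20,17,19,18,16,8,10,23],
  [0,1,2,3,10,5,11,12,19,22,4,6,7,20,14,16,15,17,21,8,13,18,9,23],
  [0,1,2,3,11,5,10,9,13,7,6,4,22,8,14,21,18,17,16,20,19,15,12,23],
  [0,1,2,3,12,5,9,10,16,6,7,22,4,18,14,19,8,17,13,15,21,20,11,23],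
  [0,1,2,3,13,5,19,21,11,15,20,8,18,4,14,9,22,17,12,6,10,7,16,23],
  [],
  [0,1,2,3,15,5,18,8,7,13,16,21,19,9,14,4,10,17,6,12,22,11,20,23],
  [0,1,2,3,16,5,21,19,12,20,15,18,8,22,14,10,4,17,11,7,9,6,13,23],
  [],
  [0,1,2,3,18,5,15,20,22,19,21,16,13,12,14,6,11,17,4,9,7,10,8,23],
  [0,1,2,3,19,5,13,16,10,18,8,20,15,6,14,12,7,17,9,4,11,22,21,23],
  [0,1,2,3,20,5,8,18,6,16,13,19,21,10,14,22,9,17,7,11,4,12,15,23],
  [0,1,2,3,21,5,16,13,9,8,18,15,20,7,14,11,6,17,10,22,12,4,19,23],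
  [0,1,2,3,22,5,7,6,18,10,9,12,11,16,14,20,13,17,8,21,15,19,4,23],
  []]


theorem level1 : checkLevel [] 23 (List.range 24) trans1 = true := by decide +kernel
theorem level2 : checkLevel [23] 0 ((List.range 24).filter (fun y => !([23].contains y))) trans2 = true := by
  decide +kernel
theorem level3 : checkLevel [23, 0] 1 ((List.range 24).filter (fun y => !([23, 0].contains y))) trans3 = true := by
  decide +kernel
theorem level4 : checkLevel [23, 0, 1] 2 ((List.range 24).filter (fun y => !([23, 0, 1].contains y))) trans4 = true := by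
  decide +kernel
theorem level5 : checkLevel [23, 0, 1, 2] 3 ((List.range 24).filter (fun y => !([23, 0, 1, 2].contains y))) trans5 = true := by
  decide +kernel
theorem level6 : checkLevel [23, 0, 1, 2, 3] 5 [5, 14, 17] trans6 = true := by decide +kernel
theorem level7 : checkLevel [23, 0, 1, 2, 3, 5] 4
    ((List.range 24).filter (fun y => !([0, 1, 2, 3, 5, 14, 17, 23].contains y))) trans7 = true := by decide +kernel

/-- extension step: a partial solution `g` can be corrected so that one more base point goes to `y` -/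
theorem extend_step {fixed : List ℕ} {b : ℕ} {T : List (List ℕ)}
    (h : checkLevel fixed b ((List.range 24).filter (fun y => !(fixed.contains y))) T = true)
    (hb : b < 24) (hf : ∀ f ∈ fixed, f < 24)
    {g : Equiv.Perm GolayPt} (hg : g ∈ M24) (y : GolayPt) (hy : ∀ f ∈ fixed, g (pt f) ≠ y) :
    ∃ g' ∈ M24, (∀ f ∈ fixed, g' (pt f) = g (pt f)) ∧ g' (pt b) = y := by
  have hy' : idx (g⁻¹ y) ∈ (List.range 24).filter (fun y => !(fixed.contains y)) := by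
    simp only [List.mem_filter, List.mem_range, idx_lt, true_and, Bool.not_eq_true',
      List.contains_eq_mem, decide_eq_false_iff_not]
    intro hmem
    apply hy _ hmem
    rw [pt_idx]; simp
  obtain ⟨u, hu, hu1, hu2⟩ := checkLevel_spec h hb hf (g⁻¹ y) hy'
  refine ⟨g * u, M24.mul_mem hg hu, ?_, ?_⟩
  · intro f hff
    rw [Equiv.Perm.mul_apply, hu1 f hff]
  · rw [Equiv.Perm.mul_apply, hu2]; simp

/-- from the base to any five distinct points -/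
theorem M24_base_to (y : Fin 5 → GolayPt) (hy : Function.Injective y) :
    ∃ g ∈ M24, g (pt 23) = y 0 ∧ g (pt 0) = y 1 ∧ g (pt 1) = y 2 ∧ g (pt 2) = y 3 ∧ g (pt 3) = y 4 := by
  have hne : ∀ i j : Fin 5, i ≠ j → y i ≠ y j := fun i j hij h => hij (hy h)
  obtain ⟨g1, hg1, -, h1⟩ := extend_step (fixed := []) level1 (by norm_num) (by simp) M24.one_mem (y 0) (by simp)
  obtain ⟨g2, hg2, h2a, h2⟩ := extend_step (fixed := [23]) level2 (by norm_num) (by simp) hg1 (y 1) (by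
    intro f hf
    simp only [List.mem_singleton] at hf
    subst hf; rw [h1]; exact hne _ _ (by decide))
  have e20 : g2 (pt 23) = y 0 := by rw [h2a 23 (by simp), h1]
  obtain ⟨g3, hg3, h3a, h3⟩ := extend_step (fixed := [23, 0]) level3 (by norm_num) (by simp) hg2 (y 2) (by
    intro f hf
    simp only [List.mem_cons, List.not_mem_nil, or_false] at hf
    rcases hf with rfl | rfl
    · rw [e20]; exact hne _ _ (by decide)
    · rw [h2]; exact hne _ _ (by decide))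
  have e30 : g3 (pt 23) = y 0 := by rw [h3a 23 (by simp), e20]
  have e31 : g3 (pt 0) = y 1 := by rw [h3a 0 (by simp), h2]
  obtain ⟨g4, hg4, h4a, h4⟩ := extend_step (fixed := [23, 0, 1]) level4 (by norm_num) (by simp) hg3 (y 3) (by
    intro f hf
    simp only [List.mem_cons, List.not_mem_nil, or_false] at hf
    rcases hf with rfl | rfl | rfl
    · rw [e30]; exact hne _ _ (by decide)
    · rw [e31]; exact hne _ _ (by decide)
    · rw [h3]; exact hne _ _ (by decide))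
  have e40 : g4 (pt 23) = y 0 := by rw [h4a 23 (by simp), e30]
  have e41 : g4 (pt 0) = y 1 := by rw [h4a 0 (by simp), e31]
  have e42 : g4 (pt 1) = y 2 := by rw [h4a 1 (by simp), h3]
  obtain ⟨g5, hg5, h5a, h5⟩ := extend_step (fixed := [23, 0, 1, 2]) level5 (by norm_num) (by simp) hg4 (y 4) (by
    intro f hf
    simp only [List.mem_cons, List.not_mem_nil, or_false] at hf
    rcases hf with rfl | rfl | rfl | rfl
    · rw [e40]; exact hne _ _ (by decide)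
    · rw [e41]; exact hne _ _ (by decide)
    · rw [e42]; exact hne _ _ (by decide)
    · rw [h4]; exact hne _ _ (by decide))
  refine ⟨g5, hg5, ?_, ?_, ?_, ?_, h5⟩
  · rw [h5a 23 (by simp), e40]
  · rw [h5a 0 (by simp), e41]
  · rw [h5a 1 (by simp), e42]
  · rw [h5a 2 (by simp), h4]

/-- M24 is 5-transitive on the 24 points -/
theorem M24_five_trans (x y : Fin 5 → GolayPt) (hx : Function.Injective x) (hy : Function.Injective y) :
    ∃ g ∈ M24, ∀ i, g (x i) = y i := by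
  obtain ⟨a, ha, a0, a1, a2, a3, a4⟩ := M24_base_to x hx
  obtain ⟨b, hb, b0, b1, b2, b3, b4⟩ := M24_base_to y hy
  refine ⟨b * a⁻¹, M24.mul_mem hb (M24.inv_mem ha), ?_⟩
  intro i
  fin_cases i
  · show (b * a⁻¹) (x 0) = y 0
    rw [← a0, ← b0]; simp
  · show (b * a⁻¹) (x 1) = y 1
    rw [← a1, ← b1]; simp
  · show (b * a⁻¹) (x 2) = y 2
    rw [← a2, ← b2]; simp
  · show (b * a⁻¹) (x 3) = y 3
    rw [← a3, ← b3]; simp
  · show (b * a⁻¹) (x 4) = y 4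
    rw [← a4, ← b4]; simp

end Cfsg.Agent.Lib.Helper28
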