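/-
Fixed point closure for elements of M24, the trivial stabilizer of the base, the order of M24.
-/
import Cfsg.Agent.Lib.Helper28.GolayM24

set_option autoImplicit false

namespace Cfsg.Agent.Lib.Helper28

open Cfsg
open scoped Pointwise

theorem unmask_and (a b : ℕ) : unmask (a &&& b) = unmask a ∩ unmask b := by
  ext p; simp [mem_unmask, Nat.testBit_and]

theorem unmask_or (a b : ℕ) : unmask (a ||| b) = unmask a ∪ unmask b := by
  ext p; simp [mem_unmask, Nat.testBit_or]

theorem unmask_xor (a b : ℕ) : unmask (a ^^^ b) = symmDiff (unmask a) (unmask b) := by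
  ext p
  simp only [mem_unmask, Nat.testBit_xor, Finset.mem_symmDiff]
  cases a.testBit (idx p) <;> cases b.testBit (idx p) <;> simp

theorem card_unmask {m : ℕ} (hm : m < 2 ^ 24) : (unmask m).card = pc 24 m := by
  rw [card_eq_pc, mask_unmask m hm]

theorem unmask_mem_octads {m : ℕ} (hm : m < 2 ^ 24) (hc : isCode m = true) (h8 : pc 24 m = 8) :
    unmask m ∈ octads := by
  rw [mem_octads_iff, mask_unmask m hm, card_unmask hm]
  exact ⟨hc, h8⟩

theorem and_lt_left {a : ℕ} (b : ℕ) (ha : a < 2 ^ 24) : a &&& b < 2 ^ 24 :=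
  lt_of_le_of_lt Nat.and_le_left ha

/-- an element of M24 fixing 5 points of an octad fixes the octad -/
theorem smul_octad_eq_of_fixes {g : Equiv.Perm GolayPt} (hg : g ∈ M24) {o F : Finset GolayPt}
    (ho : o ∈ octads) (hF : ∀ p ∈ F, g p = p) (h5 : 5 ≤ (o ∩ F).card) : g • o = o := by
  apply octad_eq_of_inter (smul_mem_octads hg ho) ho
  refine le_trans h5 (Finset.card_le_card ?_)
  intro p hp
  rw [Finset.mem_inter] at hp ⊢
  refine ⟨?_, hp.1⟩
  rw [← hF p hp.2]
  exact Finset.smul_mem_smul_finset hp.1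

theorem apply_mem_of_smul_eq {g : Equiv.Perm GolayPt} {o : Finset GolayPt} (h : g • o = o) {p : GolayPt}
    (hp : p ∈ o) : g p ∈ o := by
  rw [← h]; exact Finset.smul_mem_smul_finset hp

/-- `g` fixes every point of the mask `F` -/
def FixesMask (g : Equiv.Perm GolayPt) (F : ℕ) : Prop := ∀ p, F.testBit (idx p) = true → g p = p

/-- one step of the fixed point closure: two octads with at least five known fixed points each whose
intersection has exactly one point not yet known to be fixed -/
def fixStep (F : ℕ) (c : ℕ × ℕ) : ℕ :=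
  if (decide (c.1 < 2 ^ 24) && decide (c.2 < 2 ^ 24) && isCodeF c.1 && isCodeF c.2 && (pcF c.1 == 8) &&
      (pcF c.2 == 8) && decide (5 ≤ pcF (c.1 &&& F)) && decide (5 ≤ pcF (c.2 &&& F)) &&
      (pcF ((c.1 &&& c.2) ^^^ ((c.1 &&& c.2) &&& F)) == 1)) = true
  then F ||| (c.1 &&& c.2) else F

theorem fixStep_spec {g : Equiv.Perm GolayPt} (hg : g ∈ M24) {F : ℕ} (hF : FixesMask g F) (c : ℕ × ℕ) :
    FixesMask g (fixStep F c) := by
  unfold fixStep
  split_ifs with h
  · simp only [Bool.and_eq_true, decide_eq_true_eq, beq_iff_eq] at h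
    obtain ⟨⟨⟨⟨⟨⟨⟨⟨h1, h2⟩, h3⟩, h4⟩, h5⟩, h6⟩, h7⟩, h8⟩, h9⟩ := h
    rw [isCodeF_eq h1] at h3
    rw [isCodeF_eq h2] at h4
    rw [pcF_eq h1] at h5
    rw [pcF_eq h2] at h6
    rw [pcF_eq (and_lt_left _ h1), ← card_unmask (and_lt_left _ h1), unmask_and] at h7
    rw [pcF_eq (and_lt_left _ h2), ← card_unmask (and_lt_left _ h2), unmask_and] at h8
    have hx : (c.1 &&& c.2) ^^^ ((c.1 &&& c.2) &&& F) < 2 ^ 24 :=
      Nat.xor_lt_two_pow (and_lt_left _ h1) (and_lt_left _ (and_lt_left _ h1))
    rw [pcF_eq hx, ← card_unmask hx] at h9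
    have ho1 := unmask_mem_octads h1 h3 h5
    have ho2 := unmask_mem_octads h2 h4 h6
    have hFF : ∀ p ∈ unmask F, g p = p := fun p hp => hF p ((mem_unmask _ _).1 hp)
    have e1 := smul_octad_eq_of_fixes hg ho1 hFF h7
    have e2 := smul_octad_eq_of_fixes hg ho2 hFF h8
    have hX : ∀ p, p ∈ unmask ((c.1 &&& c.2) ^^^ ((c.1 &&& c.2) &&& F)) ↔
        p ∈ unmask c.1 ∧ p ∈ unmask c.2 ∧ p ∉ unmask F := by
      intro p
      simp only [mem_unmask, Nat.testBit_xor, Nat.testBit_and]
      cases c.1.testBit (idx p) <;> cases c.2.testBit (idx p) <;> cases F.testBit (idx p) <;> simp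
    obtain ⟨q, hq⟩ := Finset.card_eq_one.1 h9
    intro p hp
    rw [Nat.testBit_or, Bool.or_eq_true] at hp
    by_cases hpF : F.testBit (idx p) = true
    · exact hF p hpF
    · have hp' : (c.1 &&& c.2).testBit (idx p) = true := hp.resolve_left hpF
      rw [Nat.testBit_and, Bool.and_eq_true] at hp'
      have m1 : p ∈ unmask c.1 := (mem_unmask _ _).2 hp'.1
      have m2 : p ∈ unmask c.2 := (mem_unmask _ _).2 hp'.2
      have m3 : p ∉ unmask F := fun h => hpF ((mem_unmask _ _).1 h)
      have hpX : p ∈ unmask ((c.1 &&& c.2) ^^^ ((c.1 &&& c.2) &&& F)) := (hX p).2 ⟨m1, m2, m3⟩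
      have hgX : g p ∈ unmask ((c.1 &&& c.2) ^^^ ((c.1 &&& c.2) &&& F)) := by
        refine (hX _).2 ⟨apply_mem_of_smul_eq e1 m1, apply_mem_of_smul_eq e2 m2, ?_⟩
        intro hgF
        have := hFF _ hgF
        exact m3 (g.injective this ▸ hgF)
      rw [hq, Finset.mem_singleton] at hpX hgX
      rw [hgX, hpX]
  · exact hF

/-- fixed point closure along a certificate -/
def fixClose (F : ℕ) (cs : List (ℕ × ℕ)) : ℕ := cs.foldl fixStep F

theorem fixClose_spec {g : Equiv.Perm GolayPt} (hg : g ∈ M24) {F : ℕ} (hF : FixesMask g F)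
    (cs : List (ℕ × ℕ)) : FixesMask g (fixClose F cs) := by
  induction cs generalizing F with
  | nil => exact hF
  | cons c cs ih => exact ih (fixStep_spec hg hF c)

theorem eq_one_of_fixesMask {g : Equiv.Perm GolayPt} (h : FixesMask g (2 ^ 24 - 1)) : g = 1 := by
  refine Equiv.ext fun p => ?_
  apply h
  rw [Nat.testBit_two_pow_sub_one]
  simp [idx_lt]

/-- an element of M24 fixing the points of `F` is trivial as soon as a certificate closes `F` up to
all 24 points -/
theorem eq_one_of_fixClose {g : Equiv.Perm GolayPt} (hg : g ∈ M24) {F : ℕ} (hF : FixesMask g F)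
    (cs : List (ℕ × ℕ)) (h : fixClose F cs = 2 ^ 24 - 1) : g = 1 :=
  eq_one_of_fixesMask (h ▸ fixClose_spec hg hF cs)

/-- certificate for the base [∞,0,1,2,3,5,4] -/
def baseCert : List (ℕ × ℕ) := [(5279, 8391797), (5279, 8421811), (5279, 8394986), (10558, 42232), (10558, 133817), (10558, 15777), (18147, 36294), (18147, 69395), (18147, 21116), (36294, 39257), (69395, 72588), (133817, 138790), (262637, 267634), (525274, 530245), (1050548, 1053483), (2101096, 2106966), (4196943, 4202192)]

theorem baseCert_closes : fixClose (2 ^ 23 + 2 ^ 0 + 2 ^ 1 + 2 ^ 2 + 2 ^ 3 + 2 ^ 5 + 2 ^ 4) baseCert = 2 ^ 24 - 1 := by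
  decide +kernel

theorem fixesMask_of_list {g : Equiv.Perm GolayPt} (l : List ℕ) (h : ∀ f ∈ l, g (pt f) = pt f) :
    FixesMask g (l.foldr (fun f acc => 2 ^ f ||| acc) 0) := by
  induction l with
  | nil => intro p hp; simp at hp
  | cons a l ih =>
    intro p hp
    simp only [List.foldr_cons, Nat.testBit_or, Bool.or_eq_true, Nat.testBit_two_pow,
      decide_eq_true_eq] at hp
    rcases hp with hp | hp
    · have := h a (by simp)
      rw [hp, pt_idx] at this
      exact this
    · exact ih (fun f hf => h f (by simp [hf])) p hp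

/-- an element of M24 fixing the seven base points is trivial -/
theorem eq_one_of_fixes_base {g : Equiv.Perm GolayPt} (hg : g ∈ M24)
    (h : ∀ f ∈ [23, 0, 1, 2, 3, 5, 4], g (pt f) = pt f) : g = 1 := by
  apply eq_one_of_fixClose hg (fixesMask_of_list _ h) baseCert
  decide +kernel

/-! ### the order of M24 -/

/-- the elements of M24 fixing the points with indices in `F` -/
def fixG (F : List ℕ) : Subgroup (Equiv.Perm GolayPt) where
  carrier := {g | g ∈ M24 ∧ ∀ f ∈ F, g (pt f) = pt f}
  mul_mem' := by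
    rintro a b ⟨ha, ha'⟩ ⟨hb, hb'⟩
    exact ⟨M24.mul_mem ha hb, fun f hf => by rw [Equiv.Perm.mul_apply, hb' f hf, ha' f hf]⟩
  one_mem' := ⟨M24.one_mem, fun _ _ => rfl⟩
  inv_mem' := by
    rintro a ⟨ha, ha'⟩
    exact ⟨M24.inv_mem ha, fun f hf => by rw [Equiv.Perm.inv_eq_iff_eq, ha' f hf]⟩

theorem mem_fixG {F : List ℕ} {g : Equiv.Perm GolayPt} :
    g ∈ fixG F ↔ g ∈ M24 ∧ ∀ f ∈ F, g (pt f) = pt f := Iff.rfl

theorem fixG_nil : fixG [] = M24 := by
  ext g; simp [mem_fixG]

/-- orbit-stabilizer step along a chain of pointwise stabilizers -/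
theorem card_fixG_step (F F' : List ℕ) (b : ℕ) (hF' : ∀ f, f ∈ F' ↔ f ∈ F ∨ f = b) (targets : Finset GolayPt)
    (hu : ∀ y ∈ targets, ∃ u ∈ M24, (∀ f ∈ F, u (pt f) = pt f) ∧ u (pt b) = y)
    (hsub : ∀ g ∈ fixG F, g (pt b) ∈ targets) :
    Nat.card (fixG F) = targets.card * Nat.card (fixG F') := by
  classical
  choose! u hu1 hu2 hu3 using hu
  let e : fixG F ≃ targets × fixG F' :=
    { toFun := fun g => (⟨g.1 (pt b), hsub g.1 g.2⟩, ⟨(u (g.1 (pt b)))⁻¹ * g.1, by
        have ht := hsub g.1 g.2
        refine ⟨M24.mul_mem (M24.inv_mem (hu1 _ ht)) g.2.1, ?_⟩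
        intro f hf
        rw [Equiv.Perm.mul_apply, Equiv.Perm.inv_eq_iff_eq]
        rcases (hF' f).1 hf with h | h
        · rw [g.2.2 f h, hu2 _ ht f h]
        · rw [h, hu3 _ ht]⟩)
      invFun := fun x => ⟨u x.1.1 * x.2.1, by
        refine ⟨M24.mul_mem (hu1 _ x.1.2) x.2.2.1, ?_⟩
        intro f hf
        rw [Equiv.Perm.mul_apply, x.2.2.2 f ((hF' f).2 (Or.inl hf)), hu2 _ x.1.2 f hf]⟩
      left_inv := by
        intro g
        apply Subtype.ext
        simp
      right_inv := by
        rintro ⟨⟨y, hy⟩, ⟨h, hh⟩⟩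
        have h1 : (u y * h) (pt b) = y := by
          rw [Equiv.Perm.mul_apply, hh.2 b ((hF' b).2 (Or.inr rfl)), hu3 y hy]
        apply Prod.ext
        · apply Subtype.ext
          exact h1
        · apply Subtype.ext
          show (u ((u y * h) (pt b)))⁻¹ * (u y * h) = h
          rw [h1]; simp }
  rw [Nat.card_congr e, Nat.card_prod]
  simp

theorem pt_injOn {i j : ℕ} (hi : i < 24) (hj : j < 24) (h : pt i = pt j) : i = j := by
  rw [← idx_pt i hi, h, idx_pt j hj]

/-- the image of a new base point avoids the fixed points -/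
theorem fixG_apply_notMem {F : List ℕ} {b : ℕ} (hb : b < 24) (hbF : b ∉ F)
    {g : Equiv.Perm GolayPt} (hg : g ∈ fixG F) : idx (g (pt b)) ∉ F := by
  intro h
  have h1 := hg.2 _ h
  rw [pt_idx] at h1
  have h2 := g.injective h1
  have h3 : idx (g (pt b)) = b := by rw [h2, idx_pt b hb]
  exact hbF (h3 ▸ h)

/-- the standard octad {0,1,2,3,5,14,17,∞} -/
def stdOctad : Finset GolayPt := unmask 8536111

theorem stdOctad_mem : stdOctad ∈ octads :=
  unmask_mem_octads (by norm_num) (by decide +kernel) (by decide +kernel)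

theorem fixG5_smul_stdOctad {g : Equiv.Perm GolayPt} (hg : g ∈ fixG [23, 0, 1, 2, 3]) :
    g • stdOctad = stdOctad := by
  apply smul_octad_eq_of_fixes hg.1 stdOctad_mem (F := unmask (2 ^ 23 + 2 ^ 0 + 2 ^ 1 + 2 ^ 2 + 2 ^ 3))
  · intro p hp
    have := fixesMask_of_list _ hg.2 p
    apply this
    exact (mem_unmask _ _).1 hp
  · unfold stdOctad
    rw [← unmask_and, card_unmask (by decide)]
    decide +kernel

theorem card_M24 : Nat.card M24 = 244823040 := by
  have s1 := card_fixG_step [] [23] 23 (by simp) (Finset.univ.filter (fun y => idx y ∈ List.range 24))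
    (fun y hy => checkLevel_spec level1 (by norm_num) (by simp) y (by simpa using hy))
    (fun g _ => by simp [idx_lt])
  have s2 := card_fixG_step [23] [23, 0] 0 (by simp)
    (Finset.univ.filter (fun y => idx y ∈ (List.range 24).filter (fun y => !([23].contains y))))
    (fun y hy => checkLevel_spec level2 (by norm_num) (by simp) y (by simpa using hy))
    (fun g hg => by
      have := fixG_apply_notMem (b := 0) (by norm_num) (by simp) hg
      simpa [idx_lt] using this)
  have s3 := card_fixG_step [23, 0] [23, 0, 1] 1 (by simp [or_assoc])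
    (Finset.univ.filter (fun y => idx y ∈ (List.range 24).filter (fun y => !([23, 0].contains y))))
    (fun y hy => checkLevel_spec level3 (by norm_num) (by simp) y (by simpa using hy))
    (fun g hg => by
      have := fixG_apply_notMem (b := 1) (by norm_num) (by simp) hg
      simpa [idx_lt] using this)
  have s4 := card_fixG_step [23, 0, 1] [23, 0, 1, 2] 2 (by simp [or_assoc])
    (Finset.univ.filter (fun y => idx y ∈ (List.range 24).filter (fun y => !([23, 0, 1].contains y))))
    (fun y hy => checkLevel_spec level4 (by norm_num) (by simp) y (by simpa using hy))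
    (fun g hg => by
      have := fixG_apply_notMem (b := 2) (by norm_num) (by simp) hg
      simpa [idx_lt] using this)
  have s5 := card_fixG_step [23, 0, 1, 2] [23, 0, 1, 2, 3] 3 (by simp [or_assoc])
    (Finset.univ.filter (fun y => idx y ∈ (List.range 24).filter (fun y => !([23, 0, 1, 2].contains y))))
    (fun y hy => checkLevel_spec level5 (by norm_num) (by simp) y (by simpa using hy))
    (fun g hg => by
      have := fixG_apply_notMem (b := 3) (by norm_num) (by simp) hg
      simpa [idx_lt] using this)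
  have s6 := card_fixG_step [23, 0, 1, 2, 3] [23, 0, 1, 2, 3, 5] 5 (by simp [or_assoc])
    (Finset.univ.filter (fun y => idx y ∈ [5, 14, 17]))
    (fun y hy => checkLevel_spec level6 (by norm_num) (by simp) y (by simpa using hy))
    (fun g hg => by
      have h1 := fixG_apply_notMem (b := 5) (by norm_num) (by simp) hg
      have h2 : g (pt 5) ∈ stdOctad := apply_mem_of_smul_eq (fixG5_smul_stdOctad hg) (by decide +kernel)
      generalize g (pt 5) = q at h1 h2
      revert q
      decide +kernel)
  have s7 := card_fixG_step [23, 0, 1, 2, 3, 5] [23, 0, 1, 2, 3, 5, 4] 4 (by simp [or_assoc])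
    (Finset.univ.filter (fun y => idx y ∈ (List.range 24).filter (fun y => !([0, 1, 2, 3, 5, 14, 17, 23].contains y))))
    (fun y hy => checkLevel_spec level7 (by norm_num) (by simp) y (by simpa using hy))
    (fun g hg => by
      have hg5 : g ∈ fixG [23, 0, 1, 2, 3] := ⟨hg.1, fun f hf => hg.2 f (by
        simp only [List.mem_cons, List.not_mem_nil, or_false] at hf ⊢; tauto)⟩
      have h2 : g (pt 4) ∉ stdOctad := by
        intro h
        have h3 : g⁻¹ • stdOctad = stdOctad := by
          rw [inv_smul_eq_iff, fixG5_smul_stdOctad hg5]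
        have h4 := apply_mem_of_smul_eq h3 h
        have h5 : g⁻¹ (g (pt 4)) = pt 4 := by simp
        rw [h5] at h4
        revert h4
        decide +kernel
      generalize g (pt 4) = q at h2
      revert q
      decide +kernel)
  have s8 : Nat.card (fixG [23, 0, 1, 2, 3, 5, 4]) = 1 := by
    have : fixG [23, 0, 1, 2, 3, 5, 4] = ⊥ := by
      rw [eq_bot_iff]
      intro g hg
      exact Subgroup.mem_bot.2 (eq_one_of_fixes_base hg.1 hg.2)
    rw [this]; simp
  have c1 : (Finset.univ.filter (fun y : GolayPt => idx y ∈ List.range 24)).card = 24 := by decide +kernel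
  have c2 : (Finset.univ.filter (fun y : GolayPt => idx y ∈ (List.range 24).filter (fun y => !([23].contains y)))).card = 23 := by decide +kernel
  have c3 : (Finset.univ.filter (fun y : GolayPt => idx y ∈ (List.range 24).filter (fun y => !([23, 0].contains y)))).card = 22 := by decide +kernel
  have c4 : (Finset.univ.filter (fun y : GolayPt => idx y ∈ (List.range 24).filter (fun y => !([23, 0, 1].contains y)))).card = 21 := by decide +kernel
  have c5 : (Finset.univ.filter (fun y : GolayPt => idx y ∈ (List.range 24).filter (fun y => !([23, 0, 1, 2].contains y)))).card = 20 := by decide +kernel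
  have c6 : (Finset.univ.filter (fun y : GolayPt => idx y ∈ [5, 14, 17])).card = 3 := by decide +kernel
  have c7 : (Finset.univ.filter (fun y : GolayPt => idx y ∈ (List.range 24).filter (fun y => !([0, 1, 2, 3, 5, 14, 17, 23].contains y)))).card = 16 := by decide +kernel
  rw [← fixG_nil, s1, s2, s3, s4, s5, s6, s7, s8, c1, c2, c3, c4, c5, c6, c7]

end Cfsg.Agent.Lib.Helper28
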