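/-
Automorphisms of a permutation group that permute the point stabilizers are induced by permutations.
-/
import Mathlib
import Cfsg.Prelude.Def_KGroupFacts
set_option autoImplicit false
open scoped Pointwise
namespace Cfsg.Agent.Lib.Helper28

theorem exists_perm_of_aut {α : Type*} [Finite α] (K : Subgroup (Equiv.Perm α)) (φ : MulAut K)
    (X : Set α) (hc : ∀ a, a ∉ X → ∀ g ∈ K, g a = a)
    (ha : ∀ x ∈ X, ∃ y ∈ X, ∀ g : K, (g : Equiv.Perm α) x = x ↔ ((φ g : K) : Equiv.Perm α) y = y)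
    (hb : ∀ a ∈ X, ∀ b ∈ X, (∀ k : K, (k : Equiv.Perm α) a = a ↔ (k : Equiv.Perm α) b = b) → a = b) :
    ∃ π : Equiv.Perm α, (∀ a, a ∉ X → π a = a) ∧ ∀ g : K, ((φ g : K) : Equiv.Perm α) = π * g * π⁻¹ := by
  classical
  choose! f hfX hf using ha
  let F : α → α := fun a => if a ∈ X then f a else a
  have hF1 : ∀ a ∈ X, F a = f a := fun a h => if_pos h
  have hF2 : ∀ a, a ∉ X → F a = a := fun a h => if_neg h
  have hFX : ∀ a, F a ∈ X ↔ a ∈ X := by
    intro a
    by_cases h : a ∈ X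
    · rw [hF1 a h]; exact ⟨fun _ => h, fun _ => hfX a h⟩
    · rw [hF2 a h]
  have hinj : Function.Injective F := by
    intro a b hab
    by_cases h : a ∈ X
    · have h' : b ∈ X := by rw [← hFX, ← hab, hFX]; exact h
      rw [hF1 a h, hF1 b h'] at hab
      apply hb a h b h'
      intro k
      rw [hf a h k, hf b h' k, hab]
    · have h' : b ∉ X := by rw [← hFX, ← hab, hFX]; exact h
      rwa [hF2 a h, hF2 b h'] at hab
  have hbij : Function.Bijective F := hinj.bijective_of_finite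
  have hXinv : ∀ a ∈ X, ∀ g ∈ K, g a ∈ X := by
    intro a ha g hg
    by_contra h
    have := hc _ h g⁻¹ (K.inv_mem hg)
    simp at this
    rw [← this] at h
    exact h ha
  refine ⟨Equiv.ofBijective F hbij, hF2, fun g => ?_⟩
  rw [eq_mul_inv_iff_mul_eq]
  ext a
  show ((φ g : K) : Equiv.Perm α) (F a) = F ((g : Equiv.Perm α) a)
  by_cases h : a ∈ X
  · have hga : (g : Equiv.Perm α) a ∈ X := hXinv a h g g.2
    apply hb _ (hXinv _ ((hFX a).2 h) _ (φ g).2) _ ((hFX _).2 hga)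
    intro k
    obtain ⟨k', rfl⟩ := φ.surjective k
    rw [hF1 _ hga, ← hf _ hga k', hF1 a h]
    have e1 : ((φ k' : K) : Equiv.Perm α) (((φ g : K) : Equiv.Perm α) (f a)) = ((φ g : K) : Equiv.Perm α) (f a) ↔
        ((φ (g⁻¹ * k' * g) : K) : Equiv.Perm α) (f a) = f a := by
      simp only [map_mul, map_inv, Subgroup.coe_mul, Subgroup.coe_inv, Equiv.Perm.mul_apply]
      rw [Equiv.Perm.inv_eq_iff_eq]
    rw [e1, ← hf a h]
    simp only [Subgroup.coe_mul, Subgroup.coe_inv, Equiv.Perm.mul_apply]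
    rw [Equiv.Perm.inv_eq_iff_eq]
  · rw [hF2 a h, hc a h _ (φ g).2, hc a h _ g.2, hF2 a h]

/-- an automorphism induced by conjugation with an element of the group is inner -/
theorem mem_inn_of_conj {α : Type*} (K : Subgroup (Equiv.Perm α)) (φ : MulAut K) (π : Equiv.Perm α)
    (hπ : π ∈ K) (h : ∀ g : K, ((φ g : K) : Equiv.Perm α) = π * g * π⁻¹) : φ ∈ Cfsg.Inn K := by
  refine ⟨⟨π, hπ⟩, ?_⟩
  ext g
  rw [h g]
  rfl

theorem card_out_eq_one {G : Type*} [Group G] (h : ∀ φ : MulAut G, φ ∈ Cfsg.Inn G) : Nat.card (Cfsg.Out G) = 1 := by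
  show (Cfsg.Inn G).index = 1
  rw [Subgroup.index_eq_one, eq_top_iff]
  intro φ _
  exact h φ

end Cfsg.Agent.Lib.Helper28
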