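import Cfsg.Agent.Lib.Helper28.GolayCount
set_option autoImplicit false
open Cfsg
open scoped Pointwise
namespace Cfsg.Agent.Lib.Helper28

theorem card_stabilizer_mul {G α : Type*} [Group G] [MulAction G α] (x : α) :
    Nat.card (MulAction.stabilizer G x) * (MulAction.orbit G x).ncard = Nat.card G := by
  rw [← MulAction.index_stabilizer, Subgroup.card_mul_index]

theorem M24_mpt5 : MulAction.IsMultiplyPretransitive M24 GolayPt 5 := by
  refine ⟨fun x y => ?_⟩
  obtain ⟨g, hg, h⟩ := M24_five_trans x y x.injective y.injective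
  exact ⟨⟨g, hg⟩, DFunLike.ext _ _ h⟩

theorem M24_mpt {k : ℕ} (hk : k ≤ 5) : MulAction.IsMultiplyPretransitive M24 GolayPt k := by
  have := M24_mpt5
  apply MulAction.isMultiplyPretransitive_of_le (n := 5) hk
  have : Nat.card GolayPt = 24 := by
    rw [Nat.card_eq_fintype_card]; rfl
  rw [this]; norm_num

theorem M24_trans_tuple {k : ℕ} (hk : k ≤ 5) (x y : Fin k → GolayPt) (hx : Function.Injective x)
    (hy : Function.Injective y) : ∃ g ∈ M24, ∀ i, g (x i) = y i := by
  have := M24_mpt hk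
  obtain ⟨g, hg⟩ := MulAction.exists_smul_eq M24 (⟨x, hx⟩ : Fin k ↪ GolayPt) ⟨y, hy⟩
  exact ⟨g.1, g.2, fun i => DFunLike.congr_fun hg i⟩

theorem M24_trans_pt (p q : GolayPt) : ∃ g ∈ M24, g p = q := by
  obtain ⟨g, hg, h⟩ := M24_trans_tuple (k := 1) (by norm_num) ![p] ![q]
    (Function.injective_of_subsingleton _) (Function.injective_of_subsingleton _)
  exact ⟨g, hg, h 0⟩

theorem injective_vec2 {α : Type*} {p q : α} (h : p ≠ q) : Function.Injective ![p, q] := by
  intro i j hij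
  fin_cases i <;> fin_cases j <;> simp_all

theorem injective_vec3 {α : Type*} {p q r : α} (h : p ≠ q) (h2 : p ≠ r) (h3 : q ≠ r) :
    Function.Injective ![p, q, r] := by
  intro i j hij
  fin_cases i <;> fin_cases j <;> simp_all

theorem M24_trans_pt2 {p q p' q' : GolayPt} (h : p ≠ q) (h' : p' ≠ q') : ∃ g ∈ M24, g p = p' ∧ g q = q' := by
  obtain ⟨g, hg, h⟩ := M24_trans_tuple (k := 2) (by norm_num) ![p, q] ![p', q']
    (injective_vec2 h) (injective_vec2 h')
  exact ⟨g, hg, h 0, h 1⟩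

theorem M24_trans_pt3 {p q r p' q' r' : GolayPt} (h : p ≠ q) (h2 : p ≠ r) (h3 : q ≠ r)
    (h' : p' ≠ q') (h2' : p' ≠ r') (h3' : q' ≠ r') : ∃ g ∈ M24, g p = p' ∧ g q = q' ∧ g r = r' := by
  obtain ⟨g, hg, h⟩ := M24_trans_tuple (k := 3) (by norm_num) ![p, q, r] ![p', q', r']
    (injective_vec3 h h2 h3) (injective_vec3 h' h2' h3')
  exact ⟨g, hg, h 0, h 1, h 2⟩

theorem card_stab_pt (p : GolayPt) : Nat.card (MulAction.stabilizer M24 p) = 10200960 := by
  have h := card_stabilizer_mul (G := M24) p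
  have h2 : MulAction.orbit M24 p = Set.univ := by
    ext q
    simp only [Set.mem_univ, iff_true]
    obtain ⟨g, hg, h⟩ := M24_trans_pt p q
    exact ⟨⟨g, hg⟩, h⟩
  rw [h2, card_M24, Set.ncard_univ] at h
  have h3 : Nat.card GolayPt = 24 := by rw [Nat.card_eq_fintype_card]; rfl
  rw [h3] at h
  omega

theorem card_stab_pt2 {p q : GolayPt} (hpq : p ≠ q) :
    Nat.card ↥(MulAction.stabilizer M24 p ⊓ MulAction.stabilizer M24 q) = 443520 := by
  have h := card_stabilizer_mul (G := M24) (p, q)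
  have h1 : MulAction.stabilizer M24 (p, q) = MulAction.stabilizer M24 p ⊓ MulAction.stabilizer M24 q := by
    ext g
    simp [MulAction.mem_stabilizer_iff, Prod.ext_iff]
  have h2 : MulAction.orbit M24 (p, q) = {x : GolayPt × GolayPt | x.1 ≠ x.2} := by
    ext ⟨a, b⟩
    constructor
    · rintro ⟨g, hg⟩
      simp only [Prod.smul_mk, Prod.mk.injEq] at hg
      simp only [Set.mem_ofPred_eq]
      rw [← hg.1, ← hg.2]
      intro h
      exact hpq (MulAction.injective g h)
    · intro hab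
      obtain ⟨g, hg, h, h'⟩ := M24_trans_pt2 hpq hab
      exact ⟨⟨g, hg⟩, Prod.ext h h'⟩
  have h3 : {x : GolayPt × GolayPt | x.1 ≠ x.2}.ncard = 552 := by
    rw [Set.ncard_eq_toFinset_card']
    decide +kernel
  rw [h1, h2, h3, card_M24] at h
  omega

end Cfsg.Agent.Lib.Helper28
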