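/-
Explicit generators of M24; straight line programs on tables; generation of M24.
-/
import Cfsg.Agent.Lib.Helper28.GolayStab
set_option autoImplicit false
open Cfsg
open scoped Pointwise
namespace Cfsg.Agent.Lib.Helper28

theorem eq_permOf {g : Equiv.Perm GolayPt} {L : List ℕ} (hv : validTbl L = true)
    (h : ∀ p, g p = pt (L.getD (idx p) 0)) : g = permOf L := by
  apply Equiv.ext
  intro p
  rw [h, permOf_apply hv]

def tblAlpha : List ℕ := [1, 2, 3, 4, 5, 6, 7, 8, 9, 10, 11, 12, 13, 14, 15, 16, 17, 18, 19, 20, 21, 22, 0, 23]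
def tblBeta : List ℕ := [0, 2, 4, 6, 8, 10, 12, 14, 16, 18, 20, 22, 1, 3, 5, 7, 9, 11, 13, 15, 17, 19, 21, 23]
def tblGamma : List ℕ := [23, 22, 11, 15, 17, 9, 19, 13, 20, 5, 16, 2, 21, 7, 18, 3, 10, 4, 14, 6, 8, 12, 1, 0]
def tblDelta : List ℕ := [0, 18, 6, 3, 2, 21, 1, 5, 16, 12, 7, 19, 8, 9, 17, 15, 13, 11, 4, 22, 10, 20, 14, 23]

def unit2 : (ZMod 23)ˣ := ⟨2, 12, by decide, by decide⟩

theorem alpha_eq : Equiv.optionCongr (Equiv.addRight (1 : ZMod 23)) = permOf tblAlpha :=
  eq_permOf (by decide +kernel) (by decide +kernel)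

theorem beta_eq : Equiv.optionCongr (Units.mulLeft unit2) = permOf tblBeta :=
  eq_permOf (by decide +kernel) (by decide +kernel)

theorem gamma_eq : projInv = permOf tblGamma :=
  eq_permOf (by decide +kernel) (by decide +kernel)

theorem delta_eq : cubeTwist = permOf tblDelta :=
  eq_permOf (by decide +kernel) (by
    intro p
    show cubeTwistFun p = _
    revert p
    decide +kernel)

theorem alpha_mem : Equiv.optionCongr (Equiv.addRight (1 : ZMod 23)) ∈ M24 := by
  rw [alpha_eq]; exact permOf_mem_M24 (by decide +kernel)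
theorem beta_mem : Equiv.optionCongr (Units.mulLeft unit2) ∈ M24 := by
  rw [beta_eq]; exact permOf_mem_M24 (by decide +kernel)
theorem gamma_mem : projInv ∈ M24 := by
  rw [gamma_eq]; exact permOf_mem_M24 (by decide +kernel)
theorem delta_mem : cubeTwist ∈ M24 := by
  rw [delta_eq]; exact permOf_mem_M24 (by decide +kernel)

theorem mulLeft_sq_mem (u : (ZMod 23)ˣ) (hu : IsSquare u) : Equiv.optionCongr (Units.mulLeft u) ∈ M24 := by
  obtain ⟨v, rfl⟩ := hu
  have h : ∀ a b : ZMod 23, a * b = 1 → ∃ k : ℕ, k < 11 ∧ a * a = 2 ^ k := by decide +kernel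
  obtain ⟨k, -, hk⟩ := h v.1 v.inv v.val_inv
  have h2 : v * v = unit2 ^ k := by
    apply Units.ext
    simpa [unit2] using hk
  have h3 : Equiv.optionCongr (Units.mulLeft (v * v)) =
      (Equiv.optionCongr (Units.mulLeft unit2)) ^ k := by
    rw [h2]
    clear h2 hk
    induction k with
    | zero =>
      apply Equiv.ext
      intro p
      cases p <;> simp
    | succ n ih =>
      rw [pow_succ, pow_succ, ← ih]
      apply Equiv.ext
      intro p
      cases p <;> simp [mul_assoc]
  rw [h3]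
  exact M24.pow_mem beta_mem k

/-! ### straight line programs -/

def idTbl : List ℕ := List.range 24

theorem validTbl_idTbl : validTbl idTbl = true := by decide +kernel

theorem permOf_idTbl : permOf idTbl = 1 := by
  symm
  apply eq_permOf validTbl_idTbl
  decide +kernel

/-- table of `A * B` -/
def mulTbl (A B : List ℕ) : List ℕ := B.map (fun y => A.getD y 0)

/-- table of `A⁻¹ * B` -/
def ldivTbl (A B : List ℕ) : List ℕ := B.map (fun y => A.idxOf y)

theorem validTbl_length {L : List ℕ} (h : validTbl L = true) : L.length = 24 := by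
  simp only [validTbl, Bool.and_eq_true, beq_iff_eq] at h
  exact h.1

theorem validTbl_mem {L : List ℕ} (h : validTbl L = true) {j : ℕ} (hj : j < 24) : j ∈ L := by
  simp only [validTbl, Bool.and_eq_true, beq_iff_eq, List.all_eq_true, List.mem_range,
    List.contains_iff_mem] at h
  exact h.2 j hj

theorem permOf_mulTbl {A B : List ℕ} (hA : validTbl A = true) (hB : validTbl B = true)
    (hC : validTbl (mulTbl A B) = true) : permOf (mulTbl A B) = permOf A * permOf B := by
  apply Equiv.ext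
  intro p
  rw [Equiv.Perm.mul_apply, permOf_apply hC, permOf_apply hA, idx_permOf hB]
  congr 1
  have hi : idx p < B.length := by rw [validTbl_length hB]; exact idx_lt p
  simp [mulTbl, List.getD_eq_getElem?_getD, hi]

theorem permOf_ldivTbl {A B : List ℕ} (hA : validTbl A = true) (hB : validTbl B = true)
    (hC : validTbl (ldivTbl A B) = true) : permOf (ldivTbl A B) = (permOf A)⁻¹ * permOf B := by
  apply Equiv.ext
  intro p
  rw [Equiv.Perm.mul_apply, Equiv.Perm.eq_inv_iff_eq, permOf_apply hA, idx_permOf hC, permOf_apply hB]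
  congr 1
  have hi : idx p < B.length := by rw [validTbl_length hB]; exact idx_lt p
  have hy : B.getD (idx p) 0 ∈ A := validTbl_mem hA (getD_lt hB _ (idx_lt p))
  have h1 : (ldivTbl A B).getD (idx p) 0 = A.idxOf (B.getD (idx p) 0) := by
    simp [ldivTbl, List.getD_eq_getElem?_getD, hi]
  rw [h1]
  have h2 : A.idxOf (B.getD (idx p) 0) < A.length := List.idxOf_lt_length_iff.2 hy
  rw [List.getD_eq_getElem _ _ h2, List.getElem_idxOf]

/-- all tables of the list are valid and give elements of `H` -/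
def AllIn (H : Subgroup (Equiv.Perm GolayPt)) (S : List (List ℕ)) : Prop :=
  ∀ T ∈ S, validTbl T = true ∧ permOf T ∈ H

def slpStep (acc : List (List ℕ)) (c : ℕ × ℕ × ℕ) : List (List ℕ) :=
  let A := acc.getD c.2.1 idTbl
  let B := acc.getD c.2.2 idTbl
  let C := if c.1 = 0 then mulTbl A B else ldivTbl A B
  acc ++ [if validTbl C = true then C else idTbl]

def runSLP (init : List (List ℕ)) (prog : List (ℕ × ℕ × ℕ)) : List (List ℕ) := prog.foldl slpStep init

theorem AllIn.getD {H : Subgroup (Equiv.Perm GolayPt)} {S : List (List ℕ)} (h : AllIn H S) (i : ℕ) :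
    validTbl (S.getD i idTbl) = true ∧ permOf (S.getD i idTbl) ∈ H := by
  by_cases hi : i < S.length
  · rw [List.getD_eq_getElem _ _ hi]
    exact h _ (List.getElem_mem hi)
  · rw [List.getD_eq_default _ _ (by omega)]
    exact ⟨validTbl_idTbl, by rw [permOf_idTbl]; exact H.one_mem⟩

theorem AllIn.step {H : Subgroup (Equiv.Perm GolayPt)} {S : List (List ℕ)} (h : AllIn H S) (c : ℕ × ℕ × ℕ) :
    AllIn H (slpStep S c) := by
  intro T hT
  simp only [slpStep, List.mem_append, List.mem_singleton] at hT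
  rcases hT with hT | hT
  · exact h T hT
  · obtain ⟨hA, hA'⟩ := h.getD c.2.1
    obtain ⟨hB, hB'⟩ := h.getD c.2.2
    split_ifs at hT with h1 h2 h2
    · subst hT
      exact ⟨h2, by rw [permOf_mulTbl hA hB h2]; exact H.mul_mem hA' hB'⟩
    · subst hT
      exact ⟨validTbl_idTbl, by rw [permOf_idTbl]; exact H.one_mem⟩
    · subst hT
      exact ⟨h2, by rw [permOf_ldivTbl hA hB h2]; exact H.mul_mem (H.inv_mem hA') hB'⟩
    · subst hT
      exact ⟨validTbl_idTbl, by rw [permOf_idTbl]; exact H.one_mem⟩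

theorem AllIn.run {H : Subgroup (Equiv.Perm GolayPt)} {S : List (List ℕ)} (h : AllIn H S)
    (prog : List (ℕ × ℕ × ℕ)) : AllIn H (runSLP S prog) := by
  induction prog generalizing S with
  | nil => exact h
  | cons c l ih => exact ih (h.step c)

/-- for each target `y` the table number `ix[y]` of `S` fixes `fixed` and maps `b` to `y` -/
def checkLevelS (S : List (List ℕ)) (fixed : List ℕ) (b : ℕ) (targets : List ℕ) (ix : List ℕ) : Bool :=
  targets.all (fun y => fixed.all (fun f => (S.getD (ix.getD y 0) idTbl).getD f 0 == f) &&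
    ((S.getD (ix.getD y 0) idTbl).getD b 0 == y))

theorem checkLevelS_spec {H : Subgroup (Equiv.Perm GolayPt)} {S : List (List ℕ)} (hS : AllIn H S)
    {fixed : List ℕ} {b : ℕ} {targets : List ℕ} {ix : List ℕ}
    (h : checkLevelS S fixed b targets ix = true) (hb : b < 24) (hf : ∀ f ∈ fixed, f < 24)
    (y : GolayPt) (hy : idx y ∈ targets) :
    ∃ u ∈ H, (∀ f ∈ fixed, u (pt f) = pt f) ∧ u (pt b) = y := by
  simp only [checkLevelS, List.all_eq_true, Bool.and_eq_true, beq_iff_eq] at h
  obtain ⟨h2, h3⟩ := h _ hy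
  obtain ⟨hv, hH⟩ := hS.getD (ix.getD (idx y) 0)
  refine ⟨_, hH, ?_, ?_⟩
  · intro f hff
    rw [permOf_apply hv, idx_pt f (hf f hff), h2 f hff]
  · rw [permOf_apply hv, idx_pt b hb, h3, pt_idx]

/-- one step of sifting -/
theorem fixG_le_step (H : Subgroup (Equiv.Perm GolayPt)) (F F' : List ℕ) (b : ℕ)
    (hF' : ∀ f, f ∈ F' → f ∈ F ∨ f = b) (targets : List ℕ)
    (hu : ∀ y : GolayPt, idx y ∈ targets → ∃ u ∈ H, u ∈ M24 ∧ (∀ f ∈ F, u (pt f) = pt f) ∧ u (pt b) = y)
    (hsub : ∀ g ∈ fixG F, idx (g (pt b)) ∈ targets) (h' : fixG F' ≤ H) : fixG F ≤ H := by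
  intro g hg
  obtain ⟨u, huH, huM, hu1, hu2⟩ := hu _ (hsub g hg)
  have h1 : u⁻¹ * g ∈ fixG F' := by
    refine ⟨M24.mul_mem (M24.inv_mem huM) hg.1, ?_⟩
    intro f hf
    rw [Equiv.Perm.mul_apply, Equiv.Perm.inv_eq_iff_eq]
    rcases hF' f hf with h | h
    · rw [hg.2 f h, hu1 f h]
    · rw [h, hu2]
  have h2 := H.mul_mem huH (h' h1)
  simpa using h2

/-! ### where base points can go -/

theorem fixG_target {F : List ℕ} {b : ℕ} (hb : b < 24) (hbF : b ∉ F)
    {g : Equiv.Perm GolayPt} (hg : g ∈ fixG F) :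
    idx (g (pt b)) ∈ (List.range 24).filter (fun y => !(F.contains y)) := by
  have := fixG_apply_notMem hb hbF hg
  simpa [idx_lt] using this

theorem fixG_mono {F F' : List ℕ} (h : ∀ f ∈ F, f ∈ F') : fixG F' ≤ fixG F :=
  fun _ hg => ⟨hg.1, fun f hf => hg.2 f (h f hf)⟩

theorem fixG_target6 {g : Equiv.Perm GolayPt} (hg : g ∈ fixG [23, 0, 1, 2, 3]) :
    idx (g (pt 5)) ∈ [5, 14, 17] := by
  have h1 := fixG_apply_notMem (b := 5) (by norm_num) (by simp) hg
  have h2 : g (pt 5) ∈ stdOctad := apply_mem_of_smul_eq (fixG5_smul_stdOctad hg) (by decide +kernel)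
  generalize g (pt 5) = q at h1 h2
  revert q
  decide +kernel

theorem fixG_target7 {g : Equiv.Perm GolayPt} (hg : g ∈ fixG [23, 0, 1, 2, 3, 5]) :
    idx (g (pt 4)) ∈ (List.range 24).filter (fun y => !([0, 1, 2, 3, 5, 14, 17, 23].contains y)) := by
  have hg5 : g ∈ fixG [23, 0, 1, 2, 3] := fixG_mono (by simp) hg
  have h2 : g (pt 4) ∉ stdOctad := by
    intro h
    have h3 : g⁻¹ • stdOctad = stdOctad := by
      rw [inv_smul_eq_iff, fixG5_smul_stdOctad hg5]
    have h4 := apply_mem_of_smul_eq h3 h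
    have h5 : g⁻¹ (g (pt 4)) = pt 4 := by simp
    rw [h5] at h4
    revert h4
    decide +kernel
  generalize g (pt 4) = q at h2
  revert q
  decide +kernel

theorem fixG_base : fixG [23, 0, 1, 2, 3, 5, 4] = ⊥ := by
  rw [eq_bot_iff]
  intro g hg
  exact Subgroup.mem_bot.2 (eq_one_of_fixes_base hg.1 hg.2)

/-! ### generation of M24 -/

def genProg : List (ℕ × ℕ × ℕ) := [(0,1,1), (0,1,4), (0,1,2), (0,2,6), (0,1,6), (0,2,8), (0,1,8), (0,3,6), (0,3,7), (0,3,8), (0,1,11), (0,3,12), (0,3,1), (0,3,4), (0,1,16), (0,3,16), (0,1,17), (0,3,3), (0,3,21), (0,20,1), (1,19,23), (1,22,24), (0,25,8), (0,25,4), (0,25,17), (0,25,18), (0,25,21), (0,25,22), (0,25,30), (0,25,25), (0,25,33), (0,23,1), (1,5,35), (1,32,36), (0,37,11), (0,37,4), (0,37,16), (0,37,17), (0,37,19), (0,37,3), (0,37,21), (0,25,43), (0,3,45), (0,37,25), (0,37,47), (0,37,48), (0,35,3), (1,5,50), (1,43,51), (1,49,52), (0,53,7), (0,53,17), (0,53,21), (0,53,43), (0,53,25), (0,53,37), (0,53,58), (0,53,53), (0,50,3), (1,5,62),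 (1,46,63), (1,33,64), (0,65,7), (0,65,12), (0,65,17), (0,65,27), (0,65,3), (0,65,21), (0,65,43), (0,65,70), (0,65,25), (0,65,37), (0,65,47), (0,65,58), (0,65,53), (0,53,65), (0,65,65), (0,65,61), (0,53,78), (0,53,79), (0,65,83), (0,62,2), (1,10,85), (1,73,86), (1,25,87), (1,84,88), (0,89,7), (0,89,11), (0,89,16), (0,89,27), (0,89,3), (0,89,43), (0,89,25), (0,89,37), (0,89,47), (0,89,53), (0,89,65), (0,89,80), (0,89,89), (0,85,3), (1,10,103), (1,56,104), (1,77,105), (1,61,106), (1,102,107), (0,108,7), (0,108,54), (0,108,17), (0,108,37), (0,108,74), (0,108,65), (0,108,78), (0,108,100), (0,103,2), (1,5,117), (1,45,118), (1,75,119), (1,102,120), (0,121,7), (0,121,54), (0,121,79), (0,121,108), (0,103,1), (1,10,126), (1,20,127), (1,3,128), (1,48,129), (1,116,130), (1,89,131), (0,132,17), (0,132,3), (0,132,21), (0,132,43), (0,132,33), (0,132,65), (0,132,78), (0,132,108), (0,132,121), (0,132,125), (0,126,2), (1,122,143), (1,16,144), (1,31,145), (1,48,146), (1,83,147), (0,148,7),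 (0,148,21), (0,148,43), (0,37,150), (0,148,37), (0,148,65), (0,148,78), (0,148,108), (0,148,121), (0,148,132), (0,148,125), (0,148,140), (0,148,141), (0,148,142)]
def genIx1 : List ℕ := [2, 6, 8, 10, 90, 26, 13, 123, 109, 91, 110, 9, 38, 67, 12, 66, 122, 15, 11, 14, 149, 54, 7, 0]
def genIx2 : List ℕ := [0, 1, 4, 5, 19, 27, 17, 20, 41, 92, 55, 29, 40, 42, 68, 111, 69, 93, 16, 18, 133, 28, 39, 0]
def genIx3 : List ℕ := [0, 0, 22, 30, 21, 31, 70, 56, 135, 94, 71, 57, 43, 44, 73, 150, 136, 152, 3, 151, 95, 72, 134, 0]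
def genIx4 : List ℕ := [0, 0, 0, 60, 97, 25, 76, 34, 112, 98, 33, 113, 48, 77, 58, 75, 74, 96, 47, 137, 153, 59, 37, 0]
def genIx5 : List ℕ := [0, 0, 0, 0, 100, 53, 82, 124, 114, 83, 155, 115, 139, 81, 61, 80, 78, 99, 138, 101, 154, 79, 65, 0]
def genIx6 : List ℕ := [0, 0, 0, 0, 0, 0, 0, 0, 0, 0, 0, 0, 0, 0, 102, 0, 0, 89, 0, 0, 0, 0, 0, 0]
def genIx7 : List ℕ := [0, 0, 0, 0, 0, 0, 156, 158, 132, 157, 162, 141, 125, 121, 0, 148, 142, 0, 108, 159, 160, 161, 140, 0]

def genTabs : List (List ℕ) := runSLP [idTbl, tblAlpha, tblGamma, tblDelta] genProg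

theorem genLevel1 : checkLevelS genTabs [] 23 (List.range 24) genIx1 = true := by decide +kernel
theorem genLevel2 : checkLevelS genTabs [23] 0
    ((List.range 24).filter (fun y => !([23].contains y))) genIx2 = true := by decide +kernel
theorem genLevel3 : checkLevelS genTabs [23, 0] 1
    ((List.range 24).filter (fun y => !([23, 0].contains y))) genIx3 = true := by decide +kernel
theorem genLevel4 : checkLevelS genTabs [23, 0, 1] 2
    ((List.range 24).filter (fun y => !([23, 0, 1].contains y))) genIx4 = true := by decide +kernel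
theorem genLevel5 : checkLevelS genTabs [23, 0, 1, 2] 3
    ((List.range 24).filter (fun y => !([23, 0, 1, 2].contains y))) genIx5 = true := by decide +kernel
theorem genLevel6 : checkLevelS genTabs [23, 0, 1, 2, 3] 5 [5, 14, 17] genIx6 = true := by decide +kernel
theorem genLevel7 : checkLevelS genTabs [23, 0, 1, 2, 3, 5] 4
    ((List.range 24).filter (fun y => !([0, 1, 2, 3, 5, 14, 17, 23].contains y))) genIx7 = true := by
  decide +kernel

theorem M24_le_of_gens (H : Subgroup (Equiv.Perm GolayPt)) (ha : permOf tblAlpha ∈ H)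
    (hc : permOf tblGamma ∈ H) (hd : permOf tblDelta ∈ H) : M24 ≤ H := by
  have hS : AllIn (H ⊓ M24) genTabs := by
    apply AllIn.run
    intro T hT
    simp only [List.mem_cons, List.not_mem_nil, or_false] at hT
    rcases hT with rfl | rfl | rfl | rfl
    · exact ⟨validTbl_idTbl, by rw [permOf_idTbl]; exact Subgroup.one_mem _⟩
    · exact ⟨by decide +kernel, ha, alpha_eq ▸ alpha_mem⟩
    · exact ⟨by decide +kernel, hc, gamma_eq ▸ gamma_mem⟩
    · exact ⟨by decide +kernel, hd, delta_eq ▸ delta_mem⟩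
  have key : ∀ {fixed : List ℕ} {b : ℕ} {targets ix : List ℕ},
      checkLevelS genTabs fixed b targets ix = true → b < 24 → (∀ f ∈ fixed, f < 24) →
      ∀ y : GolayPt, idx y ∈ targets →
        ∃ u ∈ H, u ∈ M24 ∧ (∀ f ∈ fixed, u (pt f) = pt f) ∧ u (pt b) = y := by
    intro fixed b targets ix h hb hf y hy
    obtain ⟨u, hu, h1, h2⟩ := checkLevelS_spec hS h hb hf y hy
    exact ⟨u, hu.1, hu.2, h1, h2⟩
  have s7 : fixG [23, 0, 1, 2, 3, 5, 4] ≤ H := by rw [fixG_base]; exact bot_le
  have s6 := fixG_le_step H [23, 0, 1, 2, 3, 5] [23, 0, 1, 2, 3, 5, 4] 4 (by simp) _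
    (key genLevel7 (by norm_num) (by simp)) (fun g hg => fixG_target7 hg) s7
  have s5 := fixG_le_step H [23, 0, 1, 2, 3] [23, 0, 1, 2, 3, 5] 5 (by simp) _
    (key genLevel6 (by norm_num) (by simp)) (fun g hg => fixG_target6 hg) s6
  have s4 := fixG_le_step H [23, 0, 1, 2] [23, 0, 1, 2, 3] 3 (by simp) _
    (key genLevel5 (by norm_num) (by simp)) (fun g hg => fixG_target (by norm_num) (by simp) hg) s5
  have s3 := fixG_le_step H [23, 0, 1] [23, 0, 1, 2] 2 (by simp) _
    (key genLevel4 (by norm_num) (by simp)) (fun g hg => fixG_target (by norm_num) (by simp) hg) s4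
  have s2 := fixG_le_step H [23, 0] [23, 0, 1] 1 (by simp) _
    (key genLevel3 (by norm_num) (by simp)) (fun g hg => fixG_target (by norm_num) (by simp) hg) s3
  have s1 := fixG_le_step H [23] [23, 0] 0 (by simp) _
    (key genLevel2 (by norm_num) (by simp)) (fun g hg => fixG_target (by norm_num) (by simp) hg) s2
  have s0 := fixG_le_step H [] [23] 23 (by simp) _
    (key genLevel1 (by norm_num) (by simp)) (fun g hg => by simp [idx_lt]) s1
  rwa [fixG_nil] at s0

theorem closure_gens_eq : Subgroup.closure {Equiv.optionCongr (Equiv.addRight (1 : ZMod 23)), projInv, cubeTwist}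
    = M24 := by
  apply le_antisymm
  · rw [Subgroup.closure_le]
    intro g hg
    simp only [Set.mem_insert_iff, Set.mem_singleton_iff] at hg
    rcases hg with rfl | rfl | rfl
    · exact alpha_mem
    · exact gamma_mem
    · exact delta_mem
  · apply M24_le_of_gens
    · rw [← alpha_eq]; exact Subgroup.subset_closure (by simp)
    · rw [← gamma_eq]; exact Subgroup.subset_closure (by simp)
    · rw [← delta_eq]; exact Subgroup.subset_closure (by simp)

end Cfsg.Agent.Lib.Helper28
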