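/-
Dodecads: transitivity of M24 on (dodecad, ordered 5-tuple of its points), sharpness.
Octad system automorphisms.  Pointwise stabiliser of an octad.
-/
import Cfsg.Agent.Lib.Helper28.GolayGen
set_option autoImplicit false
open Cfsg
open scoped Pointwise
namespace Cfsg.Agent.Lib.Helper28

theorem M24_eq_aut : M24 = setSystemAut octads := by
  ext g
  rw [MulAction.mem_stabilizer_iff]
  constructor
  · intro hg
    apply Set.Subset.antisymm
    · rintro _ ⟨o, ho, rfl⟩; exact smul_mem_octads hg ho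
    · intro o ho
      exact ⟨g⁻¹ • o, smul_mem_octads (M24.inv_mem hg) ho, by simp⟩
  · intro h
    apply mem_M24_of_basis
    intro b hb
    have hb' : b < 2 ^ 24 ∧ isCode b = true ∧ pc 24 b = 8 := by
      revert b; decide +kernel
    have ho := unmask_mem_octads hb'.1 hb'.2.1 hb'.2.2
    have h2 : g • unmask b ∈ octads := h ▸ Set.smul_mem_smul_set ho
    rw [mem_octads_iff, mask_smul, mask_unmask _ hb'.1] at h2
    exact h2.1

/-- version of `checkLevel_spec` exposing the table -/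
theorem checkLevel_spec' {fixed : List ℕ} {b : ℕ} {targets : List ℕ} {T : List (List ℕ)}
    (h : checkLevel fixed b targets T = true) (hb : b < 24) (hf : ∀ f ∈ fixed, f < 24)
    (y : ℕ) (hy : y ∈ targets) :
    validTbl (T.getD y []) = true ∧ permOf (T.getD y []) ∈ M24 ∧
      (∀ f ∈ fixed, permOf (T.getD y []) (pt f) = pt f) ∧ permOf (T.getD y []) (pt b) = pt y := by
  simp only [checkLevel, List.all_eq_true, Bool.and_eq_true, beq_iff_eq] at h
  obtain ⟨⟨h1, h2⟩, h3⟩ := h _ hy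
  have hv : validTbl (T.getD y []) = true := by
    simp only [inM24, Bool.and_eq_true] at h1
    exact h1.1
  refine ⟨hv, permOf_mem_M24 h1, ?_, ?_⟩
  · intro f hff
    rw [permOf_apply hv, idx_pt f (hf f hff), h2 f hff]
  · rw [permOf_apply hv, idx_pt b hb, h3]

def tg7 : List ℕ := (List.range 24).filter (fun y => !([0, 1, 2, 3, 5, 14, 17, 23].contains y))

/-- the 16 elements fixing six points of the standard octad -/
theorem fixG6_enum {g : Equiv.Perm GolayPt} (hg : g ∈ fixG [23, 0, 1, 2, 3, 5]) :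
    ∃ z ∈ tg7, g = permOf (trans7.getD z []) := by
  have hz := fixG_target7 hg
  refine ⟨_, hz, ?_⟩
  obtain ⟨-, h1, h2, h3⟩ := checkLevel_spec' level7 (by norm_num) (by simp) _ hz
  set u := permOf (trans7.getD (idx (g (pt 4))) []) with hu
  have h4 : u⁻¹ * g ∈ fixG [23, 0, 1, 2, 3, 5, 4] := by
    refine ⟨M24.mul_mem (M24.inv_mem h1) hg.1, ?_⟩
    intro f hf
    rw [Equiv.Perm.mul_apply, Equiv.Perm.inv_eq_iff_eq]
    have hf' : f ∈ [23, 0, 1, 2, 3, 5] ∨ f = 4 := by simpa [or_assoc] using hf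
    rcases hf' with h | h
    · rw [hg.2 f h, h2 f h]
    · rw [h, h3, pt_idx]
  rw [fixG_base, Subgroup.mem_bot, inv_mul_eq_one] at h4
  exact h4.symm

/-- the 48 elements fixing five points -/
theorem fixG5_enum {g : Equiv.Perm GolayPt} (hg : g ∈ fixG [23, 0, 1, 2, 3]) :
    ∃ y ∈ [5, 14, 17], ∃ z ∈ tg7, g = permOf (trans6.getD y []) * permOf (trans7.getD z []) := by
  have hy := fixG_target6 hg
  refine ⟨_, hy, ?_⟩
  obtain ⟨-, h1, h2, h3⟩ := checkLevel_spec' level6 (by norm_num) (by simp) _ hy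
  set u := permOf (trans6.getD (idx (g (pt 5))) []) with hu
  have h4 : u⁻¹ * g ∈ fixG [23, 0, 1, 2, 3, 5] := by
    refine ⟨M24.mul_mem (M24.inv_mem h1) hg.1, ?_⟩
    intro f hf
    rw [Equiv.Perm.mul_apply, Equiv.Perm.inv_eq_iff_eq]
    have hf' : f ∈ [23, 0, 1, 2, 3] ∨ f = 5 := by simpa [or_assoc] using hf
    rcases hf' with h | h
    · rw [hg.2 f h, h2 f h]
    · rw [h, h3, pt_idx]
  obtain ⟨z, hz, h5⟩ := fixG6_enum h4
  exact ⟨z, hz, by rw [← h5]; simp⟩

theorem fixG5_mem {y z : ℕ} (hy : y ∈ [5, 14, 17]) (hz : z ∈ tg7) :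
    permOf (trans6.getD y []) * permOf (trans7.getD z []) ∈ fixG [23, 0, 1, 2, 3] := by
  obtain ⟨-, h1, h2, -⟩ := checkLevel_spec' level6 (by norm_num) (by simp) _ hy
  obtain ⟨-, k1, k2, -⟩ := checkLevel_spec' level7 (by norm_num) (by simp) _ hz
  refine ⟨M24.mul_mem h1 k1, ?_⟩
  intro f hf
  rw [Equiv.Perm.mul_apply, k2 f (by simp only [List.mem_cons, List.not_mem_nil, or_false] at hf ⊢; tauto), h2 f hf]

theorem pm_fixG5 {y z : ℕ} (hy : y ∈ [5, 14, 17]) (hz : z ∈ tg7) (m : ℕ) :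
    pm (permOf (trans6.getD y []) * permOf (trans7.getD z [])) m =
      permMask (trans6.getD y []) (permMask (trans7.getD z []) m) := by
  obtain ⟨h0, -⟩ := checkLevel_spec' level6 (by norm_num) (by simp) _ hy
  obtain ⟨k0, -⟩ := checkLevel_spec' level7 (by norm_num) (by simp) _ hz
  rw [pm_mul, pm_permOf h0, pm_permOf k0]

/-- the standard dodecad, containing ∞,0,1,2,3 -/
def stdDodecad : Finset GolayPt := unmask 8442831

theorem mask_stdDodecad : mask stdDodecad = 8442831 := mask_unmask _ (by norm_num)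

theorem stdDodecad_mem : stdDodecad ∈ dodecads := by
  rw [mem_dodecads_iff, mask_stdDodecad, card_eq_pc, mask_stdDodecad]
  exact ⟨by decide +kernel, by decide +kernel⟩

def toStdF (c : ℕ) : Bool :=
  or (not (Nat.beq (Nat.land c 8388623) 8388623))
    ([5, 14, 17].any (fun y => tg7.any (fun z =>
      Nat.beq (permMask (trans6.getD y []) (permMask (trans7.getD z []) c)) 8442831)))

theorem dodecad_to_std_check : allBelow (fun j => or (not (Nat.beq (pcF (encF j)) 12)) (toStdF (encF j))) 4096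
    = true := by
  decide +kernel

theorem subset_iff_mask (s t : Finset GolayPt) : s ⊆ t ↔ mask t &&& mask s = mask s := by
  rw [← mask_inter, mask_injective.eq_iff, Finset.inter_eq_right]

theorem dodecad_to_std {d : Finset GolayPt} (hd : d ∈ dodecads) (h5 : ∀ f ∈ [23, 0, 1, 2, 3], pt f ∈ d) :
    ∃ u ∈ fixG [23, 0, 1, 2, 3], u • d = stdDodecad := by
  have h := forall_dodecads_of_check (f := toStdF) dodecad_to_std_check hd
  unfold toStdF at h
  have h1 : unmask 8388623 ⊆ d := by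
    intro p hp
    have : ∀ p, p ∈ unmask 8388623 → ∃ f ∈ [23, 0, 1, 2, 3], p = pt f := by decide +kernel
    obtain ⟨f, hf, rfl⟩ := this p hp
    exact h5 f hf
  rw [subset_iff_mask, mask_unmask _ (by norm_num)] at h1
  have h2 : Nat.beq (Nat.land (mask d) 8388623) 8388623 = true := by
    rw [Nat.beq_eq]; exact h1
  rw [h2] at h
  simp only [Bool.not_true, Bool.false_or, List.any_eq_true] at h
  obtain ⟨y, hy, z, hz, h3⟩ := h
  refine ⟨_, fixG5_mem hy hz, ?_⟩
  apply mask_injective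
  rw [mask_smul, pm_fixG5 hy hz, mask_stdDodecad]
  exact Nat.eq_of_beq_eq_true h3

theorem eq_one_of_fixG5_stdDodecad {g : Equiv.Perm GolayPt} (hg : g ∈ fixG [23, 0, 1, 2, 3])
    (hd : g • stdDodecad = stdDodecad) : g = 1 := by
  obtain ⟨y, hy, z, hz, rfl⟩ := fixG5_enum hg
  have h1 := congrArg mask hd
  rw [mask_smul, pm_fixG5 hy hz, mask_stdDodecad] at h1
  have h2 : ∀ y ∈ [5, 14, 17], ∀ z ∈ tg7,
      permMask (trans6.getD y []) (permMask (trans7.getD z []) 8442831) = 8442831 → y = 5 ∧ z = 4 := by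
    decide +kernel
  obtain ⟨rfl, rfl⟩ := h2 y hy z hz h1
  have h3 : trans6.getD 5 [] = idTbl := by decide +kernel
  have h4 : trans7.getD 4 [] = idTbl := by decide +kernel
  rw [h3, h4, permOf_idTbl, one_mul]

/-- the standard 5-tuple -/
def stdFive : Fin 5 → GolayPt := ![pt 23, pt 0, pt 1, pt 2, pt 3]

theorem stdFive_injective : Function.Injective stdFive := by decide +kernel

theorem mem_fixG5_iff {g : Equiv.Perm GolayPt} :
    g ∈ fixG [23, 0, 1, 2, 3] ↔ g ∈ M24 ∧ ∀ i, g (stdFive i) = stdFive i := by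
  rw [mem_fixG]
  constructor
  · rintro ⟨h, h'⟩
    refine ⟨h, ?_⟩
    intro i
    fin_cases i
    · exact h' 23 (by simp)
    · exact h' 0 (by simp)
    · exact h' 1 (by simp)
    · exact h' 2 (by simp)
    · exact h' 3 (by simp)
  · rintro ⟨h, h'⟩
    refine ⟨h, ?_⟩
    intro f hf
    simp only [List.mem_cons, List.not_mem_nil, or_false] at hf
    rcases hf with rfl | rfl | rfl | rfl | rfl
    · exact h' 0
    · exact h' 1
    · exact h' 2
    · exact h' 3
    · exact h' 4

/-- M24 is transitive on pairs (dodecad, ordered 5-tuple of distinct points of it) -/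
theorem dodecad_five_to_std {d : Finset GolayPt} (hd : d ∈ dodecads) (x : Fin 5 → GolayPt)
    (hx : Function.Injective x) (hxd : ∀ i, x i ∈ d) :
    ∃ g ∈ M24, g • d = stdDodecad ∧ ∀ i, g (x i) = stdFive i := by
  obtain ⟨g, hg, h⟩ := M24_five_trans x stdFive hx stdFive_injective
  have h5 : ∀ f ∈ [23, 0, 1, 2, 3], pt f ∈ g • d := by
    have : ∀ i, stdFive i ∈ g • d := fun i => by
      rw [← h i]
      exact Finset.smul_mem_smul_finset (hxd i)
    intro f hf
    simp only [List.mem_cons, List.not_mem_nil, or_false] at hf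
    rcases hf with rfl | rfl | rfl | rfl | rfl
    · exact this 0
    · exact this 1
    · exact this 2
    · exact this 3
    · exact this 4
  obtain ⟨u, hu, hud⟩ := dodecad_to_std (smul_mem_dodecads hg hd) h5
  refine ⟨u * g, M24.mul_mem hu.1 hg, by rw [mul_smul, hud], ?_⟩
  intro i
  rw [Equiv.Perm.mul_apply, h i, (mem_fixG5_iff.1 hu).2 i]

theorem exists_five_in {s : Finset GolayPt} (h : 5 ≤ s.card) :
    ∃ x : Fin 5 → GolayPt, Function.Injective x ∧ ∀ i, x i ∈ s := by
  obtain ⟨t, ht, ht5⟩ := Finset.exists_subset_card_eq (s := s) (n := 5) h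
  obtain ⟨x, hx, hxs⟩ := exists_injective_of_card_eq ht5
  exact ⟨x, hx, fun i => ht ((hxs _).2 ⟨i, rfl⟩)⟩

theorem card_of_mem_dodecads {d : Finset GolayPt} (hd : d ∈ dodecads) : d.card = 12 :=
  ((mem_dodecads_iff d).1 hd).2

theorem M24_trans_dodecads {d d' : Finset GolayPt} (hd : d ∈ dodecads) (hd' : d' ∈ dodecads) :
    ∃ g ∈ M24, g • d = d' := by
  obtain ⟨x, hx, hxd⟩ := exists_five_in (s := d) (by rw [card_of_mem_dodecads hd]; norm_num)
  obtain ⟨x', hx', hxd'⟩ := exists_five_in (s := d') (by rw [card_of_mem_dodecads hd']; norm_num)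
  obtain ⟨g, hg, h, -⟩ := dodecad_five_to_std hd x hx hxd
  obtain ⟨g', hg', h', -⟩ := dodecad_five_to_std hd' x' hx' hxd'
  refine ⟨g'⁻¹ * g, M24.mul_mem (M24.inv_mem hg') hg, ?_⟩
  rw [mul_smul, h, ← h', inv_smul_smul]

/-- existence part of sharp 5-transitivity -/
theorem dodecad_five_trans {d : Finset GolayPt} (hd : d ∈ dodecads) (x y : Fin 5 → GolayPt)
    (hx : Function.Injective x) (hy : Function.Injective y) (hxd : ∀ i, x i ∈ d) (hyd : ∀ i, y i ∈ d) :
    ∃ g ∈ M24, g • d = d ∧ ∀ i, g (x i) = y i := by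
  obtain ⟨g, hg, h, h2⟩ := dodecad_five_to_std hd x hx hxd
  obtain ⟨g', hg', h', h2'⟩ := dodecad_five_to_std hd y hy hyd
  refine ⟨g'⁻¹ * g, M24.mul_mem (M24.inv_mem hg') hg, ?_, ?_⟩
  · rw [mul_smul, h, ← h', inv_smul_smul]
  · intro i
    rw [Equiv.Perm.mul_apply, h2 i, Equiv.Perm.inv_eq_iff_eq, h2' i]

/-- uniqueness part of sharp 5-transitivity -/
theorem eq_one_of_fix_dodecad_five {d : Finset GolayPt} (hd : d ∈ dodecads) (x : Fin 5 → GolayPt)
    (hx : Function.Injective x) (hxd : ∀ i, x i ∈ d) {g : Equiv.Perm GolayPt} (hg : g ∈ M24)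
    (hgd : g • d = d) (hgx : ∀ i, g (x i) = x i) : g = 1 := by
  obtain ⟨k, hk, h, h2⟩ := dodecad_five_to_std hd x hx hxd
  have h3 : k * g * k⁻¹ = 1 := by
    apply eq_one_of_fixG5_stdDodecad
    · rw [mem_fixG5_iff]
      refine ⟨M24.mul_mem (M24.mul_mem hk hg) (M24.inv_mem hk), ?_⟩
      intro i
      rw [← h2 i]
      simp [hgx i]
    · rw [← h, mul_smul, mul_smul, inv_smul_smul, hgd]
  have h4 : g = k⁻¹ * (k * g * k⁻¹) * k := by group
  rw [h4, h3]; group

end Cfsg.Agent.Lib.Helper28
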