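/-
Dodecad stabilisers (orders, sharp 5-transitivity), octads against a dodecad, S(5,6,12),
pointwise stabiliser of an octad, 3-transitivity of M11 on the complementary dodecad.
-/
import Cfsg.Agent.Lib.Helper28.GolayDodecad
set_option autoImplicit false
open Cfsg
open scoped Pointwise
namespace Cfsg.Agent.Lib.Helper28

theorem card_stab_dodecad {d : Finset GolayPt} (hd : d ∈ dodecads) :
    Nat.card (MulAction.stabilizer M24 d) = 95040 := by
  have h := card_stabilizer_mul (G := M24) d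
  have h2 : MulAction.orbit M24 d = dodecads := by
    ext q
    constructor
    · rintro ⟨g, rfl⟩
      exact smul_mem_dodecads g.2 hd
    · intro hq
      obtain ⟨g, hg, h⟩ := M24_trans_dodecads hd hq
      exact ⟨⟨g, hg⟩, h⟩
  rw [h2, card_M24, ncard_dodecads] at h
  omega

theorem sharp_five {d : Finset GolayPt} (hd : d ∈ dodecads) (x y : Fin 5 ↪ GolayPt)
    (hx : ∀ i, x i ∈ d) (hy : ∀ i, y i ∈ d) :
    ∃! g : MulAction.stabilizer M24 d, ∀ i, ((g : M24) : Equiv.Perm GolayPt) (x i) = y i := by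
  obtain ⟨g, hg, hgd, h⟩ := dodecad_five_trans hd x y x.injective y.injective hx hy
  refine ⟨⟨⟨g, hg⟩, hgd⟩, h, ?_⟩
  rintro ⟨⟨k, hk⟩, hkd⟩ hk2
  have hkd' : k • d = d := hkd
  have hk2' : ∀ i, k (x i) = y i := hk2
  apply Subtype.ext
  apply Subtype.ext
  show k = g
  have : g⁻¹ * k = 1 := by
    apply eq_one_of_fix_dodecad_five hd x x.injective hx (M24.mul_mem (M24.inv_mem hg) hk)
    · rw [mul_smul, hkd', inv_smul_eq_iff, hgd]
    · intro i
      rw [Equiv.Perm.mul_apply, hk2', Equiv.Perm.inv_eq_iff_eq, h]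
  exact (inv_mul_eq_one.1 this).symm

/-- extend a point of a set with at least five elements to an injective 5-tuple -/
theorem exists_five_in_of_mem {s : Finset GolayPt} (h : 5 ≤ s.card) {p : GolayPt} (hp : p ∈ s) :
    ∃ x : Fin 5 → GolayPt, Function.Injective x ∧ (∀ i, x i ∈ s) ∧ x 0 = p := by
  obtain ⟨t, ht, ht5⟩ := Finset.exists_subset_card_eq (s := s.erase p) (n := 4)
    (by rw [Finset.card_erase_of_mem hp]; omega)
  obtain ⟨x, hx, hxs⟩ := exists_injective_of_card_eq ht5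
  have hx' : ∀ i, x i ∈ s.erase p := fun i => ht ((hxs _).2 ⟨i, rfl⟩)
  refine ⟨Fin.cons p x, ?_, ?_, rfl⟩
  · rw [Fin.cons_injective_iff]
    refine ⟨?_, hx⟩
    rintro ⟨i, hi⟩
    exact (Finset.mem_erase.1 (hx' i)).1 hi
  · intro i
    refine Fin.cases ?_ (fun j => ?_) i
    · simpa using hp
    · simpa using (Finset.mem_erase.1 (hx' j)).2

theorem dodecad_trans_pt {d : Finset GolayPt} (hd : d ∈ dodecads) {p q : GolayPt} (hp : p ∈ d) (hq : q ∈ d) :
    ∃ g ∈ M24, g • d = d ∧ g p = q := by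
  have hc : 5 ≤ d.card := by rw [card_of_mem_dodecads hd]; norm_num
  obtain ⟨x, hx, hxd, hx0⟩ := exists_five_in_of_mem hc hp
  obtain ⟨y, hy, hyd, hy0⟩ := exists_five_in_of_mem hc hq
  obtain ⟨g, hg, hgd, h⟩ := dodecad_five_trans hd x y hx hy hxd hyd
  exact ⟨g, hg, hgd, by rw [← hx0, ← hy0, h 0]⟩

theorem card_inf_stabilizer {G α β : Type*} [Group G] [MulAction G α] [MulAction G β] (a : α) (b : β) :
    Nat.card ↥(MulAction.stabilizer G a ⊓ MulAction.stabilizer G b) *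
      (MulAction.orbit (MulAction.stabilizer G a) b).ncard = Nat.card (MulAction.stabilizer G a) := by
  rw [← card_stabilizer_mul (G := MulAction.stabilizer G a) b]
  congr 1
  have h1 : MulAction.stabilizer (MulAction.stabilizer G a) b =
      (MulAction.stabilizer G a ⊓ MulAction.stabilizer G b).subgroupOf (MulAction.stabilizer G a) := by
    ext g
    simp [Subgroup.mem_subgroupOf, MulAction.mem_stabilizer_iff, Subgroup.smul_def]
  rw [h1]
  exact (Nat.card_congr (Subgroup.subgroupOfEquivOfLe inf_le_left).toEquiv).symm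

theorem card_stab_dodecad_pt {d : Finset GolayPt} (hd : d ∈ dodecads) {p : GolayPt} (hp : p ∈ d) :
    Nat.card ↥(MulAction.stabilizer M24 d ⊓ MulAction.stabilizer M24 p) = 7920 := by
  have h := card_inf_stabilizer (G := M24) d p
  have h2 : MulAction.orbit (MulAction.stabilizer M24 d) p = (d : Set GolayPt) := by
    ext q
    constructor
    · rintro ⟨g, rfl⟩
      have h3 : (g : M24) • d = d := g.2
      have h4 : (g : M24) • p ∈ (g : M24) • d := Finset.smul_mem_smul_finset hp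
      rw [h3] at h4
      exact h4
    · intro hq
      obtain ⟨g, hg, hgd, h⟩ := dodecad_trans_pt hd hp hq
      exact ⟨⟨⟨g, hg⟩, hgd⟩, h⟩
  rw [h2, card_stab_dodecad hd, Set.ncard_coe_finset, card_of_mem_dodecads hd] at h
  omega

/-! ### octads against a dodecad -/

theorem inter_octad_dodecad {o d : Finset GolayPt} (ho : o ∈ octads) (hd : d ∈ dodecads) :
    (o ∩ d).card = 2 ∨ (o ∩ d).card = 4 ∨ (o ∩ d).card = 6 := by
  rw [mem_octads_iff] at ho
  rw [mem_dodecads_iff] at hd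
  have hc : isCode (mask (symmDiff o d)) = true := by
    rw [mask_symmDiff]; exact isCode_xor _ _ ho.1 hd.1
  have hw := code_weight (mask_lt _) hc
  rw [← card_eq_pc] at hw
  have h1 := card_symmDiff_add o d
  have h2 : (o ∩ d).card ≤ o.card := Finset.card_le_card Finset.inter_subset_left
  omega

theorem ncard_octads_inter_smul {g : Equiv.Perm GolayPt} (hg : g ∈ M24) (d : Finset GolayPt) (k : ℕ) :
    {o | o ∈ octads ∧ (o ∩ (g • d)).card = k}.ncard = {o | o ∈ octads ∧ (o ∩ d).card = k}.ncard := by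
  have h : {o | o ∈ octads ∧ (o ∩ (g • d)).card = k} = (fun o => g • o) '' {o | o ∈ octads ∧ (o ∩ d).card = k} := by
    ext o
    constructor
    · rintro ⟨h1, h2⟩
      refine ⟨g⁻¹ • o, ⟨smul_mem_octads (M24.inv_mem hg) h1, ?_⟩, by simp⟩
      rw [← h2, ← Finset.card_smul_finset g (g⁻¹ • o ∩ d), Finset.smul_finset_inter, smul_inv_smul]
    · rintro ⟨o', ⟨h1, h2⟩, rfl⟩
      refine ⟨smul_mem_octads hg h1, ?_⟩
      rw [← h2, ← Finset.smul_finset_inter, Finset.card_smul_finset]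
  rw [h, Set.ncard_image_of_injective _ (MulAction.injective g)]

theorem ncard_octads_inter_std (k : ℕ) :
    {o | o ∈ octads ∧ (o ∩ stdDodecad).card = k}.ncard =
      countBelow (fun j => and (Nat.beq (pcF (encF j)) 8) (Nat.beq (pcF (Nat.land (encF j) 8442831)) k)) 4096 := by
  apply ncard_octads_filter (P := fun o => (o ∩ stdDodecad).card = k)
    (f := fun m => Nat.beq (pcF (Nat.land m 8442831)) k)
  intro s _
  rw [card_eq_pcF, mask_inter, mask_stdDodecad, Nat.beq_eq]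
  exact Iff.rfl

theorem ncard_octads_inter_dodecad {d : Finset GolayPt} (hd : d ∈ dodecads) :
    {o : Finset GolayPt | o ∈ octads ∧ (o ∩ d).card = 6}.ncard = 132 ∧
    {o : Finset GolayPt | o ∈ octads ∧ (o ∩ d).card = 2}.ncard = 132 ∧
    {o : Finset GolayPt | o ∈ octads ∧ (o ∩ d).card = 4}.ncard = 495 := by
  obtain ⟨g, hg, rfl⟩ := M24_trans_dodecads stdDodecad_mem hd
  rw [ncard_octads_inter_smul hg, ncard_octads_inter_smul hg, ncard_octads_inter_smul hg,
    ncard_octads_inter_std, ncard_octads_inter_std, ncard_octads_inter_std]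
  refine ⟨?_, ?_, ?_⟩ <;> decide +kernel

theorem steiner_5_6_12 {d : Finset GolayPt} (hd : d ∈ dodecads) :
    IsSteinerSystem 5 6 {h : Finset {p : GolayPt // p ∈ d} |
      ∃ o ∈ octads, (o ∩ d).card = 6 ∧ h = Finset.subtype (fun p => p ∈ d) o} := by
  constructor
  · rintro b ⟨o, -, h6, rfl⟩
    rw [Finset.card_subtype, ← h6]
    congr 1
  · intro s hs
    have hs' : (s.map (Function.Embedding.subtype _)).card = 5 := by rw [Finset.card_map, hs]
    obtain ⟨o, ho, hso⟩ := exists_octad_of_card_five hs'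
    have hsd : s.map (Function.Embedding.subtype _) ⊆ d := by
      intro p hp
      obtain ⟨q, -, rfl⟩ := Finset.mem_map.1 hp
      exact q.2
    have h5 : 5 ≤ (o ∩ d).card := by
      rw [← hs']
      exact Finset.card_le_card (Finset.subset_inter hso hsd)
    have h6 : (o ∩ d).card = 6 := by
      rcases inter_octad_dodecad ho hd with h | h | h <;> omega
    refine ⟨Finset.subtype (fun p => p ∈ d) o, ⟨⟨o, ho, h6, rfl⟩, ?_⟩, ?_⟩
    · intro q hq
      rw [Finset.mem_subtype]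
      exact hso (Finset.mem_map_of_mem _ hq)
    · rintro b ⟨⟨o', ho', -, rfl⟩, hsb⟩
      have hso' : s.map (Function.Embedding.subtype _) ⊆ o' := by
        intro p hp
        obtain ⟨q, hq, rfl⟩ := Finset.mem_map.1 hp
        exact Finset.mem_subtype.1 (hsb hq)
      have : o' = o := by
        apply octad_eq_of_inter ho' ho
        rw [← hs']
        exact Finset.card_le_card (Finset.subset_inter hso' hso)
      rw [this]

/-! ### pointwise stabiliser of an octad -/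

theorem card_congr_conj (K K' : Subgroup (Equiv.Perm GolayPt)) (h : Equiv.Perm GolayPt)
    (hK : ∀ x, x ∈ K' ↔ h⁻¹ * x * h ∈ K) : Nat.card K' = Nat.card K := by
  apply Nat.card_congr
  exact
    { toFun := fun x => ⟨h⁻¹ * x.1 * h, (hK x.1).1 x.2⟩
      invFun := fun x => ⟨h * x.1 * h⁻¹, (hK _).2 (by
        have : h⁻¹ * (h * x.1 * h⁻¹) * h = x.1 := by group
        rw [this]; exact x.2)⟩
      left_inv := fun x => Subtype.ext (by show h * (h⁻¹ * x.1 * h) * h⁻¹ = x.1; group)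
      right_inv := fun x => Subtype.ext (by show h⁻¹ * (h * x.1 * h⁻¹) * h = x.1; group) }

theorem card_fixG6 : Nat.card (fixG [23, 0, 1, 2, 3, 5]) = 16 := by
  have s7 := card_fixG_step [23, 0, 1, 2, 3, 5] [23, 0, 1, 2, 3, 5, 4] 4 (by simp [or_assoc])
    (Finset.univ.filter (fun y => idx y ∈ tg7))
    (fun y hy => checkLevel_spec level7 (by norm_num) (by simp) y (Finset.mem_filter.1 hy).2)
    (fun g hg => Finset.mem_filter.2 ⟨Finset.mem_univ _, fixG_target7 hg⟩)
  have c7 : (Finset.univ.filter (fun y : GolayPt => idx y ∈ tg7)).card = 16 := by decide +kernel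
  rw [s7, c7, fixG_base]
  simp

theorem fixOctad_std : M24 ⊓ fixingSubgroup (Equiv.Perm GolayPt) (stdOctad : Set GolayPt) =
    fixG [23, 0, 1, 2, 3, 5] := by
  ext g
  rw [Subgroup.mem_inf, mem_fixingSubgroup_iff, mem_fixG]
  constructor
  · rintro ⟨h1, h2⟩
    refine ⟨h1, ?_⟩
    intro f hf
    apply h2
    revert f
    decide +kernel
  · intro hg
    refine ⟨hg.1, ?_⟩
    obtain ⟨z, hz, rfl⟩ := fixG6_enum hg
    obtain ⟨hv, -⟩ := checkLevel_spec' level7 (by norm_num) (by simp) _ hz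
    intro p hp
    show permOf _ p = p
    rw [permOf_apply hv]
    have : ∀ z ∈ tg7, ∀ p ∈ stdOctad, pt ((trans7.getD z []).getD (idx p) 0) = p := by decide +kernel
    exact this z hz p hp

theorem fixG6_sq {g : Equiv.Perm GolayPt} (hg : g ∈ fixG [23, 0, 1, 2, 3, 5]) : g * g = 1 := by
  obtain ⟨z, hz, rfl⟩ := fixG6_enum hg
  obtain ⟨hv, -⟩ := checkLevel_spec' level7 (by norm_num) (by simp) _ hz
  apply Equiv.ext
  intro p
  rw [Equiv.Perm.mul_apply, permOf_apply hv, idx_permOf hv]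
  have : ∀ z ∈ tg7, ∀ p : GolayPt, pt ((trans7.getD z []).getD ((trans7.getD z []).getD (idx p) 0) 0) = p := by
    decide +kernel
  exact this z hz p

theorem fixOctad {o : Finset GolayPt} (ho : o ∈ octads) :
    Nat.card ↥(M24 ⊓ fixingSubgroup (Equiv.Perm GolayPt) (o : Set GolayPt)) = 16 ∧
      ∀ g ∈ M24 ⊓ fixingSubgroup (Equiv.Perm GolayPt) (o : Set GolayPt), g * g = 1 := by
  obtain ⟨h, hh, rfl⟩ := M24_trans_octads stdOctad_mem ho
  have key : ∀ x, x ∈ M24 ⊓ fixingSubgroup (Equiv.Perm GolayPt) ((h • stdOctad : Finset GolayPt) : Set GolayPt) ↔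
      h⁻¹ * x * h ∈ M24 ⊓ fixingSubgroup (Equiv.Perm GolayPt) (stdOctad : Set GolayPt) := by
    intro x
    rw [Subgroup.mem_inf, Subgroup.mem_inf, mem_fixingSubgroup_iff, mem_fixingSubgroup_iff]
    constructor
    · rintro ⟨h1, h2⟩
      refine ⟨M24.mul_mem (M24.mul_mem (M24.inv_mem hh) h1) hh, ?_⟩
      intro p hp
      have := h2 (h p) (by
        rw [Finset.mem_coe]
        exact Finset.smul_mem_smul_finset (Finset.mem_coe.1 hp))
      show h⁻¹ (x (h p)) = p
      rw [Equiv.Perm.inv_eq_iff_eq]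
      exact this
    · rintro ⟨h1, h2⟩
      refine ⟨?_, ?_⟩
      · have := M24.mul_mem (M24.mul_mem hh h1) (M24.inv_mem hh)
        have e : h * (h⁻¹ * x * h) * h⁻¹ = x := by group
        rwa [e] at this
      · intro p hp
        rw [Finset.mem_coe] at hp
        obtain ⟨q, hq, rfl⟩ := Finset.mem_smul_finset.1 hp
        have := h2 q (Finset.mem_coe.2 hq)
        have h3 : h⁻¹ (x (h q)) = q := this
        rw [Equiv.Perm.inv_eq_iff_eq] at h3
        exact h3
  constructor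
  · rw [card_congr_conj _ _ h key, fixOctad_std, card_fixG6]
  · intro g hg
    have h1 := (key g).1 hg
    rw [fixOctad_std] at h1
    have h2 := fixG6_sq h1
    have h3 : g * g = h * ((h⁻¹ * g * h) * (h⁻¹ * g * h)) * h⁻¹ := by group
    rw [h3, h2]; group

/-! ### 3-transitivity of the stabiliser of a dodecad and a point on the complementary dodecad -/

/-- generic extension step for a subgroup `K` preserving a set `S` -/
theorem extend_stepK (K : Subgroup (Equiv.Perm GolayPt)) (fixed : List ℕ) (b : ℕ) (S : Finset GolayPt)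
    (hlev : ∀ q ∈ S, (∀ f ∈ fixed, q ≠ pt f) → ∃ u ∈ K, (∀ f ∈ fixed, u (pt f) = pt f) ∧ u (pt b) = q)
    (hS : ∀ g ∈ K, ∀ p, g p ∈ S → p ∈ S)
    {g : Equiv.Perm GolayPt} (hg : g ∈ K) {y : GolayPt} (hyS : y ∈ S) (hy : ∀ f ∈ fixed, g (pt f) ≠ y) :
    ∃ g' ∈ K, (∀ f ∈ fixed, g' (pt f) = g (pt f)) ∧ g' (pt b) = y := by
  obtain ⟨u, hu, hu1, hu2⟩ := hlev (g⁻¹ y) (hS g hg _ (by simpa using hyS)) (by
    intro f hf h
    apply hy f hf
    rw [← h]; simp)
  refine ⟨g * u, K.mul_mem hg hu, ?_, ?_⟩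
  · intro f hff
    rw [Equiv.Perm.mul_apply, hu1 f hff]
  · rw [Equiv.Perm.mul_apply, hu2]; simp

def m11trans1 : List (List ℕ) := [
  [],
  [],
  [],
  [],
  [0,1,2,3,4,5,6,7,8,9,10,11,12,13,14,15,16,17,18,19,20,21,22,23],
  [1,12,8,2,5,18,3,14,9,6,19,21,7,13,0,15,22,11,10,4,20,16,17,23],
  [],
  [],
  [],
  [],
  [6,1,15,7,10,22,3,2,12,0,11,20,8,5,9,14,21,13,19,4,16,18,17,23],
  [14,6,7,12,11,16,3,0,15,8,17,20,2,13,9,1,21,19,5,4,18,22,10,23],
  [],
  [2,14,7,3,13,21,9,1,15,0,16,20,6,22,12,8,17,18,5,4,10,11,19,23],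
  [],
  [],
  [12,7,8,0,16,19,2,6,9,15,22,21,1,5,3,14,18,17,10,4,11,13,20,23],
  [1,14,12,15,17,18,3,8,7,2,10,20,0,19,9,6,21,5,13,4,22,16,11,23],
  [8,12,14,7,18,22,2,9,6,1,4,5,0,13,15,3,10,11,21,20,16,17,19,23],
  [6,9,2,1,19,5,12,15,0,7,17,18,14,4,8,3,22,16,13,11,10,21,20,23],
  [9,3,0,2,20,21,12,14,1,15,19,18,7,13,8,6,22,4,16,11,5,10,17,23],
  [3,2,6,1,21,18,0,12,14,9,17,11,8,5,15,7,13,4,19,16,10,20,22,23],
  [14,9,7,12,22,19,2,1,8,15,17,13,3,20,6,0,18,16,5,4,21,11,10,23],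
  []]

def m11trans2 : List (List ℕ) := [
  [],
  [],
  [],
  [],
  [],
  [0,1,2,3,4,5,6,7,8,9,10,11,12,13,14,15,16,17,18,19,20,21,22,23],
  [],
  [],
  [],
  [],
  [6,14,1,2,4,10,7,8,15,3,20,16,0,5,12,9,19,22,11,17,21,18,13,23],
  [7,9,0,6,4,11,12,2,14,3,16,21,15,19,8,1,10,20,17,5,18,22,13,23],
  [],
  [8,6,0,3,4,13,14,12,2,9,11,17,15,19,1,7,18,10,22,5,20,21,16,23],
  [],
  [],
  [3,14,15,2,4,16,0,8,1,6,17,10,7,5,9,12,11,22,19,20,13,18,21,23],
  [1,12,15,2,4,17,14,9,6,3,22,20,8,10,7,0,13,16,19,5,21,18,11,23],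
  [15,6,0,12,4,18,9,3,2,14,11,22,8,21,7,1,13,10,17,5,16,19,20,23],
  [2,14,8,3,4,19,1,15,0,9,17,10,7,5,6,12,22,11,16,13,20,21,18,23],
  [15,9,1,2,4,20,14,12,3,6,22,17,8,16,0,7,21,10,11,5,13,18,19,23],
  [2,9,15,12,4,21,7,8,0,14,22,10,1,5,6,3,17,11,20,18,16,19,13,23],
  [0,14,1,9,4,22,2,3,6,12,13,16,15,18,8,7,10,19,11,5,20,17,21,23],
  []]

def m11trans3 : List (List ℕ) := [
  [],
  [],
  [],
  [],
  [],
  [],
  [],
  [],
  [],
  [],
  [0,1,2,3,4,5,6,7,8,9,10,11,12,13,14,15,16,17,18,19,20,21,22,23],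
  [8,15,12,3,4,5,9,0,1,14,11,19,6,17,2,7,18,10,20,13,22,16,21,23],
  [],
  [1,15,14,9,4,5,6,0,7,2,13,19,3,22,12,8,20,18,10,16,21,11,17,23],
  [],
  [],
  [0,15,9,6,4,5,14,7,1,12,16,20,2,11,3,8,18,19,10,21,13,17,22,23],
  [7,15,14,2,4,5,12,8,1,9,17,10,3,16,6,0,18,20,19,22,21,11,13,23],
  [0,7,12,9,4,5,3,8,1,6,18,13,14,16,2,15,11,22,20,19,10,17,21,23],
  [1,8,6,9,4,5,14,7,0,12,19,13,3,22,2,15,21,16,10,18,20,17,11,23],
  [0,8,14,6,4,5,9,1,7,3,20,16,2,11,12,15,13,21,10,19,18,22,17,23],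
  [7,15,6,14,4,5,9,1,0,3,21,18,12,17,2,8,19,20,10,13,16,22,11,23],
  [8,15,2,12,4,5,14,1,7,6,22,18,9,11,3,0,20,10,19,21,17,13,16,23],
  []]

/-- the stabiliser of the standard dodecad and its point ∞ -/
def stdM11 : Subgroup (Equiv.Perm GolayPt) :=
  M24 ⊓ MulAction.stabilizer (Equiv.Perm GolayPt) stdDodecad ⊓ MulAction.stabilizer (Equiv.Perm GolayPt) (pt 23)

theorem mem_stdM11 {g : Equiv.Perm GolayPt} :
    g ∈ stdM11 ↔ g ∈ M24 ∧ g • stdDodecad = stdDodecad ∧ g (pt 23) = pt 23 := by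
  simp [stdM11, Subgroup.mem_inf, MulAction.mem_stabilizer_iff, and_assoc]

def checkDod (targets : List ℕ) (T : List (List ℕ)) : Bool :=
  targets.all (fun y => permMask (T.getD y []) 8442831 == 8442831)

theorem m11_level {fixed : List ℕ} {b : ℕ} {targets : List ℕ} {T : List (List ℕ)}
    (h : checkLevel (23 :: fixed) b targets T = true) (h' : checkDod targets T = true)
    (hb : b < 24) (hf : ∀ f ∈ fixed, f < 24) (q : GolayPt) (hq : idx q ∈ targets) :
    ∃ u ∈ stdM11, (∀ f ∈ fixed, u (pt f) = pt f) ∧ u (pt b) = q := by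
  obtain ⟨hv, h1, h2, h3⟩ := checkLevel_spec' h hb (by
    intro f hf'
    rcases List.mem_cons.1 hf' with rfl | h
    · norm_num
    · exact hf f h) _ hq
  simp only [checkDod, List.all_eq_true, beq_iff_eq] at h'
  refine ⟨_, mem_stdM11.2 ⟨h1, ?_, h2 23 (by simp)⟩, fun f hf' => h2 f (by simp [hf']), by rw [h3, pt_idx]⟩
  apply mask_injective
  rw [mask_smul, mask_stdDodecad, pm_permOf hv, h' _ hq]

def cmpl : List ℕ := [4, 5, 10, 11, 13, 16, 17, 18, 19, 20, 21, 22]

theorem m11lev1 : checkLevel [23] 4 cmpl m11trans1 = true := by decide +kernel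
theorem m11lev2 : checkLevel [23, 4] 5 (cmpl.filter (fun y => !([4].contains y))) m11trans2 = true := by
  decide +kernel
theorem m11lev3 : checkLevel [23, 4, 5] 10 (cmpl.filter (fun y => !([4, 5].contains y))) m11trans3 = true := by
  decide +kernel
theorem m11dod1 : checkDod cmpl m11trans1 = true := by decide +kernel
theorem m11dod2 : checkDod (cmpl.filter (fun y => !([4].contains y))) m11trans2 = true := by decide +kernel
theorem m11dod3 : checkDod (cmpl.filter (fun y => !([4, 5].contains y))) m11trans3 = true := by decide +kernel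

theorem idx_mem_cmpl {q : GolayPt} (hq : q ∈ Finset.univ \ stdDodecad) : idx q ∈ cmpl := by
  revert q; decide +kernel

theorem idx_mem_cmpl_filter {q : GolayPt} (hq : q ∈ Finset.univ \ stdDodecad) (fixed : List ℕ)
    (h : ∀ f ∈ fixed, q ≠ pt f) : idx q ∈ cmpl.filter (fun y => !(fixed.contains y)) := by
  rw [List.mem_filter]
  refine ⟨idx_mem_cmpl hq, ?_⟩
  simp only [List.contains_eq_mem, Bool.not_eq_true', decide_eq_false_iff_not]
  intro hm
  exact h _ hm (pt_idx q).symm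

theorem stdM11_preserves : ∀ g ∈ stdM11, ∀ p, g p ∈ Finset.univ \ stdDodecad → p ∈ Finset.univ \ stdDodecad := by
  intro g hg p hp
  simp only [Finset.mem_sdiff, Finset.mem_univ, true_and] at hp ⊢
  intro h
  apply hp
  have := (mem_stdM11.1 hg).2.1
  rw [← this]
  exact Finset.smul_mem_smul_finset h

theorem stdM11_base_to (y : Fin 3 → GolayPt) (hy : Function.Injective y) (hyd : ∀ i, y i ∉ stdDodecad) :
    ∃ g ∈ stdM11, g (pt 4) = y 0 ∧ g (pt 5) = y 1 ∧ g (pt 10) = y 2 := by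
  have hne : ∀ i j : Fin 3, i ≠ j → y i ≠ y j := fun i j hij h => hij (hy h)
  have hyS : ∀ i, y i ∈ Finset.univ \ stdDodecad := fun i => by simpa using hyd i
  obtain ⟨g1, hg1, -, h1⟩ := extend_stepK stdM11 [] 4 (Finset.univ \ stdDodecad)
    (fun q hq _ => m11_level m11lev1 m11dod1 (by norm_num) (by simp) q (idx_mem_cmpl hq))
    stdM11_preserves stdM11.one_mem (hyS 0) (by simp)
  obtain ⟨g2, hg2, h2a, h2⟩ := extend_stepK stdM11 [4] 5 (Finset.univ \ stdDodecad)
    (fun q hq hqf => m11_level m11lev2 m11dod2 (by norm_num) (by simp) q (idx_mem_cmpl_filter hq _ hqf))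
    stdM11_preserves hg1 (hyS 1) (by
      intro f hf
      simp only [List.mem_singleton] at hf
      subst hf; rw [h1]; exact hne _ _ (by decide))
  have e20 : g2 (pt 4) = y 0 := by rw [h2a 4 (by simp), h1]
  obtain ⟨g3, hg3, h3a, h3⟩ := extend_stepK stdM11 [4, 5] 10 (Finset.univ \ stdDodecad)
    (fun q hq hqf => m11_level m11lev3 m11dod3 (by norm_num) (by simp) q (idx_mem_cmpl_filter hq _ hqf))
    stdM11_preserves hg2 (hyS 2) (by
      intro f hf
      simp only [List.mem_cons, List.not_mem_nil, or_false] at hf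
      rcases hf with rfl | rfl
      · rw [e20]; exact hne _ _ (by decide)
      · rw [h2]; exact hne _ _ (by decide))
  exact ⟨g3, hg3, by rw [h3a 4 (by simp), e20], by rw [h3a 5 (by simp), h2], h3⟩

theorem stdM11_three_trans (x y : Fin 3 → GolayPt) (hx : Function.Injective x) (hy : Function.Injective y)
    (hxd : ∀ i, x i ∉ stdDodecad) (hyd : ∀ i, y i ∉ stdDodecad) :
    ∃ g ∈ stdM11, ∀ i, g (x i) = y i := by
  obtain ⟨g, hg, g0, g1, g2⟩ := stdM11_base_to x hx hxd
  obtain ⟨k, hk, k0, k1, k2⟩ := stdM11_base_to y hy hyd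
  refine ⟨k * g⁻¹, stdM11.mul_mem hk (stdM11.inv_mem hg), ?_⟩
  intro i
  fin_cases i
  · show (k * g⁻¹) (x 0) = y 0
    rw [← g0, ← k0]; simp
  · show (k * g⁻¹) (x 1) = y 1
    rw [← g1, ← k1]; simp
  · show (k * g⁻¹) (x 2) = y 2
    rw [← g2, ← k2]; simp

theorem M11_three_trans {d : Finset GolayPt} (hd : d ∈ dodecads) {p : GolayPt} (hp : p ∈ d)
    (x y : Fin 3 → GolayPt) (hx : Function.Injective x) (hy : Function.Injective y)
    (hxd : ∀ i, x i ∉ d) (hyd : ∀ i, y i ∉ d) :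
    ∃ g ∈ M24, g • d = d ∧ g p = p ∧ ∀ i, g (x i) = y i := by
  have hc : 5 ≤ d.card := by rw [card_of_mem_dodecads hd]; norm_num
  obtain ⟨z, hz, hzd, hz0⟩ := exists_five_in_of_mem hc hp
  obtain ⟨k, hk, hkd, hkz⟩ := dodecad_five_to_std hd z hz hzd
  have hkp : k p = pt 23 := by rw [← hz0, hkz 0]; rfl
  have hmem : ∀ q, q ∉ d → k q ∉ stdDodecad := by
    intro q hq h
    rw [← hkd] at h
    obtain ⟨q', hq', h'⟩ := Finset.mem_smul_finset.1 h
    have : q' = q := k.injective h'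
    exact hq (this ▸ hq')
  obtain ⟨g, hg, h⟩ := stdM11_three_trans (fun i => k (x i)) (fun i => k (y i))
    (k.injective.comp hx) (k.injective.comp hy) (fun i => hmem _ (hxd i)) (fun i => hmem _ (hyd i))
  obtain ⟨g1, g2, g3⟩ := mem_stdM11.1 hg
  refine ⟨k⁻¹ * g * k, M24.mul_mem (M24.mul_mem (M24.inv_mem hk) g1) hk, ?_, ?_, ?_⟩
  · rw [mul_smul, mul_smul, hkd, g2, ← hkd, inv_smul_smul]
  · show k⁻¹ (g (k p)) = p
    rw [hkp, g3, ← hkp]; simp
  · intro i
    show k⁻¹ (g (k (x i))) = y i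
    rw [h i]; simp

end Cfsg.Agent.Lib.Helper28
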