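/-
Restriction of setwise stabilisers in M24 to the set; 6-sets.
-/
import Cfsg.Agent.Lib.Helper28.GolayDodecad2
import Cfsg.Agent.Lib.Helper10.M24Six
set_option autoImplicit false
open Cfsg
open scoped Pointwise
namespace Cfsg.Agent.Lib.Helper28
open Cfsg.Agent.Lib.Helper10 (six_normal)

theorem apply_mem_iff_of_smul_eq {g : Equiv.Perm GolayPt} {E : Finset GolayPt} (h : g • E = E) (x : GolayPt) :
    g x ∈ E ↔ x ∈ E := by
  conv_lhs => rw [← h]
  exact Finset.smul_mem_smul_finset_iff g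

/-- restriction of the setwise stabiliser of `E` in a subgroup `G` of the symmetric group to `E` -/
def restrictHom (G : Subgroup (Equiv.Perm GolayPt)) (E : Finset GolayPt) :
    MulAction.stabilizer G E →* Equiv.Perm E :=
  MonoidHom.mk' (fun h => Equiv.Perm.subtypePerm (h.1.1) (fun x => apply_mem_iff_of_smul_eq h.2 x))
    (fun a b => by
      apply Equiv.ext
      intro x
      rfl)

theorem restrictHom_apply (G : Subgroup (Equiv.Perm GolayPt)) (E : Finset GolayPt)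
    (h : MulAction.stabilizer G E) (x : E) : ((restrictHom G E h x : E) : GolayPt) = h.1.1 x := rfl

theorem smul_eq_of_maps {g : Equiv.Perm GolayPt} {E : Finset GolayPt} (h : ∀ p ∈ E, g p ∈ E) : g • E = E := by
  apply Finset.eq_of_subset_of_card_le
  · intro x hx
    obtain ⟨y, hy, rfl⟩ := Finset.mem_smul_finset.1 hx
    exact h y hy
  · rw [Finset.card_smul_finset]

/-- the order of the setwise stabiliser when the restriction is onto -/
theorem card_stabilizer_of_surj (G : Subgroup (Equiv.Perm GolayPt)) (E : Finset GolayPt)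
    (hs : ∀ σ : Equiv.Perm E, ∃ g ∈ G, ∀ p : E, g p = σ p) :
    Nat.card (MulAction.stabilizer G E) =
      Nat.card {g : Equiv.Perm GolayPt // g ∈ G ∧ ∀ p ∈ E, g p = p} * (E.card).factorial := by
  have hsurj : Function.Surjective (restrictHom G E) := by
    intro σ
    obtain ⟨g, hg, h⟩ := hs σ
    refine ⟨⟨⟨g, hg⟩, ?_⟩, ?_⟩
    · rw [MulAction.mem_stabilizer_iff]
      exact smul_eq_of_maps (fun p hp => by rw [h ⟨p, hp⟩]; exact (σ ⟨p, hp⟩).2)
    · apply Equiv.ext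
      intro x
      apply Subtype.ext
      exact h x
  rw [← Subgroup.card_mul_index (restrictHom G E).ker, Subgroup.index_ker,
    MonoidHom.range_eq_top.2 hsurj]
  congr 1
  · apply Nat.card_congr
    exact
      { toFun := fun k => ⟨k.1.1.1, k.1.1.2, fun p hp => by
          have := MonoidHom.mem_ker.1 k.2
          have h2 := congrArg (fun σ : Equiv.Perm E => ((σ ⟨p, hp⟩ : E) : GolayPt)) this
          exact h2⟩
        invFun := fun g => ⟨⟨⟨g.1, g.2.1⟩, by
            rw [MulAction.mem_stabilizer_iff]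
            exact smul_eq_of_maps (fun p hp => by rw [g.2.2 p hp]; exact hp)⟩, by
          rw [MonoidHom.mem_ker]
          apply Equiv.ext
          intro x
          apply Subtype.ext
          exact g.2.2 x.1 x.2⟩
        left_inv := fun k => rfl
        right_inv := fun g => rfl }
  · rw [Nat.card_congr (Subgroup.topEquiv).toEquiv, Nat.card_eq_fintype_card, Fintype.card_perm,
      Fintype.card_coe]

/-- conjugating a pointwise stabiliser to a standard one -/
theorem card_fix_conj (E : Finset GolayPt) (F : List ℕ) {k : Equiv.Perm GolayPt} (hk : k ∈ M24)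
    (h1 : ∀ p ∈ E, ∃ f ∈ F, k p = pt f) (h2 : ∀ f ∈ F, ∃ p ∈ E, k p = pt f) :
    Nat.card {g : Equiv.Perm GolayPt // g ∈ M24 ∧ ∀ p ∈ E, g p = p} = Nat.card (fixG F) := by
  apply Nat.card_congr
  exact
    { toFun := fun g => ⟨k * g.1 * k⁻¹, M24.mul_mem (M24.mul_mem hk g.2.1) (M24.inv_mem hk), fun f hf => by
        obtain ⟨p, hp, hpf⟩ := h2 f hf
        rw [← hpf]
        simp [g.2.2 p hp]⟩
      invFun := fun g => ⟨k⁻¹ * g.1 * k, M24.mul_mem (M24.mul_mem (M24.inv_mem hk) g.2.1) hk, fun p hp => by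
        obtain ⟨f, hf, hpf⟩ := h1 p hp
        show k⁻¹ (g.1 (k p)) = p
        rw [hpf, g.2.2 f hf, ← hpf]; simp⟩
      left_inv := fun g => Subtype.ext (by show k⁻¹ * (k * g.1 * k⁻¹) * k = g.1; group)
      right_inv := fun g => Subtype.ext (by show k * (k⁻¹ * g.1 * k) * k⁻¹ = g.1; group) }

theorem card_fixG5 : Nat.card (fixG [23, 0, 1, 2, 3]) = 48 := by
  have s6 := card_fixG_step [23, 0, 1, 2, 3] [23, 0, 1, 2, 3, 5] 5 (by simp [or_assoc])
    (Finset.univ.filter (fun y => idx y ∈ [5, 14, 17]))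
    (fun y hy => checkLevel_spec level6 (by norm_num) (by simp) y (Finset.mem_filter.1 hy).2)
    (fun g hg => Finset.mem_filter.2 ⟨Finset.mem_univ _, fixG_target6 hg⟩)
  have c6 : (Finset.univ.filter (fun y : GolayPt => idx y ∈ [5, 14, 17])).card = 3 := by decide +kernel
  rw [s6, c6, card_fixG6]

theorem card_fixG5_4 : Nat.card (fixG [23, 0, 1, 2, 3, 4]) = 3 := by
  have s := card_fixG_step [23, 0, 1, 2, 3] [23, 0, 1, 2, 3, 4] 4 (by simp [or_assoc])
    (Finset.univ.filter (fun y => idx y ∈ tg7))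
    (fun y hy => by
      obtain ⟨u, hu, h1, h2⟩ := checkLevel_spec level7 (by norm_num) (by simp) y (Finset.mem_filter.1 hy).2
      exact ⟨u, hu, fun f hf => h1 f (by simp only [List.mem_cons, List.not_mem_nil, or_false] at hf ⊢; tauto), h2⟩)
    (fun g hg => by
      refine Finset.mem_filter.2 ⟨Finset.mem_univ _, ?_⟩
      have h2 : g (pt 4) ∉ stdOctad := by
        intro h
        have h3 := (apply_mem_iff_of_smul_eq (fixG5_smul_stdOctad hg) (pt 4)).1 h
        revert h3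
        decide +kernel
      generalize g (pt 4) = q at h2
      revert q
      decide +kernel)
  have c7 : (Finset.univ.filter (fun y : GolayPt => idx y ∈ tg7)).card = 16 := by decide +kernel
  rw [card_fixG5, c7] at s
  omega

theorem exists_list6 {B : Finset GolayPt} (h : B.card = 6) :
    ∃ a b c d e f, B.toList = [a, b, c, d, e, f] := by
  have := Finset.length_toList B
  rw [h] at this
  match B.toList, this with
  | [a, b, c, d, e, f], _ => exact ⟨a, b, c, d, e, f, rfl⟩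

/-- normal form of a 6-set with an ordering -/
theorem six_set_normal {E : Finset GolayPt} {a b c d e f : GolayPt} (hnd : [a, b, c, d, e, f].Nodup)
    (hE : ∀ x, x ∈ E ↔ x ∈ [a, b, c, d, e, f]) :
    ∃ g ∈ M24, g a = pt 23 ∧ g b = pt 0 ∧ g c = pt 1 ∧ g d = pt 2 ∧ g e = pt 3 ∧
      ((g f = pt 5 ∧ ∃ o ∈ octads, E ⊆ o) ∨ (g f = pt 4 ∧ ¬ ∃ o ∈ octads, E ⊆ o)) := by
  obtain ⟨g, hg, ga, gb, gc, gd, ge, gf⟩ := six_normal hnd
  have key : (∃ o ∈ octads, a ∈ o ∧ b ∈ o ∧ c ∈ o ∧ d ∈ o ∧ e ∈ o ∧ f ∈ o) ↔ ∃ o ∈ octads, E ⊆ o := by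
    constructor
    · rintro ⟨o, ho, h1, h2, h3, h4, h5, h6⟩
      refine ⟨o, ho, fun x hx => ?_⟩
      have := (hE x).1 hx
      simp only [List.mem_cons, List.not_mem_nil, or_false] at this
      rcases this with rfl | rfl | rfl | rfl | rfl | rfl <;> assumption
    · rintro ⟨o, ho, h⟩
      exact ⟨o, ho, h ((hE a).2 (by simp)), h ((hE b).2 (by simp)), h ((hE c).2 (by simp)),
        h ((hE d).2 (by simp)), h ((hE e).2 (by simp)), h ((hE f).2 (by simp))⟩
  rw [key] at gf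
  exact ⟨g, hg, ga, gb, gc, gd, ge, gf⟩

theorem six_set_perm {E : Finset GolayPt} (hE : E.card = 6) (σ : Equiv.Perm E) :
    ∃ g ∈ M24, ∀ p : E, g p = σ p := by
  obtain ⟨a, b, c, d, e, f, hl⟩ := exists_list6 hE
  have hnd : [a, b, c, d, e, f].Nodup := hl ▸ Finset.nodup_toList E
  have hmem : ∀ x, x ∈ E ↔ x ∈ [a, b, c, d, e, f] := fun x => by rw [← hl, Finset.mem_toList]
  have ha := (hmem a).2 (by simp)
  have hb := (hmem b).2 (by simp)
  have hc := (hmem c).2 (by simp)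
  have hd := (hmem d).2 (by simp)
  have he := (hmem e).2 (by simp)
  have hf := (hmem f).2 (by simp)
  have hnd' : [((σ ⟨a, ha⟩ : E) : GolayPt), σ ⟨b, hb⟩, σ ⟨c, hc⟩, σ ⟨d, hd⟩, σ ⟨e, he⟩, σ ⟨f, hf⟩].Nodup := by
    have h1 : [(⟨a, ha⟩ : E), ⟨b, hb⟩, ⟨c, hc⟩, ⟨d, hd⟩, ⟨e, he⟩, ⟨f, hf⟩].Nodup := by
      apply List.Nodup.of_map Subtype.val
      exact hnd
    have h2 := h1.map (f := fun x : E => ((σ x : E) : GolayPt)) (Subtype.val_injective.comp σ.injective)
    exact h2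
  have hmem' : ∀ x, x ∈ E ↔
      x ∈ [((σ ⟨a, ha⟩ : E) : GolayPt), σ ⟨b, hb⟩, σ ⟨c, hc⟩, σ ⟨d, hd⟩, σ ⟨e, he⟩, σ ⟨f, hf⟩] := by
    intro x
    constructor
    · intro hx
      have h1 := (hmem (σ⁻¹ ⟨x, hx⟩ : E)).1 (σ⁻¹ ⟨x, hx⟩ : E).2
      have h2 : ∀ (y : GolayPt) (hy : y ∈ E), ((σ⁻¹ ⟨x, hx⟩ : E) : GolayPt) = y → x = (σ ⟨y, hy⟩ : E) := by
        intro y hy h
        have : σ⁻¹ ⟨x, hx⟩ = ⟨y, hy⟩ := Subtype.ext h
        rw [← this]; simp
      simp only [List.mem_cons, List.not_mem_nil, or_false] at h1 ⊢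
      rcases h1 with h | h | h | h | h | h
      · exact Or.inl (h2 _ ha h)
      · exact Or.inr (Or.inl (h2 _ hb h))
      · exact Or.inr (Or.inr (Or.inl (h2 _ hc h)))
      · exact Or.inr (Or.inr (Or.inr (Or.inl (h2 _ hd h))))
      · exact Or.inr (Or.inr (Or.inr (Or.inr (Or.inl (h2 _ he h)))))
      · exact Or.inr (Or.inr (Or.inr (Or.inr (Or.inr (h2 _ hf h)))))
    · intro hx
      simp only [List.mem_cons, List.not_mem_nil, or_false] at hx
      rcases hx with rfl | rfl | rfl | rfl | rfl | rfl <;> exact Subtype.coe_prop _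
  obtain ⟨g, hg, ga, gb, gc, gd, ge, gf⟩ := six_set_normal hnd hmem
  obtain ⟨k, hk, ka, kb, kc, kd, ke, kf⟩ := six_set_normal hnd' hmem'
  have hgk : g f = k (σ ⟨f, hf⟩ : E) := by
    rcases gf with ⟨h1, h2⟩ | ⟨h1, h2⟩ <;> rcases kf with ⟨h3, h4⟩ | ⟨h3, h4⟩
    · rw [h1, h3]
    · exact absurd h2 h4
    · exact absurd h4 h2
    · rw [h1, h3]
  refine ⟨k⁻¹ * g, M24.mul_mem (M24.inv_mem hk) hg, ?_⟩
  rintro ⟨p, hp⟩
  have hp' := (hmem p).1 hp
  show k⁻¹ (g p) = _
  rw [Equiv.Perm.inv_eq_iff_eq]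
  simp only [List.mem_cons, List.not_mem_nil, or_false] at hp'
  rcases hp' with rfl | rfl | rfl | rfl | rfl | rfl
  · rw [ga, ka]
  · rw [gb, kb]
  · rw [gc, kc]
  · rw [gd, kd]
  · rw [ge, ke]
  · exact hgk

theorem six_set_fix {E : Finset GolayPt} (hE : E.card = 6) :
    ((∃ o ∈ octads, E ⊆ o) → Nat.card {g : Equiv.Perm GolayPt // g ∈ M24 ∧ ∀ p ∈ E, g p = p} = 16) ∧
    ((¬ ∃ o ∈ octads, E ⊆ o) → Nat.card {g : Equiv.Perm GolayPt // g ∈ M24 ∧ ∀ p ∈ E, g p = p} = 3) := by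
  obtain ⟨a, b, c, d, e, f, hl⟩ := exists_list6 hE
  have hnd : [a, b, c, d, e, f].Nodup := hl ▸ Finset.nodup_toList E
  have hmem : ∀ x, x ∈ E ↔ x ∈ [a, b, c, d, e, f] := fun x => by rw [← hl, Finset.mem_toList]
  obtain ⟨g, hg, ga, gb, gc, gd, ge, gf⟩ := six_set_normal hnd hmem
  have key : ∀ z : ℕ, g f = pt z →
      Nat.card {g : Equiv.Perm GolayPt // g ∈ M24 ∧ ∀ p ∈ E, g p = p} = Nat.card (fixG [23, 0, 1, 2, 3, z]) := by
    intro z hz
    apply card_fix_conj E _ hg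
    · intro p hp
      have hp' := (hmem p).1 hp
      simp only [List.mem_cons, List.not_mem_nil, or_false] at hp'
      rcases hp' with rfl | rfl | rfl | rfl | rfl | rfl
      · exact ⟨23, by simp, ga⟩
      · exact ⟨0, by simp, gb⟩
      · exact ⟨1, by simp, gc⟩
      · exact ⟨2, by simp, gd⟩
      · exact ⟨3, by simp, ge⟩
      · exact ⟨z, by simp, hz⟩
    · intro y hy
      simp only [List.mem_cons, List.not_mem_nil, or_false] at hy
      rcases hy with rfl | rfl | rfl | rfl | rfl | rfl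
      · exact ⟨a, (hmem a).2 (by simp), ga⟩
      · exact ⟨b, (hmem b).2 (by simp), gb⟩
      · exact ⟨c, (hmem c).2 (by simp), gc⟩
      · exact ⟨d, (hmem d).2 (by simp), gd⟩
      · exact ⟨e, (hmem e).2 (by simp), ge⟩
      · exact ⟨f, (hmem f).2 (by simp), hz⟩
  rcases gf with ⟨h1, h2⟩ | ⟨h1, h2⟩
  · exact ⟨fun _ => by rw [key 5 h1, card_fixG6], fun h => absurd h2 h⟩
  · exact ⟨fun h => absurd h h2, fun _ => by rw [key 4 h1, card_fixG5_4]⟩

end Cfsg.Agent.Lib.Helper28
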