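/-
Fixed points of elements of prime order of M24 and orbit lengths of subgroups.
-/
import Cfsg.Agent.Lib.Helper28.GolaySix
set_option autoImplicit false
open Cfsg
open scoped Pointwise
namespace Cfsg.Agent.Lib.Helper28

theorem card_modEq_fix {α : Type*} [Fintype α] [DecidableEq α] (c : Equiv.Perm α) (p : ℕ) [Fact p.Prime]
    (hc : c ^ p = 1) (Δ : Finset α) (hΔ : ∀ x ∈ Δ, c x ∈ Δ) :
    Δ.card ≡ (Δ.filter (fun x => c x = x)).card [MOD p] := by
  let f : Function.End Δ := fun x => ⟨c x, hΔ x x.2⟩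
  have hpow : ∀ (n : ℕ) (x : Δ), (((f ^ n) x : Δ) : α) = (c ^ n) x := by
    intro n
    induction n with
    | zero => intro x; rfl
    | succ n ih =>
      intro x
      rw [pow_succ, pow_succ]
      show (((f ^ n) (f x) : Δ) : α) = (c ^ n) (c x)
      rw [ih]
  have hf : f ^ p ^ 1 = 1 := by
    funext x
    apply Subtype.ext
    rw [pow_one, hpow, hc]
    rfl
  have h := Equiv.Perm.card_fixedPoints_modEq hf
  rw [Fintype.card_coe] at h
  have h2 : Fintype.card (Function.fixedPoints f) = (Δ.filter (fun x => c x = x)).card := by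
    rw [← Fintype.card_coe]
    apply Fintype.card_congr
    exact
      { toFun := fun x => ⟨x.1.1, Finset.mem_filter.2 ⟨x.1.2, congrArg Subtype.val x.2⟩⟩
        invFun := fun x => ⟨⟨x.1, (Finset.mem_filter.1 x.2).1⟩, Subtype.ext (Finset.mem_filter.1 x.2).2⟩
        left_inv := fun x => rfl
        right_inv := fun x => rfl }
  rwa [h2] at h

/-- the fixed points of a permutation -/
def fixPts (g : Equiv.Perm GolayPt) : Finset GolayPt := Finset.univ.filter (fun p => g p = p)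

theorem mem_fixPts {g : Equiv.Perm GolayPt} {p : GolayPt} : p ∈ fixPts g ↔ g p = p := by
  simp [fixPts]

theorem conj_into_fixG5 {g : Equiv.Perm GolayPt} (hg : g ∈ M24) (h5 : 5 ≤ (fixPts g).card) :
    ∃ k ∈ M24, k * g * k⁻¹ ∈ fixG [23, 0, 1, 2, 3] := by
  obtain ⟨t, ht, hc⟩ := Finset.exists_subset_card_eq h5
  obtain ⟨y, hy, hyt⟩ := exists_injective_of_card_eq hc
  obtain ⟨h, hh, e0, e1, e2, e3, e4⟩ := M24_base_to y hy
  have hfix : ∀ i, g (y i) = y i := fun i => mem_fixPts.1 (ht ((hyt _).2 ⟨i, rfl⟩))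
  refine ⟨h⁻¹, M24.inv_mem hh, M24.mul_mem (M24.mul_mem (M24.inv_mem hh) hg) (M24.inv_mem (M24.inv_mem hh)), ?_⟩
  intro f hf
  simp only [List.mem_cons, List.not_mem_nil, or_false] at hf
  simp only [inv_inv, Equiv.Perm.mul_apply]
  rcases hf with rfl | rfl | rfl | rfl | rfl
  · rw [e0, hfix, ← e0]; simp
  · rw [e1, hfix, ← e1]; simp
  · rw [e2, hfix, ← e2]; simp
  · rw [e3, hfix, ← e3]; simp
  · rw [e4, hfix, ← e4]; simp

theorem pow_48_of_five_fixed {g : Equiv.Perm GolayPt} (hg : g ∈ M24) (h5 : 5 ≤ (fixPts g).card) :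
    g ^ 48 = 1 := by
  obtain ⟨k, -, hk⟩ := conj_into_fixG5 hg h5
  have h1 : (⟨_, hk⟩ : fixG [23, 0, 1, 2, 3]) ^ Nat.card (fixG [23, 0, 1, 2, 3]) = 1 := pow_card_eq_one'
  rw [card_fixG5] at h1
  have h2 := congrArg Subtype.val h1
  simp only [Subgroup.coe_pow, Subgroup.coe_one, conj_pow] at h2
  have h3 : g ^ 48 = k⁻¹ * (k * g ^ 48 * k⁻¹) * k := by group
  rw [h3, h2]; group

/-- an element of prime order at least five has exactly `24 % p` fixed points -/
theorem card_fixPts_of_prime {g : Equiv.Perm GolayPt} (hg : g ∈ M24) {p : ℕ} (hp : p.Prime) (hp5 : 5 ≤ p)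
    (ho : orderOf g = p) : (fixPts g).card = 24 % p := by
  have : Fact p.Prime := ⟨hp⟩
  have h4 : (fixPts g).card < 5 := by
    by_contra h
    have h48 := pow_48_of_five_fixed hg (not_lt.1 h)
    have hd : p ∣ 48 := ho ▸ orderOf_dvd_of_pow_eq_one h48
    have hd' : p ∣ 2 ^ 4 * 3 := by norm_num; exact hd
    rcases (Nat.Prime.dvd_mul hp).1 hd' with h | h
    · have := (Nat.prime_dvd_prime_iff_eq hp Nat.prime_two).1 (hp.dvd_of_dvd_pow h)
      omega
    · have := (Nat.prime_dvd_prime_iff_eq hp Nat.prime_three).1 h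
      omega
  have hm := card_modEq_fix g p (ho ▸ pow_orderOf_eq_one g) Finset.univ (fun _ _ => Finset.mem_univ _)
  have hu : (Finset.univ : Finset GolayPt).card = 24 := rfl
  rw [hu] at hm
  have : (fixPts g).card % p = (fixPts g).card := Nat.mod_eq_of_lt (by omega)
  rw [← this]
  exact hm.symm

/-- the orbit of a point under a subgroup, as a finset -/
noncomputable def orbF (L : Subgroup (Equiv.Perm GolayPt)) (x : GolayPt) : Finset GolayPt := by
  classical exact Finset.univ.filter (fun y => ∃ g ∈ L, g x = y)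

theorem mem_orbF {L : Subgroup (Equiv.Perm GolayPt)} {x y : GolayPt} : y ∈ orbF L x ↔ ∃ g ∈ L, g x = y := by
  classical
  simp [orbF]

theorem self_mem_orbF (L : Subgroup (Equiv.Perm GolayPt)) (x : GolayPt) : x ∈ orbF L x :=
  mem_orbF.2 ⟨1, L.one_mem, rfl⟩

/-- the stabilizer of a point in a subgroup -/
def stabIn (L : Subgroup (Equiv.Perm GolayPt)) (x : GolayPt) : Subgroup (Equiv.Perm GolayPt) :=
  L ⊓ MulAction.stabilizer (Equiv.Perm GolayPt) x

theorem mem_stabIn {L : Subgroup (Equiv.Perm GolayPt)} {x : GolayPt} {g : Equiv.Perm GolayPt} :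
    g ∈ stabIn L x ↔ g ∈ L ∧ g x = x := by
  simp [stabIn, Subgroup.mem_inf, MulAction.mem_stabilizer_iff]

theorem card_stabIn_mul (L : Subgroup (Equiv.Perm GolayPt)) (x : GolayPt) :
    Nat.card (stabIn L x) * (orbF L x).card = Nat.card L := by
  rw [← card_stabilizer_mul (G := L) x]
  congr 1
  · apply Nat.card_congr
    exact
      { toFun := fun g => ⟨⟨g.1, (mem_stabIn.1 g.2).1⟩, (mem_stabIn.1 g.2).2⟩
        invFun := fun g => ⟨g.1.1, mem_stabIn.2 ⟨g.1.2, g.2⟩⟩
        left_inv := fun g => rfl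
        right_inv := fun g => rfl }
  · rw [← Set.ncard_coe_finset]
    congr 1
    ext y
    simp only [Finset.mem_coe, mem_orbF, MulAction.mem_orbit_iff]
    constructor
    · rintro ⟨g, hg, rfl⟩; exact ⟨⟨g, hg⟩, rfl⟩
    · rintro ⟨g, rfl⟩; exact ⟨g.1, g.2, rfl⟩

theorem orbF_disjoint {L : Subgroup (Equiv.Perm GolayPt)} {F : Finset GolayPt}
    (hF : ∀ g ∈ L, ∀ f ∈ F, g f = f) {x : GolayPt} (hx : x ∉ F) : Disjoint (orbF L x) F := by
  rw [Finset.disjoint_left]
  intro y hy hyF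
  obtain ⟨g, hg, rfl⟩ := mem_orbF.1 hy
  have := hF g⁻¹ (L.inv_mem hg) _ hyF
  simp at this
  exact hx (this ▸ hyF)

theorem card_orbF_le {L : Subgroup (Equiv.Perm GolayPt)} {F : Finset GolayPt}
    (hF : ∀ g ∈ L, ∀ f ∈ F, g f = f) {x : GolayPt} (hx : x ∉ F) : (orbF L x).card + F.card ≤ 24 := by
  rw [← Finset.card_union_of_disjoint (orbF_disjoint hF hx)]
  exact Finset.card_le_univ _

theorem card_orbF_pos (L : Subgroup (Equiv.Perm GolayPt)) (x : GolayPt) : 0 < (orbF L x).card :=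
  Finset.card_pos.2 ⟨x, self_mem_orbF L x⟩

/-- congruence for the orbit lengths of a subgroup of M24 whose order is divisible by a prime `p ≥ 5` -/
theorem card_orbF_mod {L : Subgroup (Equiv.Perm GolayPt)} (hL : L ≤ M24) {F : Finset GolayPt}
    (hF : ∀ g ∈ L, ∀ f ∈ F, g f = f) {x : GolayPt} (hx : x ∉ F) {p : ℕ} (hp : p.Prime) (hp5 : 5 ≤ p)
    (hd : p ∣ Nat.card L) : (orbF L x).card % p + F.card ≤ 24 % p := by
  have : Fact p.Prime := ⟨hp⟩
  obtain ⟨c, hc⟩ := exists_prime_orderOf_dvd_card' p hd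
  have hc' : orderOf (c : Equiv.Perm GolayPt) = p := by rw [Subgroup.orderOf_coe, hc]
  have hfix := card_fixPts_of_prime (hL c.2) hp hp5 hc'
  have hm := card_modEq_fix (c : Equiv.Perm GolayPt) p (hc' ▸ pow_orderOf_eq_one _) (orbF L x) (by
    intro y hy
    obtain ⟨g, hg, rfl⟩ := mem_orbF.1 hy
    exact mem_orbF.2 ⟨c * g, L.mul_mem c.2 hg, rfl⟩)
  set R := (orbF L x).filter (fun y => (c : Equiv.Perm GolayPt) y = y) with hR
  have hdis : Disjoint R F := Finset.disjoint_of_subset_left (Finset.filter_subset _ _) (orbF_disjoint hF hx)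
  have hsub : R ∪ F ⊆ fixPts (c : Equiv.Perm GolayPt) := by
    intro y hy
    rcases Finset.mem_union.1 hy with h | h
    · exact mem_fixPts.2 (Finset.mem_filter.1 h).2
    · exact mem_fixPts.2 (hF c c.2 y h)
  have hle := Finset.card_le_card hsub
  rw [Finset.card_union_of_disjoint hdis, hfix] at hle
  have hlt : 24 % p < p := Nat.mod_lt _ hp.pos
  have : (orbF L x).card % p = R.card := by
    rw [hm, Nat.mod_eq_of_lt (by omega)]
  omega

end Cfsg.Agent.Lib.Helper28
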