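/-
Tools for automorphisms of subgroups of M24: images of point stabilizers, octads as fixed point sets.
-/
import Cfsg.Agent.Lib.Helper28.AutPerm
import Cfsg.Agent.Lib.Helper28.FixCount
set_option autoImplicit false
open Cfsg
open scoped Pointwise
namespace Cfsg.Agent.Lib.Helper28

/-- the image of the stabilizer of `x` under an automorphism, as a group of permutations -/
def imgStab (K : Subgroup (Equiv.Perm GolayPt)) (φ : MulAut K) (x : GolayPt) : Subgroup (Equiv.Perm GolayPt) :=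
  ((MulAction.stabilizer K x).map φ.toMonoidHom).map K.subtype

theorem mem_imgStab {K : Subgroup (Equiv.Perm GolayPt)} {φ : MulAut K} {x : GolayPt} {h : Equiv.Perm GolayPt} :
    h ∈ imgStab K φ x ↔ ∃ g : K, (g : Equiv.Perm GolayPt) x = x ∧ ((φ g : K) : Equiv.Perm GolayPt) = h := by
  simp only [imgStab, Subgroup.mem_map, MulAction.mem_stabilizer_iff]
  constructor
  · rintro ⟨_, ⟨g, hg, rfl⟩, rfl⟩
    exact ⟨g, hg, rfl⟩
  · rintro ⟨g, hg, rfl⟩
    exact ⟨φ g, ⟨g, hg, rfl⟩, rfl⟩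

theorem imgStab_le (K : Subgroup (Equiv.Perm GolayPt)) (φ : MulAut K) (x : GolayPt) : imgStab K φ x ≤ K := by
  intro h hh
  obtain ⟨g, -, rfl⟩ := mem_imgStab.1 hh
  exact (φ g).2

theorem card_stabilizer_eq_stabIn (K : Subgroup (Equiv.Perm GolayPt)) (x : GolayPt) :
    Nat.card (MulAction.stabilizer K x) = Nat.card (stabIn K x) := by
  apply Nat.card_congr
  exact
    { invFun := fun g => ⟨⟨g.1, (mem_stabIn.1 g.2).1⟩, (mem_stabIn.1 g.2).2⟩
      toFun := fun g => ⟨g.1.1, mem_stabIn.2 ⟨g.1.2, g.2⟩⟩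
      left_inv := fun g => rfl
      right_inv := fun g => rfl }

theorem card_imgStab (K : Subgroup (Equiv.Perm GolayPt)) (φ : MulAut K) (x : GolayPt) :
    Nat.card (imgStab K φ x) = Nat.card (stabIn K x) := by
  rw [imgStab, Subgroup.card_map_of_injective Subtype.coe_injective,
    Subgroup.card_map_of_injective φ.injective, card_stabilizer_eq_stabIn]

theorem stab_iff_of_fixed (K : Subgroup (Equiv.Perm GolayPt)) (φ : MulAut K) (x y : GolayPt)
    (h1 : ∀ h ∈ imgStab K φ x, h y = y) (hc : Nat.card (stabIn K y) ≤ Nat.card (stabIn K x)) :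
    ∀ g : K, (g : Equiv.Perm GolayPt) x = x ↔ ((φ g : K) : Equiv.Perm GolayPt) y = y := by
  intro g
  refine ⟨fun hg => h1 _ (mem_imgStab.2 ⟨g, hg, rfl⟩), fun hg => ?_⟩
  have hle : imgStab K φ x ≤ stabIn K y := fun h hh => mem_stabIn.2 ⟨imgStab_le K φ x hh, h1 h hh⟩
  have heq : imgStab K φ x = stabIn K y :=
    Subgroup.eq_of_le_of_card_ge hle (by rw [card_imgStab]; exact hc)
  have : ((φ g : K) : Equiv.Perm GolayPt) ∈ imgStab K φ x := by
    rw [heq]; exact mem_stabIn.2 ⟨(φ g).2, hg⟩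
  obtain ⟨g', hg', he⟩ := mem_imgStab.1 this
  have : g' = g := φ.injective (Subtype.ext he)
  rwa [← this]

theorem fixed_of_card_orbF_eq_one {L : Subgroup (Equiv.Perm GolayPt)} {y : GolayPt} (h : (orbF L y).card = 1) :
    ∀ g ∈ L, g y = y := by
  intro g hg
  obtain ⟨a, ha⟩ := Finset.card_eq_one.1 h
  have h1 : y ∈ orbF L y := self_mem_orbF L y
  have h2 : g y ∈ orbF L y := mem_orbF.2 ⟨g, hg, rfl⟩
  rw [ha, Finset.mem_singleton] at h1 h2
  rw [h2, h1]

theorem orbF_disjoint_orbF {L : Subgroup (Equiv.Perm GolayPt)} {x y : GolayPt} (h : y ∉ orbF L x) :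
    Disjoint (orbF L y) (orbF L x) := by
  rw [Finset.disjoint_left]
  intro z hz hz'
  obtain ⟨g, hg, rfl⟩ := mem_orbF.1 hz
  obtain ⟨g', hg', he⟩ := mem_orbF.1 hz'
  apply h
  refine mem_orbF.2 ⟨g⁻¹ * g', L.mul_mem (L.inv_mem hg) hg', ?_⟩
  rw [Equiv.Perm.mul_apply, he]; simp

theorem card_orbF_dvd (L : Subgroup (Equiv.Perm GolayPt)) (x : GolayPt) : (orbF L x).card ∣ Nat.card L :=
  ⟨_, by rw [mul_comm]; exact (card_stabIn_mul L x).symm⟩

/-- fixed points of a conjugate -/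
theorem fixPts_conj (π g : Equiv.Perm GolayPt) : fixPts (π * g * π⁻¹) = π • fixPts g := by
  ext p
  rw [← Finset.inv_smul_mem_iff, mem_fixPts, mem_fixPts]
  simp only [Equiv.Perm.mul_apply, Equiv.Perm.smul_def]
  rw [← Equiv.Perm.eq_inv_iff_eq]

end Cfsg.Agent.Lib.Helper28
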