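/-
Counting codewords (octads, dodecads, ...) with a property by a kernel computation; Steiner property;
transitivity on octads.
-/
import Cfsg.Agent.Lib.Helper28.GolayOrder

set_option autoImplicit false

namespace Cfsg.Agent.Lib.Helper28

open Cfsg
open scoped Pointwise

/-- number of `j < n` with `f j` -/
def countBelow (f : ℕ → Bool) (n : ℕ) : ℕ :=
  Nat.rec 0 (fun k ih => Nat.add (cond (f k) 1 0) ih) n

theorem countBelow_eq (f : ℕ → Bool) (n : ℕ) :
    countBelow f n = ((Finset.range n).filter (fun j => f j = true)).card := by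
  induction n with
  | zero => rfl
  | succ n ih =>
    have h' : countBelow f (n + 1) = (cond (f n) 1 0) + countBelow f n := rfl
    rw [h', ih, Finset.range_add_one, Finset.filter_insert]
    cases hf : f n with
    | false => simp
    | true =>
      rw [if_pos rfl, Finset.card_insert_of_notMem (by simp)]
      simp [add_comm]

theorem enc_shiftRight : ∀ j, j < 4096 → enc j >>> 12 = j := by
  intro j hj
  have := allBelow_spec (f := fun j => Nat.beq (Nat.shiftRight (encF j) 12) j) (n := 4096) (by decide +kernel) j hj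
  rw [encF_eq j hj] at this
  exact Nat.eq_of_beq_eq_true this

theorem enc_injOn {i j : ℕ} (hi : i < 4096) (hj : j < 4096) (h : enc i = enc j) : i = j := by
  rw [← enc_shiftRight i hi, h, enc_shiftRight j hj]

/-- counting principle: the number of codewords (as sets) with a property is computed by a loop over
the 4096 values of the fast encoder -/
theorem ncard_supports_filter {P : Finset GolayPt → Prop} {f : ℕ → Bool}
    (hf : ∀ s, isCode (mask s) = true → (P s ↔ f (mask s) = true)) :
    {s | s ∈ supports (golayCode : Set (GolayPt → ZMod 2)) ∧ P s}.ncard =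
      countBelow (fun j => f (encF j)) 4096 := by
  rw [countBelow_eq]
  have : {s | s ∈ supports (golayCode : Set (GolayPt → ZMod 2)) ∧ P s} =
      (fun j => unmask (enc j)) '' (((Finset.range 4096).filter (fun j => f (encF j) = true) : Finset ℕ) : Set ℕ) := by
    ext s
    simp only [Set.mem_ofPred_eq, Set.mem_image, Finset.coe_filter, Finset.mem_range]
    constructor
    · rintro ⟨hs, hP⟩
      rw [mem_supports_iff] at hs
      obtain ⟨j, hj, hjs⟩ := exists_enc_of_isCode (mask_lt s) hs
      refine ⟨j, ⟨hj, ?_⟩, by rw [hjs, unmask_mask]⟩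
      rw [encF_eq j hj, hjs]
      exact (hf s hs).1 hP
    · rintro ⟨j, ⟨hj, hfj⟩, rfl⟩
      have h1 : mask (unmask (enc j)) = enc j := mask_unmask _ (enc_lt j hj)
      have h2 : isCode (mask (unmask (enc j))) = true := by rw [h1]; exact isCode_enc j hj
      refine ⟨(mem_supports_iff _).2 h2, (hf _ h2).2 ?_⟩
      rw [h1, ← encF_eq j hj]; exact hfj
  rw [this, Set.InjOn.ncard_image, Set.ncard_coe_finset]
  intro i hi j hj hij
  simp only [Finset.coe_filter, Finset.mem_range, Set.mem_ofPred_eq] at hi hj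
  apply enc_injOn hi.1 hj.1
  have := congrArg mask hij
  simpa [mask_unmask _ (enc_lt i hi.1), mask_unmask _ (enc_lt j hj.1)] using this

theorem card_eq_pcF (s : Finset GolayPt) : s.card = pcF (mask s) := by
  rw [pcF_eq (mask_lt s), card_eq_pc]

/-- counting octads with a property -/
theorem ncard_octads_filter {P : Finset GolayPt → Prop} {f : ℕ → Bool}
    (hf : ∀ s, s ∈ octads → (P s ↔ f (mask s) = true)) :
    {s | s ∈ octads ∧ P s}.ncard =
      countBelow (fun j => and (Nat.beq (pcF (encF j)) 8) (f (encF j))) 4096 := by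
  rw [← ncard_supports_filter (P := fun s => s.card = 8 ∧ P s)
    (f := fun m => and (Nat.beq (pcF m) 8) (f m))]
  · congr 1
    ext s
    simp only [Set.mem_ofPred_eq, octads, wordsOfWeight, and_assoc]
  · intro s hs
    rw [Bool.and_eq_true, Nat.beq_eq, ← card_eq_pcF]
    constructor
    · rintro ⟨h8, hP⟩
      exact ⟨h8, (hf s ((mem_octads_iff s).2 ⟨hs, h8⟩)).1 hP⟩
    · rintro ⟨h8, hP⟩
      exact ⟨h8, (hf s ((mem_octads_iff s).2 ⟨hs, h8⟩)).2 hP⟩

/-- counting dodecads with a property -/
theorem ncard_dodecads_filter {P : Finset GolayPt → Prop} {f : ℕ → Bool}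
    (hf : ∀ s, s ∈ dodecads → (P s ↔ f (mask s) = true)) :
    {s | s ∈ dodecads ∧ P s}.ncard =
      countBelow (fun j => and (Nat.beq (pcF (encF j)) 12) (f (encF j))) 4096 := by
  rw [← ncard_supports_filter (P := fun s => s.card = 12 ∧ P s)
    (f := fun m => and (Nat.beq (pcF m) 12) (f m))]
  · congr 1
    ext s
    simp only [Set.mem_ofPred_eq, dodecads, wordsOfWeight, and_assoc]
  · intro s hs
    rw [Bool.and_eq_true, Nat.beq_eq, ← card_eq_pcF]
    constructor
    · rintro ⟨h8, hP⟩
      exact ⟨h8, (hf s ((mem_dodecads_iff s).2 ⟨hs, h8⟩)).1 hP⟩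
    · rintro ⟨h8, hP⟩
      exact ⟨h8, (hf s ((mem_dodecads_iff s).2 ⟨hs, h8⟩)).2 hP⟩

theorem ncard_octads : octads.ncard = 759 := by
  have := ncard_octads_filter (P := fun _ => True) (f := fun _ => true) (by simp)
  simp only [and_true, Set.ofPred_mem_eq] at this
  rw [this]
  decide +kernel

theorem ncard_dodecads : dodecads.ncard = 2576 := by
  have := ncard_dodecads_filter (P := fun _ => True) (f := fun _ => true) (by simp)
  simp only [and_true, Set.ofPred_mem_eq] at this
  rw [this]
  decide +kernel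

/-- reflection principle for octads -/
theorem forall_octads_of_check {f : ℕ → Bool}
    (h : allBelow (fun j => or (not (Nat.beq (pcF (encF j)) 8)) (f (encF j))) 4096 = true)
    {o : Finset GolayPt} (ho : o ∈ octads) : f (mask o) = true := by
  rw [mem_octads_iff] at ho
  have := forall_code_of_check (f := fun m => or (not (Nat.beq (pcF m) 8)) (f m)) h (mask_lt o) ho.1
  rw [← card_eq_pcF, ho.2] at this
  simpa using this

/-- reflection principle for dodecads -/
theorem forall_dodecads_of_check {f : ℕ → Bool}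
    (h : allBelow (fun j => or (not (Nat.beq (pcF (encF j)) 12)) (f (encF j))) 4096 = true)
    {o : Finset GolayPt} (ho : o ∈ dodecads) : f (mask o) = true := by
  rw [mem_dodecads_iff] at ho
  have := forall_code_of_check (f := fun m => or (not (Nat.beq (pcF m) 12)) (f m)) h (mask_lt o) ho.1
  rw [← card_eq_pcF, ho.2] at this
  simpa using this

/-! ### Steiner property and transitivity on octads -/

theorem exists_injective_of_card_eq {s : Finset GolayPt} {n : ℕ} (h : s.card = n) :
    ∃ y : Fin n → GolayPt, Function.Injective y ∧ ∀ p, p ∈ s ↔ ∃ i, y i = p := by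
  let e := (Finset.equivFinOfCardEq h).symm
  refine ⟨fun i => (e i : GolayPt), fun i j hij => e.injective (Subtype.ext hij), ?_⟩
  intro p
  constructor
  · intro hp
    exact ⟨e.symm ⟨p, hp⟩, by simp⟩
  · rintro ⟨i, rfl⟩
    exact (e i).2

theorem exists_octad_of_card_five {s : Finset GolayPt} (h : s.card = 5) : ∃ o ∈ octads, s ⊆ o := by
  obtain ⟨y, hy, hys⟩ := exists_injective_of_card_eq h
  obtain ⟨g, hg, g0, g1, g2, g3, g4⟩ := M24_base_to y hy
  refine ⟨g • stdOctad, smul_mem_octads hg stdOctad_mem, ?_⟩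
  intro p hp
  obtain ⟨i, rfl⟩ := (hys p).1 hp
  have hb : ∀ k ∈ [23, 0, 1, 2, 3], pt k ∈ stdOctad := by decide +kernel
  fin_cases i
  · show y 0 ∈ _
    rw [← g0]; exact Finset.smul_mem_smul_finset (hb 23 (by simp))
  · show y 1 ∈ _
    rw [← g1]; exact Finset.smul_mem_smul_finset (hb 0 (by simp))
  · show y 2 ∈ _
    rw [← g2]; exact Finset.smul_mem_smul_finset (hb 1 (by simp))
  · show y 3 ∈ _
    rw [← g3]; exact Finset.smul_mem_smul_finset (hb 2 (by simp))
  · show y 4 ∈ _
    rw [← g4]; exact Finset.smul_mem_smul_finset (hb 3 (by simp))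

theorem octads_steiner : IsSteinerSystem 5 8 octads := by
  refine ⟨fun b hb => ((mem_octads_iff b).1 hb).2, ?_⟩
  intro s hs
  obtain ⟨o, ho, hso⟩ := exists_octad_of_card_five hs
  refine ⟨o, ⟨ho, hso⟩, ?_⟩
  rintro o' ⟨ho', hso'⟩
  apply octad_eq_of_inter ho' ho
  rw [← hs]
  exact Finset.card_le_card (Finset.subset_inter hso' hso)

theorem M24_trans_octads {o o' : Finset GolayPt} (ho : o ∈ octads) (ho' : o' ∈ octads) :
    ∃ g ∈ M24, g • o = o' := by
  have c := ((mem_octads_iff o).1 ho).2
  have c' := ((mem_octads_iff o').1 ho').2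
  obtain ⟨s, hs, hs5⟩ := Finset.exists_subset_card_eq (s := o) (n := 5) (by omega)
  obtain ⟨s', hs', hs5'⟩ := Finset.exists_subset_card_eq (s := o') (n := 5) (by omega)
  obtain ⟨x, hx, hxs⟩ := exists_injective_of_card_eq hs5
  obtain ⟨y, hy, hys⟩ := exists_injective_of_card_eq hs5'
  obtain ⟨g, hg, hgxy⟩ := M24_five_trans x y hx hy
  refine ⟨g, hg, octad_eq_of_inter (smul_mem_octads hg ho) ho' ?_⟩
  rw [← hs5']
  apply Finset.card_le_card
  intro p hp
  obtain ⟨i, rfl⟩ := (hys p).1 hp
  rw [Finset.mem_inter]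
  refine ⟨?_, hs' hp⟩
  rw [← hgxy i]
  exact Finset.smul_mem_smul_finset (hs ((hxs _).2 ⟨i, rfl⟩))

end Cfsg.Agent.Lib.Helper28
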