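/-
The Leech lattice of the definitions: description of `leechSet` by (m, c), it is a subgroup,
norms divisible by 16, minimal norm 32, monomial automorphisms.
-/
import Cfsg.Agent.Lib.Helper28.GolayCount
set_option autoImplicit false
open Cfsg
open scoped Pointwise
namespace Cfsg.Agent.Lib.Helper28

/-- `s` is (the support of) a word of the Golay code -/
abbrev IsC (s : Finset GolayPt) : Prop := s ∈ supports (golayCode : Set (GolayPt → ZMod 2))

theorem isC_iff (s : Finset GolayPt) : IsC s ↔ isCode (mask s) = true := mem_supports_iff s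

theorem isC_empty : IsC ∅ := by rw [isC_iff, mask_empty]; decide +kernel

theorem isC_univ : IsC Finset.univ := by rw [isC_iff, mask_univ]; decide +kernel

theorem isC_symmDiff {s t : Finset GolayPt} (hs : IsC s) (ht : IsC t) : IsC (symmDiff s t) := by
  rw [isC_iff] at *
  rw [mask_symmDiff]; exact isCode_xor _ _ hs ht

theorem isC_compl {s : Finset GolayPt} (hs : IsC s) : IsC sᶜ := by
  have := isC_symmDiff isC_univ hs
  have h2 : symmDiff Finset.univ s = sᶜ := by
    ext i; simp [Finset.mem_symmDiff]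
  rwa [h2] at this

theorem isC_card {s : Finset GolayPt} (hs : IsC s) :
    s.card = 0 ∨ s.card = 8 ∨ s.card = 12 ∨ s.card = 16 ∨ s.card = 24 := by
  rw [isC_iff] at hs
  rw [card_eq_pc]
  exact code_weight (mask_lt _) hs

theorem isC_card_four {s : Finset GolayPt} (hs : IsC s) : ∃ a : ℕ, s.card = 4 * a := by
  rcases isC_card hs with h | h | h | h | h
  · exact ⟨0, h⟩
  · exact ⟨2, h⟩
  · exact ⟨3, h⟩
  · exact ⟨4, h⟩
  · exact ⟨6, h⟩

theorem isC_inter_even {s t : Finset GolayPt} (hs : IsC s) (ht : IsC t) : ∃ a : ℕ, (s ∩ t).card = 2 * a := by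
  obtain ⟨a, ha⟩ := isC_card_four hs
  obtain ⟨b, hb⟩ := isC_card_four ht
  obtain ⟨c, hc⟩ := isC_card_four (isC_symmDiff hs ht)
  have := card_symmDiff_add s t
  exact ⟨a + b - c, by omega⟩

theorem isC_smul {g : Equiv.Perm GolayPt} (hg : g ∈ M24) {s : Finset GolayPt} (hs : IsC s) : IsC (g • s) := by
  rw [isC_iff] at *
  rw [mask_smul]
  exact isCode_pm_of_mem hg (mask_lt _) hs

/-- indicator function with integer values -/
def chi (c : Finset GolayPt) (i : GolayPt) : ℤ := if i ∈ c then 1 else 0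

theorem chi_cases (c : Finset GolayPt) (i : GolayPt) : (i ∈ c ∧ chi c i = 1) ∨ (i ∉ c ∧ chi c i = 0) := by
  by_cases h : i ∈ c <;> simp [chi, h]

theorem sum_chi (c : Finset GolayPt) : ∑ i, chi c i = c.card := by
  simp [chi]

theorem mem_leechSet_iff (x : GolayPt → ℤ) : x ∈ leechSet ↔
    ∃ (m : ℤ) (c : Finset GolayPt), IsC c ∧ (∀ i, x i ≡ m + 2 * chi c i [ZMOD 4]) ∧
      ∑ i, x i ≡ 4 * m [ZMOD 8] := by
  constructor
  · rintro ⟨m, h1, h2, h3⟩
    refine ⟨m, _, h3 (m + 2), ?_, h2⟩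
    intro i
    have h1i := h1 i
    rcases chi_cases (Finset.univ.filter fun i => x i ≡ m + 2 [ZMOD 4]) i with ⟨h, h'⟩ | ⟨h, h'⟩
    · rw [h']
      simpa using h
    · rw [h']
      simp only [Finset.mem_filter, Finset.mem_univ, true_and] at h
      unfold Int.ModEq at *
      omega
  · rintro ⟨m, c, hc, h1, h2⟩
    refine ⟨m, ?_, h2, ?_⟩
    · intro i
      have h1i := h1 i
      rcases chi_cases c i with ⟨-, h'⟩ | ⟨-, h'⟩ <;> rw [h'] at h1i <;> unfold Int.ModEq at * <;> omega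
    · intro k
      by_cases hk1 : k ≡ m + 2 [ZMOD 4]
      · have : (Finset.univ.filter fun i => x i ≡ k [ZMOD 4]) = c := by
          ext i
          have h1i := h1 i
          simp only [Finset.mem_filter, Finset.mem_univ, true_and]
          rcases chi_cases c i with ⟨h, h'⟩ | ⟨h, h'⟩ <;> rw [h'] at h1i <;> simp only [h, iff_true, iff_false] <;>
            unfold Int.ModEq at * <;> omega
        rw [this]; exact hc
      · by_cases hk2 : k ≡ m [ZMOD 4]
        · have : (Finset.univ.filter fun i => x i ≡ k [ZMOD 4]) = cᶜ := by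
            ext i
            have h1i := h1 i
            simp only [Finset.mem_filter, Finset.mem_univ, true_and, Finset.mem_compl]
            rcases chi_cases c i with ⟨h, h'⟩ | ⟨h, h'⟩ <;> rw [h'] at h1i <;>
              simp only [h, not_true_eq_false, not_false_eq_true, iff_true, iff_false] <;>
              unfold Int.ModEq at * <;> omega
          rw [this]; exact isC_compl hc
        · have : (Finset.univ.filter fun i => x i ≡ k [ZMOD 4]) = ∅ := by
            ext i
            have h1i := h1 i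
            simp only [Finset.mem_filter, Finset.mem_univ, true_and, Finset.notMem_empty, iff_false]
            rcases chi_cases c i with ⟨h, h'⟩ | ⟨h, h'⟩ <;> rw [h'] at h1i <;>
              unfold Int.ModEq at * <;> omega
          rw [this]; exact isC_empty

theorem chi_symmDiff (c c' : Finset GolayPt) (i : GolayPt) :
    2 * chi (symmDiff c c') i ≡ 2 * chi c i + 2 * chi c' i [ZMOD 4] := by
  by_cases h : i ∈ c <;> by_cases h' : i ∈ c' <;> simp [chi, h, h', Finset.mem_symmDiff] <;> decide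

/-- the Leech lattice as a subgroup with carrier `leechSet` -/
def leechSub : AddSubgroup (GolayPt → ℤ) where
  carrier := leechSet
  zero_mem' := by
    rw [mem_leechSet_iff]
    exact ⟨0, ∅, isC_empty, fun i => by simp [chi], by simp⟩
  add_mem' := by
    intro x y hx hy
    rw [mem_leechSet_iff] at *
    obtain ⟨m, c, hc, h1, h2⟩ := hx
    obtain ⟨m', c', hc', h1', h2'⟩ := hy
    refine ⟨m + m', symmDiff c c', isC_symmDiff hc hc', ?_, ?_⟩
    · intro i
      have e1 := (h1 i).add (h1' i)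
      have e2 := chi_symmDiff c c' i
      show x i + y i ≡ _ [ZMOD 4]
      unfold Int.ModEq at *
      omega
    · have : ∑ i, (x + y) i = ∑ i, x i + ∑ i, y i := by
        simp [Finset.sum_add_distrib]
      rw [this, mul_add]
      exact h2.add h2'
  neg_mem' := by
    intro x hx
    rw [mem_leechSet_iff] at *
    obtain ⟨m, c, hc, h1, h2⟩ := hx
    refine ⟨-m, c, hc, ?_, ?_⟩
    · intro i
      have h1i := h1 i
      show -x i ≡ _ [ZMOD 4]
      rcases chi_cases c i with ⟨-, h'⟩ | ⟨-, h'⟩ <;> rw [h'] at h1i ⊢ <;> unfold Int.ModEq at * <;> omega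
    · have : ∑ i, (-x) i = -∑ i, x i := by simp
      rw [this]
      unfold Int.ModEq at *
      omega

theorem leechLattice_eq : leechLattice = leechSub := by
  unfold leechLattice
  exact AddSubgroup.closure_eq leechSub

theorem mem_leechLattice_iff_set (x : GolayPt → ℤ) : x ∈ leechLattice ↔ x ∈ leechSet := by
  rw [leechLattice_eq]; rfl

theorem mem_leechLattice_iff (x : GolayPt → ℤ) : x ∈ leechLattice ↔
    ∃ (m : ℤ) (c : Finset GolayPt), IsC c ∧ (∀ i, x i ≡ m + 2 * chi c i [ZMOD 4]) ∧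
      ∑ i, x i ≡ 4 * m [ZMOD 8] := by
  rw [mem_leechLattice_iff_set, mem_leechSet_iff]

theorem card_golayPt : (Finset.univ : Finset GolayPt).card = 24 := rfl

/-- coordinates of a lattice vector -/
theorem exists_repr {x : GolayPt → ℤ} (hx : x ∈ leechLattice) :
    ∃ (m : ℤ) (c : Finset GolayPt) (z : GolayPt → ℤ) (t : ℤ), IsC c ∧ (∀ i, x i = m + 2 * chi c i + 4 * z i) ∧
      ∑ i, x i = 4 * m + 8 * t := by
  obtain ⟨m, c, hc, h1, h2⟩ := (mem_leechLattice_iff x).1 hx
  have : ∀ i, ∃ z : ℤ, x i = m + 2 * chi c i + 4 * z := fun i => by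
    obtain ⟨z, hz⟩ := (h1 i).symm.dvd
    exact ⟨z, by linarith⟩
  choose z hz using this
  obtain ⟨t, ht⟩ := h2.symm.dvd
  exact ⟨m, c, z, t, hc, hz, by linarith⟩

theorem sum_repr {x : GolayPt → ℤ} {m : ℤ} {c : Finset GolayPt} {z : GolayPt → ℤ}
    (hz : ∀ i, x i = m + 2 * chi c i + 4 * z i) : ∑ i, x i = 24 * m + 2 * (c.card : ℤ) + 4 * ∑ i, z i := by
  simp_rw [hz]
  rw [Finset.sum_add_distrib, Finset.sum_add_distrib, ← Finset.mul_sum, ← Finset.mul_sum, sum_chi]
  simp

theorem sqNorm_repr {x : GolayPt → ℤ} {m : ℤ} {c : Finset GolayPt} {z : GolayPt → ℤ}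
    (hz : ∀ i, x i = m + 2 * chi c i + 4 * z i) :
    sqNorm x = 24 * m ^ 2 + 4 * (1 + m) * (c.card : ℤ) + 8 * m * ∑ i, z i +
      16 * ∑ i, (z i ^ 2 + chi c i * z i) := by
  unfold sqNorm
  have : ∀ i, x i ^ 2 = m ^ 2 + 4 * (1 + m) * chi c i + 8 * m * z i + 16 * (z i ^ 2 + chi c i * z i) := by
    intro i
    rw [hz i]
    rcases chi_cases c i with ⟨-, h'⟩ | ⟨-, h'⟩ <;> rw [h'] <;> ring
  simp_rw [this]
  rw [Finset.sum_add_distrib, Finset.sum_add_distrib, Finset.sum_add_distrib, ← Finset.mul_sum, ← Finset.mul_sum,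
    ← Finset.mul_sum, sum_chi]
  simp

theorem sqNorm_dvd {x : GolayPt → ℤ} (hx : x ∈ leechLattice) : (16 : ℤ) ∣ sqNorm x := by
  obtain ⟨m, c, z, t, hc, hz, hs⟩ := exists_repr hx
  obtain ⟨a, ha⟩ := isC_card_four hc
  have h1 := sum_repr hz
  have h2 := sqNorm_repr hz
  rw [ha] at h1 h2
  push_cast at h1 h2
  have hZ : ∑ i, z i = 2 * t - 5 * m - 2 * a := by linarith
  rw [hZ] at h2
  exact ⟨-m ^ 2 + a + m * t + ∑ i, (z i ^ 2 + chi c i * z i), by rw [h2]; ring⟩

theorem sq_sum_parity (z : GolayPt → ℤ) : (2 : ℤ) ∣ ∑ i, z i ^ 2 - ∑ i, z i := by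
  rw [← Finset.sum_sub_distrib]
  apply Finset.dvd_sum
  intro i _
  rcases Int.even_or_odd' (z i) with ⟨k, hk | hk⟩
  · exact ⟨2 * k ^ 2 - k, by rw [hk]; ring⟩
  · exact ⟨2 * k ^ 2 + k, by rw [hk]; ring⟩

theorem sqNorm_nonneg (x : GolayPt → ℤ) : 0 ≤ sqNorm x :=
  Finset.sum_nonneg (fun i _ => sq_nonneg (x i))

theorem sqNorm_pos {x : GolayPt → ℤ} (hx : x ≠ 0) : 0 < sqNorm x := by
  obtain ⟨i, hi⟩ := Function.ne_iff.1 hx
  have h1 : x i ^ 2 ≤ sqNorm x := Finset.single_le_sum (f := fun i => x i ^ 2) (fun i _ => sq_nonneg (x i))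
    (Finset.mem_univ i)
  have hi' : x i ≠ 0 := hi
  have h2 : 0 < x i ^ 2 := by positivity
  linarith

/-- vectors all of whose coordinates are congruent to the same even number mod 4, with sum divisible by 8 -/
theorem sqNorm_dvd32 {x : GolayPt → ℤ} {a : ℤ} (h : ∀ i, x i ≡ 2 * a [ZMOD 4]) (hs : ∑ i, x i ≡ 0 [ZMOD 8]) :
    (32 : ℤ) ∣ sqNorm x := by
  have : ∀ i, ∃ z : ℤ, x i = 2 * a + 4 * z := fun i => by
    obtain ⟨z, hz⟩ := (h i).symm.dvd
    exact ⟨z, by linarith⟩
  choose z hz using this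
  obtain ⟨t, ht⟩ := hs.symm.dvd
  have h1 : ∑ i, x i = 48 * a + 4 * ∑ i, z i := by
    simp_rw [hz]
    rw [Finset.sum_add_distrib, Finset.sum_const, card_golayPt, nsmul_eq_mul, ← Finset.mul_sum]
    push_cast; ring
  have h2 : sqNorm x = 96 * a ^ 2 + 16 * a * ∑ i, z i + 16 * ∑ i, z i ^ 2 := by
    unfold sqNorm
    have : ∀ i, x i ^ 2 = 4 * a ^ 2 + 16 * a * z i + 16 * z i ^ 2 := by
      intro i; rw [hz i]; ring
    simp_rw [this]
    rw [Finset.sum_add_distrib, Finset.sum_add_distrib, Finset.sum_const, card_golayPt, nsmul_eq_mul,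
      ← Finset.mul_sum, ← Finset.mul_sum]
    push_cast; ring
  obtain ⟨u, hu⟩ := sq_sum_parity z
  have hZ : ∑ i, z i = 2 * t - 12 * a := by linarith
  have hW : ∑ i, z i ^ 2 = 2 * u + (2 * t - 12 * a) := by linarith
  rw [hZ, hW] at h2
  exact ⟨3 * a ^ 2 + a * (t - 6 * a) + u + t - 6 * a, by rw [h2]; ring⟩

theorem min_norm {x : GolayPt → ℤ} (hx : x ∈ leechLattice) (h0 : x ≠ 0) : 32 ≤ sqNorm x := by
  have hpos := sqNorm_pos h0
  obtain ⟨k, hk⟩ := sqNorm_dvd hx
  obtain ⟨m, h1, h2, h3⟩ := (mem_leechLattice_iff_set x).1 hx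
  rcases Int.even_or_odd' m with ⟨r, hr | hr⟩
  · -- even type
    have hc2 := h3 2
    by_cases he : (Finset.univ.filter fun i => x i ≡ 2 [ZMOD 4]) = ∅
    · have h4 : ∀ i, x i ≡ 2 * 0 [ZMOD 4] := by
        intro i
        have h5 : i ∉ (Finset.univ.filter fun i => x i ≡ 2 [ZMOD 4]) := by rw [he]; simp
        simp only [Finset.mem_filter, Finset.mem_univ, true_and] at h5
        have h1i := h1 i
        unfold Int.ModEq at *
        omega
      have h5 : ∑ i, x i ≡ 0 [ZMOD 8] := by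
        unfold Int.ModEq at *
        omega
      obtain ⟨u, hu⟩ := sqNorm_dvd32 h4 h5
      omega
    · have h8 : 8 ≤ (Finset.univ.filter fun i => x i ≡ 2 [ZMOD 4]).card := by
        have := Finset.card_ne_zero.2 (Finset.nonempty_iff_ne_empty.2 he)
        rcases isC_card hc2 with h | h | h | h | h <;> omega
      have h9 : ∑ i ∈ (Finset.univ.filter fun i => x i ≡ 2 [ZMOD 4]), (4 : ℤ) ≤
          ∑ i ∈ (Finset.univ.filter fun i => x i ≡ 2 [ZMOD 4]), x i ^ 2 := by
        apply Finset.sum_le_sum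
        intro i hi
        simp only [Finset.mem_filter, Finset.mem_univ, true_and] at hi
        have : x i ≤ -2 ∨ 2 ≤ x i := by
          unfold Int.ModEq at hi
          omega
        rcases this with h | h <;> nlinarith
      have h10 : ∑ i ∈ (Finset.univ.filter fun i => x i ≡ 2 [ZMOD 4]), x i ^ 2 ≤ sqNorm x :=
        Finset.sum_le_sum_of_subset_of_nonneg (Finset.subset_univ _) (fun i _ _ => sq_nonneg (x i))
      rw [Finset.sum_const, nsmul_eq_mul] at h9
      have h11 : (8 : ℤ) ≤ ((Finset.univ.filter fun i => x i ≡ 2 [ZMOD 4]).card : ℤ) := by exact_mod_cast h8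
      linarith
  · -- odd type
    have h4 : ∑ i : GolayPt, (1 : ℤ) ≤ sqNorm x := by
      apply Finset.sum_le_sum
      intro i _
      have h1i := h1 i
      have : x i ≤ -1 ∨ 1 ≤ x i := by
        unfold Int.ModEq at h1i
        omega
      rcases this with h | h <;> nlinarith
    simp at h4
    omega

theorem perm_mem {σ : Equiv.Perm GolayPt} (hσ : σ ∈ M24) {x : GolayPt → ℤ} (hx : x ∈ leechLattice) :
    (fun i => x (σ i)) ∈ leechLattice := by
  rw [mem_leechLattice_iff] at *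
  obtain ⟨m, c, hc, h1, h2⟩ := hx
  refine ⟨m, σ⁻¹ • c, isC_smul (M24.inv_mem hσ) hc, ?_, ?_⟩
  · intro i
    have : chi (σ⁻¹ • c) i = chi c (σ i) := by
      simp [chi, Finset.mem_inv_smul_finset_iff]
    rw [this]; exact h1 (σ i)
  · rw [Equiv.sum_comp σ x]; exact h2

theorem chi_mul_chi (c c' : Finset GolayPt) (i : GolayPt) : chi c i * chi c' i = chi (c ∩ c') i := by
  by_cases h : i ∈ c <;> by_cases h' : i ∈ c' <;> simp [chi, h, h']

theorem sign_mem {c0 : Finset GolayPt} (hc0 : IsC c0) {x : GolayPt → ℤ} (hx : x ∈ leechLattice) :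
    (fun i => if i ∈ c0 then -x i else x i) ∈ leechLattice := by
  obtain ⟨m, c, z, t, hc, hz, hs⟩ := exists_repr hx
  have e1 : ∀ i, (if i ∈ c0 then -x i else x i) = x i - 2 * (chi c0 i * x i) := by
    intro i
    rcases chi_cases c0 i with ⟨h, h'⟩ | ⟨h, h'⟩ <;> rw [h'] <;> simp [h] <;> ring
  obtain ⟨a, ha⟩ := isC_card_four hc0
  obtain ⟨b, hb⟩ := isC_inter_even hc0 hc
  have e2 : ∑ i, chi c0 i * x i = m * (4 * a) + 2 * (2 * b) + 4 * ∑ i, chi c0 i * z i := by
    have : ∀ i, chi c0 i * x i = m * chi c0 i + 2 * chi (c0 ∩ c) i + 4 * (chi c0 i * z i) := by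
      intro i
      rw [hz i, ← chi_mul_chi]; ring
    simp_rw [this]
    rw [Finset.sum_add_distrib, Finset.sum_add_distrib, ← Finset.mul_sum, ← Finset.mul_sum, ← Finset.mul_sum,
      sum_chi, sum_chi, ha, hb]
    push_cast; ring
  have e3 : ∑ i, (if i ∈ c0 then -x i else x i) ≡ 4 * m [ZMOD 8] := by
    simp_rw [e1]
    rw [Finset.sum_sub_distrib, ← Finset.mul_sum, e2, hs]
    apply Int.ModEq.symm
    rw [Int.modEq_iff_dvd]
    exact ⟨t - m * a - b - ∑ i, chi c0 i * z i, by ring⟩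
  rw [mem_leechLattice_iff]
  rcases Int.even_or_odd' m with ⟨r, hr | hr⟩
  · refine ⟨m, c, hc, ?_, e3⟩
    intro i
    have hzi := hz i
    show (if i ∈ c0 then -x i else x i) ≡ _ [ZMOD 4]
    rcases chi_cases c i with ⟨-, h'⟩ | ⟨-, h'⟩ <;> rw [h'] at hzi ⊢ <;> split_ifs <;>
      unfold Int.ModEq <;> omega
  · refine ⟨m, symmDiff c c0, isC_symmDiff hc hc0, ?_, e3⟩
    intro i
    have hzi := hz i
    have e4 := chi_symmDiff c c0 i
    show (if i ∈ c0 then -x i else x i) ≡ _ [ZMOD 4]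
    rcases chi_cases c i with ⟨-, h'⟩ | ⟨-, h'⟩ <;> rcases chi_cases c0 i with ⟨k, k'⟩ | ⟨k, k'⟩ <;>
      rw [h'] at hzi e4 <;> rw [k'] at e4 <;> simp only [k, if_true, if_false] <;>
      unfold Int.ModEq at * <;> omega

theorem sqNorm_add (x y : GolayPt → ℤ) : sqNorm (x + y) = sqNorm x + sqNorm y + 2 * dotInt x y := by
  unfold sqNorm dotInt
  rw [Finset.mul_sum, ← Finset.sum_add_distrib, ← Finset.sum_add_distrib]
  apply Finset.sum_congr rfl
  intro i _
  simp only [Pi.add_apply]; ring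

theorem sqNorm_sub (x y : GolayPt → ℤ) : sqNorm (x - y) = sqNorm x + sqNorm y - 2 * dotInt x y := by
  unfold sqNorm dotInt
  rw [Finset.mul_sum, ← Finset.sum_add_distrib, ← Finset.sum_sub_distrib]
  apply Finset.sum_congr rfl
  intro i _
  simp only [Pi.sub_apply]; ring

theorem sqNorm_two_nsmul (z : GolayPt → ℤ) : sqNorm (2 • z) = 4 * sqNorm z := by
  unfold sqNorm
  rw [Finset.mul_sum]
  apply Finset.sum_congr rfl
  intro i _
  simp only [Pi.smul_apply, nsmul_eq_mul]; push_cast; ring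

theorem sqNorm_neg (z : GolayPt → ℤ) : sqNorm (-z) = sqNorm z := by
  unfold sqNorm
  apply Finset.sum_congr rfl
  intro i _
  simp

theorem congr_mod_two {x y : GolayPt → ℤ} (hy : y ∈ leechLattice) (hxy : x ≠ y)
    (hxn : sqNorm x ≤ 64) (hyn : sqNorm y ≤ 64) (hc : ∃ z ∈ leechLattice, x - y = 2 • z) :
    x = -y ∨ (sqNorm x = 64 ∧ sqNorm y = 64 ∧ dotInt x y = 0) := by
  obtain ⟨z, hz, hxz⟩ := hc
  by_cases hneg : x = -y
  · exact Or.inl hneg
  · right
    have hz0 : z ≠ 0 := by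
      rintro rfl
      apply hxy
      rw [smul_zero] at hxz
      exact sub_eq_zero.1 hxz
    have hz' : x + y = 2 • (z + y) := by
      rw [smul_add, ← hxz, two_smul]; abel
    have hz0' : z + y ≠ 0 := by
      intro h
      rw [h, smul_zero] at hz'
      exact hneg (eq_neg_of_add_eq_zero_left hz')
    have n1 := min_norm hz hz0
    have n2 := min_norm (leechLattice.add_mem hz hy) hz0'
    have e1 := sqNorm_add x y
    have e2 := sqNorm_sub x y
    rw [hz', sqNorm_two_nsmul] at e1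
    rw [hxz, sqNorm_two_nsmul] at e2
    refine ⟨?_, ?_, ?_⟩ <;> linarith

end Cfsg.Agent.Lib.Helper28
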