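/-
Automorphisms of the Leech lattice: constructor, negation, monomial maps; -1 has no complement.
-/
import Cfsg.Agent.Lib.Helper28.Leech
import Cfsg.Agent.Lib.Helper28.GolayGen
set_option autoImplicit false
open Cfsg
open scoped Pointwise
namespace Cfsg.Agent.Lib.Helper28

/-- constructor for elements of `Co0` from maps of the ambient space -/
def mkCo0 (f g : (GolayPt → ℤ) → (GolayPt → ℤ)) (hf : ∀ x ∈ leechLattice, f x ∈ leechLattice)
    (hg : ∀ x ∈ leechLattice, g x ∈ leechLattice) (hgf : ∀ x, g (f x) = x) (hfg : ∀ x, f (g x) = x)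
    (hadd : ∀ x y, f (x + y) = f x + f y) (hn : ∀ x, sqNorm (f x) = sqNorm x) : Co0 :=
  ⟨{ toFun := fun v => ⟨f v.1, hf v.1 v.2⟩
     invFun := fun v => ⟨g v.1, hg v.1 v.2⟩
     left_inv := fun v => Subtype.ext (hgf v.1)
     right_inv := fun v => Subtype.ext (hfg v.1) },
   ⟨fun v w => Subtype.ext (hadd v.1 w.1), fun v => hn v.1⟩⟩

theorem mkCo0_smul (f g : (GolayPt → ℤ) → (GolayPt → ℤ)) (hf hg hgf hfg hadd hn) (v : leechLattice) :
    ((mkCo0 f g hf hg hgf hfg hadd hn • v : leechLattice) : GolayPt → ℤ) = f v.1 := rfl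

/-- negation -/
def negCo0 : Co0 :=
  mkCo0 (fun x => -x) (fun x => -x) (fun _ hx => leechLattice.neg_mem hx) (fun _ hx => leechLattice.neg_mem hx)
    (fun x => neg_neg x) (fun x => neg_neg x) (fun x y => neg_add x y) sqNorm_neg

theorem negCo0_smul (v : leechLattice) : ((negCo0 • v : leechLattice) : GolayPt → ℤ) = -(v : GolayPt → ℤ) := rfl

theorem Co0_ext {a b : Co0} (h : ∀ v : leechLattice, ((a • v : leechLattice) : GolayPt → ℤ) = (b • v : leechLattice)) :
    a = b := by
  apply Subtype.ext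
  apply Equiv.ext
  intro v
  exact Subtype.ext (h v)

theorem Co0_smul_add (a : Co0) (v w : leechLattice) : a • (v + w) = a • v + a • w := a.2.1 v w

theorem Co0_smul_zero (a : Co0) : a • (0 : leechLattice) = 0 := by
  have := Co0_smul_add a 0 0
  rw [add_zero] at this
  exact left_eq_add.1 this

theorem Co0_smul_neg (a : Co0) (v : leechLattice) : a • (-v) = -(a • v) := by
  have := Co0_smul_add a v (-v)
  rw [add_neg_cancel, Co0_smul_zero] at this
  exact (neg_eq_of_add_eq_zero_right this.symm).symm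

theorem negCo0_smul' (v : leechLattice) : negCo0 • v = -v := Subtype.ext (negCo0_smul v)

theorem negCo0_comm (a : Co0) : a * negCo0 = negCo0 * a := by
  apply Co0_ext
  intro v
  rw [mul_smul, mul_smul, negCo0_smul', negCo0_smul', Co0_smul_neg]

theorem negCo0_sq : negCo0 * negCo0 = 1 := by
  apply Co0_ext
  intro v
  rw [mul_smul, negCo0_smul', negCo0_smul', neg_neg, one_smul]

/-- the vector (8, 0, ..., 0) -/
def vec8 : GolayPt → ℤ := fun i => if i = none then 8 else 0

theorem vec8_mem : vec8 ∈ leechLattice := by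
  rw [mem_leechLattice_iff]
  refine ⟨0, ∅, isC_empty, ?_, ?_⟩
  · intro i
    by_cases h : i = none <;> simp [vec8, chi, h] <;> decide
  · simp [vec8]

theorem negCo0_ne_one : negCo0 ≠ 1 := by
  intro h
  have h1 := negCo0_smul ⟨vec8, vec8_mem⟩
  rw [h, one_smul] at h1
  have h2 := congrFun h1 none
  simp [vec8] at h2

/-- sign function of a set -/
def sgn (c : Finset GolayPt) (i : GolayPt) : ℤ := if i ∈ c then -1 else 1

theorem sgn_mul_self (c : Finset GolayPt) (i : GolayPt) : sgn c i * sgn c i = 1 := by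
  by_cases h : i ∈ c <;> simp [sgn, h]

/-- the monomial map `x ↦ (i ↦ ε_c(i) x(σ i))` -/
def monoFun (σ : Equiv.Perm GolayPt) (c : Finset GolayPt) (x : GolayPt → ℤ) : GolayPt → ℤ :=
  fun i => sgn c i * x (σ i)

theorem monoFun_mem {σ : Equiv.Perm GolayPt} (hσ : σ ∈ M24) {c : Finset GolayPt} (hc : IsC c)
    {x : GolayPt → ℤ} (hx : x ∈ leechLattice) : monoFun σ c x ∈ leechLattice := by
  have := sign_mem hc (perm_mem hσ hx)
  convert this using 1
  ext i
  by_cases h : i ∈ c <;> simp [monoFun, sgn, h]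

theorem sgn_smul (σ : Equiv.Perm GolayPt) (c : Finset GolayPt) (i : GolayPt) :
    sgn (σ • c) i = sgn c (σ⁻¹ i) := by
  have : i ∈ σ • c ↔ σ⁻¹ i ∈ c := by
    rw [← Finset.inv_smul_mem_iff]; rfl
  simp [sgn, this]

/-- monomial elements of `Co0` -/
def monoCo0 (σ : Equiv.Perm GolayPt) (hσ : σ ∈ M24) (c : Finset GolayPt) (hc : IsC c) : Co0 :=
  mkCo0 (monoFun σ c) (monoFun σ⁻¹ (σ • c)) (fun _ hx => monoFun_mem hσ hc hx)
    (fun _ hx => monoFun_mem (M24.inv_mem hσ) (isC_smul hσ hc) hx)
    (fun x => by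
      ext i
      simp only [monoFun, sgn_smul]
      rw [← mul_assoc, sgn_mul_self, one_mul]; simp)
    (fun x => by
      ext i
      simp only [monoFun, sgn_smul]
      rw [← mul_assoc]; simp [sgn_mul_self])
    (fun x y => by
      ext i
      simp only [monoFun, Pi.add_apply]; ring)
    (fun x => by
      unfold sqNorm
      rw [← Equiv.sum_comp σ (fun i => x i ^ 2)]
      apply Finset.sum_congr rfl
      intro i _
      simp only [monoFun]
      rw [mul_pow, sq (sgn c i), sgn_mul_self, one_mul])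

theorem monoCo0_smul (σ : Equiv.Perm GolayPt) (hσ : σ ∈ M24) (c : Finset GolayPt) (hc : IsC c)
    (v : leechLattice) : ((monoCo0 σ hσ c hc • v : leechLattice) : GolayPt → ℤ) = monoFun σ c v.1 := rfl

/-- the dodecad of squares -/
def sqDod : Finset GolayPt := unmask 340831

theorem isC_sqDod : IsC sqDod := by
  rw [isC_iff, sqDod, mask_unmask _ (by norm_num)]; decide +kernel

/-- an element of `Co0` whose square is `-1` -/
def rootNeg : Co0 := monoCo0 projInv gamma_mem sqDod isC_sqDod

theorem rootNeg_sq : rootNeg * rootNeg = negCo0 := by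
  apply Co0_ext
  intro v
  rw [mul_smul, negCo0_smul]
  unfold rootNeg
  rw [monoCo0_smul, monoCo0_smul]
  ext i
  simp only [monoFun, Pi.neg_apply]
  have h1 : ∀ i : GolayPt, projInv (projInv i) = i := by decide +kernel
  have h2 : ∀ i : GolayPt, sgn sqDod i * sgn sqDod (projInv i) = -1 := by decide +kernel
  rw [h1, ← mul_assoc, h2]; ring

theorem no_complement (K : Subgroup Co0) : ¬ (Subgroup.zpowers negCo0).IsComplement' K := by
  intro h
  obtain ⟨⟨⟨a, ha⟩, ⟨k, hk⟩⟩, hak⟩ := h.2 rootNeg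
  have hak' : a * k = rootNeg := hak
  have ha2 : a * a = 1 ∧ ∀ b : Co0, b * a = a * b := by
    obtain ⟨n, rfl⟩ := Subgroup.mem_zpowers_iff.1 ha
    constructor
    · rw [← zpow_add, ← two_mul, zpow_mul, zpow_two, negCo0_sq, one_zpow]
    · intro b
      exact ((show Commute b negCo0 from negCo0_comm b).zpow_right n)
  have h1 : negCo0 = k * k := by
    rw [← rootNeg_sq, ← hak']
    calc a * k * (a * k) = a * (k * a) * k := by group
      _ = a * (a * k) * k := by rw [ha2.2 k]
      _ = (a * a) * (k * k) := by group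
      _ = k * k := by rw [ha2.1, one_mul]
  have h2 : negCo0 ∈ Subgroup.zpowers negCo0 ⊓ K :=
    ⟨Subgroup.mem_zpowers _, h1 ▸ K.mul_mem hk hk⟩
  rw [h.disjoint.eq_bot, Subgroup.mem_bot] at h2
  exact negCo0_ne_one h2

end Cfsg.Agent.Lib.Helper28
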