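/-
Hexads on a dodecad; M11 and its two classes in M12.
-/
import Cfsg.Agent.Lib.Helper28.GolayOct2
import Cfsg.Agent.Lib.Helper28.LeechAut
import Cfsg.Prelude.Def_SporadicCombinatorics
import Cfsg.Prelude.Def_Spor_Mathieu
set_option autoImplicit false
open Cfsg
open scoped Pointwise
namespace Cfsg.Agent.Lib.Helper28

/-- two permutations of a type agreeing off one point agree -/
theorem perm_eq_of_eq_off {α : Type*} (σ τ : Equiv.Perm α) (f : α) (h : ∀ x, x ≠ f → τ x = σ x) : τ f = σ f := by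
  by_contra hne
  obtain ⟨z, hz⟩ := τ.surjective (σ f)
  by_cases hzf : z = f
  · subst hzf; exact hne hz
  · rw [h z hzf] at hz
    exact hzf (σ.injective hz)

theorem exists_five_of_card_six {C : Finset GolayPt} (hC : C.card = 6) :
    ∃ (x : Fin 5 → GolayPt) (f : GolayPt), Function.Injective x ∧ (∀ i, x i ∈ C) ∧ f ∈ C ∧
      ∀ p ∈ C, p ≠ f → ∃ i, x i = p := by
  obtain ⟨f, hf⟩ : C.Nonempty := Finset.card_pos.1 (by omega)
  have h5 : (C.erase f).card = 5 := by rw [Finset.card_erase_of_mem hf, hC]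
  obtain ⟨x, hx, hxs⟩ := exists_injective_of_card_eq h5
  refine ⟨x, f, hx, fun i => Finset.mem_of_mem_erase ((hxs _).2 ⟨i, rfl⟩), hf, ?_⟩
  intro p hp hpf
  exact (hxs p).1 (Finset.mem_erase.2 ⟨hpf, hp⟩)

theorem eq_one_of_fix_six {d : Finset GolayPt} (hd : d ∈ dodecads) {C : Finset GolayPt} (hC : C.card = 6)
    (hCd : C ⊆ d) {g : Equiv.Perm GolayPt} (hg : g ∈ M24) (hgd : g • d = d) (hfix : ∀ p ∈ C, g p = p) :
    g = 1 := by
  obtain ⟨x, f, hx, hxC, -, -⟩ := exists_five_of_card_six hC
  exact eq_one_of_fix_dodecad_five hd x hx (fun i => hCd (hxC i)) hg hgd (fun i => hfix _ (hxC i))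

theorem hexad_perm {d : Finset GolayPt} (hd : d ∈ dodecads) {C : Finset GolayPt} (hC : C ∈ hexadsOn d)
    (σ : Equiv.Perm C) : ∃ g ∈ M24, g • d = d ∧ g • C = C ∧ ∀ p : C, g p = σ p := by
  obtain ⟨hC6, o, ho, hoC⟩ := hC
  have hCd : C ⊆ d := hoC ▸ Finset.inter_subset_right
  have hCo : C ⊆ o := hoC ▸ Finset.inter_subset_left
  obtain ⟨x, f, hx, hxC, hf, hall⟩ := exists_five_of_card_six hC6
  obtain ⟨g, hg, hgd, hgx⟩ := dodecad_five_trans hd x (fun i => ((σ ⟨x i, hxC i⟩ : C) : GolayPt)) hx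
    (fun i j hij => hx (by
      have := σ.injective (Subtype.ext hij)
      exact congrArg Subtype.val this))
    (fun i => hCd (hxC i)) (fun i => hCd (σ ⟨x i, hxC i⟩).2)
  have hgo : g • o = o := by
    apply octad_eq_of_inter (smul_mem_octads hg ho) ho
    have h5 : (Finset.univ.image (fun i => ((σ ⟨x i, hxC i⟩ : C) : GolayPt))).card = 5 := by
      rw [Finset.card_image_of_injective]
      · rfl
      · intro i j hij
        have := σ.injective (Subtype.ext hij)
        exact hx (congrArg Subtype.val this)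
    rw [← h5]
    apply Finset.card_le_card
    intro p hp
    obtain ⟨i, -, rfl⟩ := Finset.mem_image.1 hp
    rw [Finset.mem_inter]
    refine ⟨?_, hCo (σ ⟨x i, hxC i⟩).2⟩
    rw [← hgx i]
    exact Finset.smul_mem_smul_finset (hCo (hxC i))
  have hgC : g • C = C := by
    rw [← hoC, Finset.smul_finset_inter, hgo, hgd]
  refine ⟨g, hg, hgd, hgC, ?_⟩
  have key : ∀ p : C, p ≠ ⟨f, hf⟩ → (Equiv.Perm.subtypePerm g (fun y => apply_mem_iff_of_smul_eq hgC y)) p = σ p := by
    rintro ⟨p, hp⟩ hpf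
    obtain ⟨i, rfl⟩ := hall p hp (fun h => hpf (Subtype.ext h))
    exact Subtype.ext (hgx i)
  intro p
  by_cases hp : p = ⟨f, hf⟩
  · have := perm_eq_of_eq_off σ _ ⟨f, hf⟩ key
    rw [hp]
    exact congrArg Subtype.val this
  · exact congrArg Subtype.val (key p hp)

theorem stab_hexad_iso {d : Finset GolayPt} (hd : d ∈ dodecads) {C : Finset GolayPt} (hC : C ∈ hexadsOn d) :
    Nonempty (↥(MulAction.stabilizer M24 d ⊓ MulAction.stabilizer M24 C) ≃* Equiv.Perm (Fin 6)) := by
  have hC6 := hC.1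
  have hCd : C ⊆ d := by
    obtain ⟨-, o, -, hoC⟩ := hC
    exact hoC ▸ Finset.inter_subset_right
  have hb : Function.Bijective ((restrictHom M24 C).comp
      (Subgroup.inclusion (inf_le_right : MulAction.stabilizer M24 d ⊓ MulAction.stabilizer M24 C ≤ _))) := by
    constructor
    · rw [injective_iff_map_eq_one]
      rintro ⟨⟨g, hg⟩, hg1, hg2⟩ h
      apply Subtype.ext
      apply Subtype.ext
      show g = 1
      apply eq_one_of_fix_six hd hC6 hCd hg hg1
      intro p hp
      have := congrArg (fun σ : Equiv.Perm C => ((σ ⟨p, hp⟩ : C) : GolayPt)) h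
      exact this
    · intro σ
      obtain ⟨g, hg, hgd, hgC, h⟩ := hexad_perm hd hC σ
      refine ⟨⟨⟨g, hg⟩, hgd, hgC⟩, ?_⟩
      apply Equiv.ext
      intro p
      exact Subtype.ext (h p)
  exact ⟨(MulEquiv.ofBijective _ hb).trans (Equiv.permCongrHom (Finset.equivFinOfCardEq hC6))⟩

/-! ### the concrete M12 and M11 -/

theorem squareDodecad_eq : Spor.squareDodecad = sqDod := by decide +kernel

theorem sqDod_mem : sqDod ∈ dodecads := by
  rw [mem_dodecads_iff, sqDod, mask_unmask _ (by norm_num), card_unmask (by norm_num)]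
  exact ⟨by decide +kernel, by decide +kernel⟩

theorem squareDodecad_mem : Spor.squareDodecad ∈ dodecads := squareDodecad_eq ▸ sqDod_mem

theorem mem_M12 {x : Equiv.Perm GolayPt} : x ∈ Spor.M12 ↔ x ∈ M24 ∧ x • Spor.squareDodecad = Spor.squareDodecad := by
  simp [Spor.M12, Subgroup.mem_inf, MulAction.mem_stabilizer_iff]

theorem mem_M11 {x : Equiv.Perm GolayPt} :
    x ∈ Spor.M11 ↔ x ∈ M24 ∧ x • Spor.squareDodecad = Spor.squareDodecad ∧ x (some 0) = some 0 := by
  simp [Spor.M11, mem_M12, Subgroup.mem_inf, MulAction.mem_stabilizer_iff, and_assoc]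

theorem smul_compl (g : Equiv.Perm GolayPt) (s : Finset GolayPt) :
    g • (Finset.univ \ s) = Finset.univ \ (g • s) := by
  rw [Finset.smul_finset_sdiff, Finset.smul_finset_univ]

theorem compl_mem_dodecads {d : Finset GolayPt} (hd : d ∈ dodecads) : Finset.univ \ d ∈ dodecads := by
  rw [mem_dodecads_iff] at hd ⊢
  constructor
  · have := isC_compl ((isC_iff d).2 hd.1)
    rw [isC_iff] at this
    rwa [← Finset.compl_eq_univ_sdiff]
  · rw [Finset.card_sdiff_of_subset (Finset.subset_univ _), hd.2]; rfl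

theorem projInv_smul_sq : projInv • Spor.squareDodecad = Finset.univ \ Spor.squareDodecad := by
  rw [squareDodecad_eq]
  decide +kernel

theorem projInv_sq : projInv * projInv = 1 := by
  apply Equiv.ext
  decide +kernel

theorem projInv_inv : projInv⁻¹ = projInv := inv_eq_of_mul_eq_one_left projInv_sq

theorem smul_eq_iff_compl (x : Equiv.Perm GolayPt) (s : Finset GolayPt) :
    x • (Finset.univ \ s) = Finset.univ \ s ↔ x • s = s := by
  rw [smul_compl]
  constructor
  · intro h
    have := congrArg (fun t => Finset.univ \ t) h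
    simpa [Finset.sdiff_sdiff_eq_self (Finset.subset_univ _)] using this
  · intro h; rw [h]

theorem conj_mem_M24_iff {g : Equiv.Perm GolayPt} (hg : g ∈ M24) (y : Equiv.Perm GolayPt) :
    g⁻¹ * y * g ∈ M24 ↔ y ∈ M24 := by
  constructor
  · intro h
    have := M24.mul_mem (M24.mul_mem hg h) (M24.inv_mem hg)
    have e : g * (g⁻¹ * y * g) * g⁻¹ = y := by group
    rwa [e] at this
  · intro h
    exact M24.mul_mem (M24.mul_mem (M24.inv_mem hg) h) hg

theorem conj_smul_eq_iff {α : Type*} [MulAction (Equiv.Perm GolayPt) α] (g y : Equiv.Perm GolayPt) (d : α) :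
    (g⁻¹ * y * g) • d = d ↔ y • (g • d) = g • d := by
  rw [mul_smul, mul_smul, inv_smul_eq_iff]

theorem conj_M11 : MulAut.conj projInv • Spor.M11 =
    Spor.M12 ⊓ MulAction.stabilizer (Equiv.Perm GolayPt) (none : GolayPt) := by
  have h0 : projInv • (some 0 : GolayPt) = none := by decide +kernel
  ext y
  rw [Subgroup.mem_pointwise_smul_iff_inv_smul_mem, MulAut.smul_def, ← map_inv, MulAut.conj_apply, inv_inv,
    mem_M11, Subgroup.mem_inf, mem_M12, conj_mem_M24_iff gamma_mem,
    conj_smul_eq_iff, projInv_smul_sq, smul_eq_iff_compl, and_assoc]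
  have e2 : y ∈ MulAction.stabilizer (Equiv.Perm GolayPt) (none : GolayPt) ↔ y • (none : GolayPt) = none :=
    MulAction.mem_stabilizer_iff
  rw [e2]
  have e : (projInv⁻¹ * y * projInv) (some 0) = some 0 ↔ y • (none : GolayPt) = none := by
    have := conj_smul_eq_iff projInv y (some 0 : GolayPt)
    rw [h0] at this
    exact this
  rw [e]

theorem M11_not_conj : ¬ ∃ k ∈ Spor.M12, MulAut.conj k • Spor.M11 =
    Spor.M12 ⊓ MulAction.stabilizer (Equiv.Perm GolayPt) (none : GolayPt) := by
  rintro ⟨k, hk, h⟩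
  have hk' := mem_M12.1 hk
  -- the point `k 0` of the dodecad is fixed by the right hand side
  have hp : k (some 0) ∈ Spor.squareDodecad := by
    rw [← hk'.2]
    exact Finset.smul_mem_smul_finset (by rw [squareDodecad_eq]; decide +kernel)
  have hfix : ∀ y ∈ Spor.M12 ⊓ MulAction.stabilizer (Equiv.Perm GolayPt) (none : GolayPt),
      y (k (some 0)) = k (some 0) := by
    intro y hy
    rw [← h, Subgroup.mem_pointwise_smul_iff_inv_smul_mem, MulAut.smul_def, ← map_inv, MulAut.conj_apply, inv_inv,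
      mem_M11] at hy
    have := (conj_smul_eq_iff k y (some 0 : GolayPt)).1 hy.2.2
    exact this
  -- but that group is transitive on the dodecad
  obtain ⟨q, hq, hqp⟩ : ∃ q ∈ Spor.squareDodecad, q ≠ k (some 0) := by
    by_cases h0 : k (some 0) = some 0
    · exact ⟨some 1, by rw [squareDodecad_eq]; decide +kernel, by rw [h0]; decide⟩
    · exact ⟨some 0, by rw [squareDodecad_eq]; decide +kernel, fun e => h0 e.symm⟩
  obtain ⟨r, hr, hrp, hrq⟩ : ∃ r ∈ Spor.squareDodecad, r ≠ k (some 0) ∧ r ≠ q := by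
    have hc : 2 < Spor.squareDodecad.card := by rw [card_of_mem_dodecads squareDodecad_mem]; norm_num
    have : (({k (some 0), q} : Finset GolayPt)).card < Spor.squareDodecad.card :=
      lt_of_le_of_lt (Finset.card_le_two) hc
    obtain ⟨r, hr, hr2⟩ := Finset.exists_mem_notMem_of_card_lt_card this
    simp only [Finset.mem_insert, Finset.mem_singleton, not_or] at hr2
    exact ⟨r, hr, hr2.1, hr2.2⟩
  have hnone : (none : GolayPt) ∈ Finset.univ \ Spor.squareDodecad := by rw [squareDodecad_eq]; decide +kernel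
  have hnot : ∀ x ∈ Spor.squareDodecad, x ∉ Finset.univ \ Spor.squareDodecad := by
    intro x hx; simp [hx]
  obtain ⟨g, hg, hgd, hgp, hgx⟩ := M11_three_trans (compl_mem_dodecads squareDodecad_mem) hnone
    ![k (some 0), q, r] ![q, k (some 0), r] (injective_vec3 hqp.symm hrp.symm hrq.symm)
    (injective_vec3 hqp hrq.symm hrp.symm)
    (by intro i; fin_cases i <;> simp [hp, hq, hr]) (by intro i; fin_cases i <;> simp [hp, hq, hr])
  have h1 := hfix g ⟨mem_M12.2 ⟨hg, (smul_eq_iff_compl g _).1 hgd⟩, hgp⟩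
  have h2 : g (k (some 0)) = q := hgx 0
  exact hqp (h2.symm.trans h1)

theorem M11_iso : Nonempty (↥(Spor.M12 ⊓ MulAction.stabilizer (Equiv.Perm GolayPt) (none : GolayPt)) ≃* ↥Spor.M11) := by
  rw [← conj_M11]
  exact ⟨(Subgroup.equivSMul (MulAut.conj projInv) Spor.M11).symm⟩

end Cfsg.Agent.Lib.Helper28
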