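/-
A criterion for the fusion system of a finite group on a Sylow subgroup to be simple:
self-normalizing Sylow subgroup and no proper nontrivial strongly closed subgroup.
-/
import Cfsg.Agent.S5076
import Cfsg.Agent.Lib.Helper20.Fitting
import Cfsg.Prelude.Def_FusionSystem
set_option autoImplicit false
open Cfsg
open scoped Pointwise
namespace Cfsg.Agent.Lib.Helper28

/-- elements of `Aut_F(S)` are induced by elements of `S` when `N_G(S) = S`. -/
theorem autGroup_top_inner {G : Type*} [Group G] (S : Subgroup G)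
    (hN : Subgroup.normalizer (S : Set G) ≤ S) (α : MulAut S)
    (hα : α ∈ (groupFusionSystem S).autGroup S) :
    ∃ s ∈ S, ∀ y : S, ((α y : S) : G) = s * y * s⁻¹ := by
  unfold FusionSystem.autGroup at hα
  induction hα using Subgroup.closure_induction with
  | mem α h =>
    obtain ⟨-, -, g, hg⟩ := h
    have hg' : ∀ x : S, ((α x : S) : G) = g * x * g⁻¹ := fun x => hg x
    refine ⟨g, hN ?_, hg'⟩
    rw [Subgroup.mem_normalizer_iff]
    intro h
    constructor
    · intro hh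
      have := hg' ⟨h, hh⟩
      rw [← this]
      exact (α ⟨h, hh⟩).2
    · intro hh
      obtain ⟨y, hy⟩ := α.surjective ⟨_, hh⟩
      have h1 := hg' y
      rw [hy] at h1
      have h2 : h = y := mul_left_cancel (mul_right_cancel h1)
      rw [h2]
      exact y.2
  | one => exact ⟨1, S.one_mem, fun y => by simp⟩
  | mul a b _ _ iha ihb =>
    obtain ⟨s, hs, h1⟩ := iha
    obtain ⟨t, ht, h2⟩ := ihb
    refine ⟨s * t, S.mul_mem hs ht, fun y => ?_⟩
    rw [MulAut.mul_apply, h1, h2]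
    group
  | inv a _ iha =>
    obtain ⟨s, hs, h1⟩ := iha
    refine ⟨s⁻¹, S.inv_mem hs, fun y => ?_⟩
    have := h1 (a⁻¹ y)
    rw [MulAut.apply_inv_self] at this
    rw [this]
    group

theorem fus_simple_of_sylow {G : Type*} [Group G] [Finite G] (p : ℕ) [Fact p.Prime] (S : Sylow p G)
    (hS1 : (S : Subgroup G) ≠ ⊥)
    (hN : Subgroup.normalizer ((S : Subgroup G) : Set G) ≤ S)
    (hC : ∀ T : Subgroup G, T ≤ S → T ≠ ⊥ →
      (∀ x ∈ T, ∀ g : G, g * x * g⁻¹ ∈ (S : Subgroup G) → g * x * g⁻¹ ∈ T) → T = S) :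
    (groupFusionSystem (S : Subgroup G)).IsSimple p := by
  refine ⟨Cfsg.Agent.S5076.result p S, hS1, ?_⟩
  intro T E hE
  obtain ⟨⟨-, -, hsub, hsc, -, hfrat⟩, -⟩ := hE
  by_cases hT : T = ⊥
  · exact Or.inl hT
  right
  have hTS : T = S := by
    apply hC T hsc.1 hT
    intro x hx g hg
    have hR : Subgroup.zpowers x ≤ T := by rwa [Subgroup.zpowers_le]
    have hφ : conjHom (Subgroup.zpowers x) g ∈ (groupFusionSystem (S : Subgroup G)).Hom (Subgroup.zpowers x) := by
      refine ⟨hR.trans hsc.1, ?_, g, fun y => rfl⟩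
      rintro ⟨y, k, rfl⟩
      show g * x ^ k * g⁻¹ ∈ (S : Subgroup G)
      have : g * x ^ k * g⁻¹ = (g * x * g⁻¹) ^ k := by
        rw [conj_zpow]
      rw [this]
      exact Subgroup.zpow_mem _ hg k
    exact hsc.2 _ hR _ hφ ⟨x, Subgroup.mem_zpowers x⟩
  subst hTS
  refine ⟨rfl, fun P => ?_⟩
  apply Set.Subset.antisymm (hsub P)
  intro φ hφ
  have hP : P ≤ (S : Subgroup G) := hφ.1
  obtain ⟨α, hα, φ₀, hφ₀, h⟩ := hfrat P hP φ hφ
  obtain ⟨s, hs, hs'⟩ := autGroup_top_inner (S : Subgroup G) hN α hα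
  have h0 : ∀ x : P, φ₀ x ∈ (S : Subgroup G) := (E.le_of_mem hφ₀).2
  have hc := E.comp_mem hφ₀ (E.conj_mem (P := (S : Subgroup G)) le_rfl hs) h0
  have : (conjHom (S : Subgroup G) s).comp (φ₀.codRestrict (S : Subgroup G) h0) = φ := by
    ext x
    rw [h x (h0 x), hs']
    rfl
  rwa [this] at hc

/-- a nontrivial subgroup of a finite `p`-group `P`, normalized by `P`, contains a nontrivial element
commuting with `P`. -/
theorem exists_central_of_normalized {G : Type*} [Group G] (p : ℕ) [Fact p.Prime] (P T : Subgroup G)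
    [Finite P] (hP : IsPGroup p P) (hT : T ≤ P) (hne : T ≠ ⊥)
    (hn : ∀ x ∈ T, ∀ g ∈ P, g * x * g⁻¹ ∈ T) :
    ∃ x ∈ T, x ≠ 1 ∧ ∀ y ∈ P, x * y = y * x := by
  have : Group.IsNilpotent P := hP.isNilpotent
  have : (T.subgroupOf P).Normal := ⟨fun x hx g => by
    rw [Subgroup.mem_subgroupOf] at hx ⊢
    exact hn _ hx _ g.2⟩
  have hne' : T.subgroupOf P ≠ ⊥ := by
    intro h
    rw [Subgroup.subgroupOf_eq_bot, disjoint_iff, inf_eq_left.2 hT] at h
    exact hne h
  obtain ⟨x, hx, hc, h1⟩ := Cfsg.Agent.Lib.Helper20.normal_inf_center_ne_bot (T.subgroupOf P) hne'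
  refine ⟨x, hx, fun h => h1 (Subtype.ext h), fun y hy => ?_⟩
  have := (Subgroup.mem_center_iff.1 hc) ⟨y, hy⟩
  exact (congrArg Subtype.val this).symm

/-- criterion in terms of one standard Sylow subgroup `S0` -/
theorem fus_simple_of_std {G : Type*} [Group G] [Finite G] (p : ℕ) [Fact p.Prime] (S0 : Sylow p G) (z : G)
    (hz1 : z ≠ 1) (hzS : z ∈ S0)
    (hN : ∀ g : G, (∀ s, s ∈ S0 ↔ g * s * g⁻¹ ∈ S0) → g ∈ S0)
    (hZ : ∀ x ∈ S0, (∀ y ∈ S0, x * y = y * x) → x = 1 ∨ x = z)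
    (hG : ∀ T : Subgroup G, z ∈ T → (∀ x ∈ T, ∀ g : G, g * x * g⁻¹ ∈ S0 → g * x * g⁻¹ ∈ T) →
      (S0 : Subgroup G) ≤ T)
    (S : Sylow p G) : (groupFusionSystem (S : Subgroup G)).IsSimple p := by
  obtain ⟨c, rfl⟩ := MulAction.exists_smul_eq G S0 S
  have hmem : ∀ x : G, x ∈ ((c • S0 : Sylow p G) : Subgroup G) ↔ c⁻¹ * x * c ∈ S0 := by
    intro x
    rw [Sylow.coe_subgroup_smul, Subgroup.mem_pointwise_smul_iff_inv_smul_mem]
    simp [MulAut.smul_def]
    rfl
  apply fus_simple_of_sylow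
  · intro h
    have : c * z * c⁻¹ ∈ ((c • S0 : Sylow p G) : Subgroup G) := by
      rw [hmem]; simpa [mul_assoc] using hzS
    rw [h, Subgroup.mem_bot] at this
    apply hz1
    have h2 : z = c⁻¹ * (c * z * c⁻¹) * c := by group
    rw [h2, this]; group
  · intro g hg
    rw [Subgroup.mem_normalizer_iff] at hg
    rw [hmem]
    apply hN
    intro s
    have h1 := hg (c * s * c⁻¹)
    rw [hmem, hmem] at h1
    have e1 : c⁻¹ * (c * s * c⁻¹) * c = s := by group
    have e2 : c⁻¹ * (g * (c * s * c⁻¹) * g⁻¹) * c = c⁻¹ * g * c * s * (c⁻¹ * g * c)⁻¹ := by group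
    rw [e1, e2] at h1
    exact h1
  · intro T hT hne hcl
    apply le_antisymm hT
    -- transport `T`
    let T' : Subgroup G := T.comap (MulAut.conj c).toMonoidHom
    have hT' : ∀ x, x ∈ T' ↔ c * x * c⁻¹ ∈ T := fun x => Iff.rfl
    have hT'le : T' ≤ S0 := by
      intro x hx
      have := (hmem _).1 (hT ((hT' x).1 hx))
      have e1 : c⁻¹ * (c * x * c⁻¹) * c = x := by group
      rwa [e1] at this
    have hT'ne : T' ≠ ⊥ := by
      intro h
      apply hne
      rw [Subgroup.eq_bot_iff_forall] at h ⊢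
      intro x hx
      have := h (c⁻¹ * x * c) (by rw [hT']; convert hx using 1; group)
      have e : x = c * (c⁻¹ * x * c) * c⁻¹ := by group
      rw [e, this]; group
    have hcl' : ∀ x ∈ T', ∀ g : G, g * x * g⁻¹ ∈ S0 → g * x * g⁻¹ ∈ T' := by
      intro x hx g hg
      rw [hT'] at hx ⊢
      have e : c * (g * x * g⁻¹) * c⁻¹ = (c * g * c⁻¹) * (c * x * c⁻¹) * (c * g * c⁻¹)⁻¹ := by group
      rw [e]
      apply hcl _ hx
      rw [← e, hmem]
      convert hg using 1
      group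
    obtain ⟨x, hx, hx1, hxc⟩ := exists_central_of_normalized p (S0 : Subgroup G) T' S0.isPGroup' hT'le hT'ne
      (fun x hx g hg => hcl' x hx g ((S0 : Subgroup G).mul_mem ((S0 : Subgroup G).mul_mem hg (hT'le hx))
        ((S0 : Subgroup G).inv_mem hg)))
    have hzT : z ∈ T' := by
      rcases hZ x (hT'le hx) hxc with h | h
      · exact absurd h hx1
      · rwa [← h]
    have hle := hG T' hzT hcl'
    intro x hx
    have := hle ((hmem x).1 hx)
    rw [hT'] at this
    convert this using 1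
    group

/-- the same criterion for a subgroup `K` of an ambient group, all data living in the ambient group -/
theorem fus_simple_sub {Ω : Type*} [Group Ω] (K S0 : Subgroup Ω) [Finite K] (p : ℕ) [Fact p.Prime] (z : Ω)
    (k m : ℕ) (hle : S0 ≤ K) (hcS : Nat.card S0 = p ^ k) (hcK : Nat.card K = p ^ k * m) (hm : ¬ p ∣ m)
    (hz1 : z ≠ 1) (hzS : z ∈ S0)
    (hN : ∀ g ∈ K, (∀ s ∈ S0, g * s * g⁻¹ ∈ S0) → (∀ s ∈ S0, g⁻¹ * s * g ∈ S0) → g ∈ S0)
    (hZ : ∀ x ∈ S0, (∀ y ∈ S0, x * y = y * x) → x = 1 ∨ x = z)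
    (hG : ∀ T : Subgroup Ω, z ∈ T → (∀ x ∈ T, ∀ g ∈ K, g * x * g⁻¹ ∈ S0 → g * x * g⁻¹ ∈ T) → S0 ≤ T)
    (S : Sylow p K) : (groupFusionSystem (S : Subgroup K)).IsSimple p := by
  have hp : p.Prime := Fact.out
  have hm0 : m ≠ 0 := by rintro rfl; exact hm (dvd_zero p)
  have hfac : (Nat.card K).factorization p = k := by
    rw [hcK, Nat.factorization_mul (pow_ne_zero _ hp.ne_zero) hm0, Nat.Prime.factorization_pow hp]
    simp [Nat.factorization_eq_zero_of_not_dvd hm]
  have hc : Nat.card (S0.subgroupOf K) = p ^ (Nat.card K).factorization p := by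
    rw [hfac, ← hcS]
    exact Nat.card_congr (Subgroup.subgroupOfEquivOfLe hle).toEquiv
  let P : Sylow p K := Sylow.ofCard (S0.subgroupOf K) hc
  have hP : ∀ x : K, x ∈ P ↔ (x : Ω) ∈ S0 := fun x => Iff.rfl
  apply fus_simple_of_std p P ⟨z, hle hzS⟩
  · intro h; exact hz1 (congrArg Subtype.val h)
  · exact hzS
  · intro g hg
    rw [hP]
    apply hN g g.2
    · intro s hs
      exact (hg ⟨s, hle hs⟩).1 hs
    · intro s hs
      have hk : (g : Ω)⁻¹ * s * g ∈ K := K.mul_mem (K.mul_mem (K.inv_mem g.2) (hle hs)) g.2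
      have h1 := (hg ⟨(g : Ω)⁻¹ * s * g, hk⟩).2
      apply h1
      rw [hP]
      have : ((g * ⟨(g : Ω)⁻¹ * s * g, hk⟩ * g⁻¹ : K) : Ω) = s := by
        simp [mul_assoc]
      rw [this]; exact hs
  · intro x hx hxy
    rcases hZ x hx (fun y hy => congrArg Subtype.val (hxy ⟨y, hle hy⟩ hy)) with h | h
    · left; exact Subtype.ext h
    · right; exact Subtype.ext h
  · intro T hzT hcl x hx
    have := hG (T.map K.subtype) ⟨_, hzT, rfl⟩ (by
      rintro _ ⟨y, hy, rfl⟩ g hg hS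
      exact ⟨⟨g, hg⟩ * y * ⟨g, hg⟩⁻¹, hcl y hy ⟨g, hg⟩ hS, rfl⟩) ((hP x).1 hx)
    obtain ⟨y, hy, hyx⟩ := this
    have : y = x := Subtype.ext hyx
    rwa [← this]

end Cfsg.Agent.Lib.Helper28
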