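/-
Permutations of the 24 points packed into one natural number (5 bits per point); enumeration of
2-subgroups given by a polycyclic generating sequence.
-/
import Cfsg.Agent.Lib.Helper28.GolayGen
set_option autoImplicit false
open Cfsg
open scoped Pointwise
namespace Cfsg.Agent.Lib.Helper28

/-- digit `x` of a packed table -/
def ap (t x : ℕ) : ℕ := Nat.land (Nat.shiftRight t (Nat.mul 5 x)) 31

/-- pack the first `n` values of `f` -/
def packF (f : ℕ → ℕ) : ℕ → ℕ
  | 0 => 0
  | k + 1 => Nat.lor (packF f k) (Nat.shiftLeft (f k) (Nat.mul 5 k))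

theorem testBit_ap (t x j : ℕ) : (ap t x).testBit j = (decide (j < 5) && t.testBit (5 * x + j)) := by
  show ((t >>> (5 * x)) &&& 31).testBit j = _
  rw [Nat.testBit_and, Nat.testBit_shiftRight, show (31 : ℕ) = 2 ^ 5 - 1 by norm_num,
    Nat.testBit_two_pow_sub_one, Bool.and_comm]

theorem ap_lt (t x : ℕ) : ap t x < 32 := by
  show (t >>> (5 * x)) &&& 31 < 32
  exact Nat.lt_succ_of_le Nat.and_le_right

theorem testBit_packF (f : ℕ → ℕ) (hf : ∀ k, f k < 32) (n i : ℕ) :
    (packF f n).testBit i = (decide (i < 5 * n) && (f (i / 5)).testBit (i % 5)) := by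
  induction n with
  | zero => simp [packF]
  | succ k ih =>
    show ((packF f k) ||| (f k <<< (5 * k))).testBit i = _
    rw [Nat.testBit_or, ih, Nat.testBit_shiftLeft]
    by_cases h1 : i < 5 * k
    · have h2 : ¬ (5 * k ≤ i) := by omega
      have h3 : i < 5 * (k + 1) := by omega
      simp [h1, h2, h3]
    · by_cases h3 : i < 5 * (k + 1)
      · have h4 : i / 5 = k := by omega
        have h5 : i % 5 = i - 5 * k := by omega
        have h2 : 5 * k ≤ i := by omega
        simp [h1, h2, h3, h4, h5]
      · have h6 : (f k).testBit (i - 5 * k) = false := by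
          apply Nat.testBit_lt_two_pow
          calc f k < 2 ^ 5 := hf k
            _ ≤ 2 ^ (i - 5 * k) := Nat.pow_le_pow_right (by norm_num) (by omega)
        simp [h1, h3, h6]

theorem ap_packF (f : ℕ → ℕ) (hf : ∀ k, f k < 32) (n x : ℕ) (hx : x < n) : ap (packF f n) x = f x := by
  apply Nat.eq_of_testBit_eq
  intro j
  rw [testBit_ap, testBit_packF f hf]
  by_cases hj : j < 5
  · have h1 : 5 * x + j < 5 * n := by omega
    have h2 : (5 * x + j) / 5 = x := by omega
    have h3 : (5 * x + j) % 5 = j := by omega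
    simp [hj, h1, h2, h3]
  · have h6 : (f x).testBit j = false := by
      apply Nat.testBit_lt_two_pow
      calc f x < 2 ^ 5 := hf x
        _ ≤ 2 ^ j := Nat.pow_le_pow_right (by norm_num) (by omega)
    simp [hj, h6]

theorem packF_lt (f : ℕ → ℕ) (hf : ∀ k, f k < 32) (n : ℕ) : packF f n < 2 ^ (5 * n) := by
  apply Nat.lt_pow_two_of_testBit
  intro i hi
  rw [testBit_packF f hf]
  have : ¬ i < 5 * n := by omega
  simp [this]

theorem packF_congr {f f' : ℕ → ℕ} {n : ℕ} (h : ∀ k, k < n → f k = f' k) : packF f n = packF f' n := by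
  induction n with
  | zero => rfl
  | succ k ih =>
    show Nat.lor (packF f k) (Nat.shiftLeft (f k) (Nat.mul 5 k)) = Nat.lor (packF f' k) (Nat.shiftLeft (f' k) (Nat.mul 5 k))
    rw [ih (fun j hj => h j (by omega)), h k (by omega)]

theorem eq_of_ap {t t' : ℕ} (h : t < 2 ^ 120) (h' : t' < 2 ^ 120) (he : ∀ x, x < 24 → ap t x = ap t' x) :
    t = t' := by
  apply Nat.eq_of_testBit_eq
  intro i
  by_cases hi : i < 120
  · have h1 := congrArg (fun m => m.testBit (i % 5)) (he (i / 5) (by omega))
    simp only [testBit_ap] at h1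
    have h2 : i % 5 < 5 := Nat.mod_lt _ (by norm_num)
    have h3 : 5 * (i / 5) + i % 5 = i := Nat.div_add_mod i 5
    simpa [h2, h3] using h1
  · rw [Nat.testBit_lt_two_pow (lt_of_lt_of_le h (Nat.pow_le_pow_right (by norm_num) (by omega))),
      Nat.testBit_lt_two_pow (lt_of_lt_of_le h' (Nat.pow_le_pow_right (by norm_num) (by omega)))]

/-- the packed table of a permutation -/
def tb (g : Equiv.Perm GolayPt) : ℕ := packF (fun x => idx (g (pt x))) 24

theorem idx_lt32 (p : GolayPt) : idx p < 32 := lt_trans (idx_lt p) (by norm_num)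

theorem ap_tb (g : Equiv.Perm GolayPt) (p : GolayPt) : ap (tb g) (idx p) = idx (g p) := by
  unfold tb
  rw [ap_packF _ (fun k => idx_lt32 _) _ _ (idx_lt p), pt_idx]

theorem ap_tb' (g : Equiv.Perm GolayPt) {x : ℕ} (hx : x < 24) : ap (tb g) x = idx (g (pt x)) := by
  unfold tb
  rw [ap_packF _ (fun k => idx_lt32 _) _ _ hx]

theorem tb_lt (g : Equiv.Perm GolayPt) : tb g < 2 ^ 120 := packF_lt _ (fun _ => idx_lt32 _) 24

theorem tb_injective : Function.Injective tb := by
  intro g h e
  apply Equiv.ext
  intro p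
  apply idx_injective
  rw [← ap_tb, ← ap_tb, e]

/-- product of packed tables -/
def mulP (a b : ℕ) : ℕ := packF (fun k => ap a (ap b k)) 24

theorem tb_mul (g h : Equiv.Perm GolayPt) : tb (g * h) = mulP (tb g) (tb h) := by
  unfold mulP
  conv_lhs => unfold tb
  apply packF_congr
  intro k hk
  rw [ap_tb' h hk, ap_tb, Equiv.Perm.mul_apply]

/-- the packed identity -/
def idP : ℕ := packF (fun k => k) 24

theorem tb_one : tb 1 = idP := by
  unfold tb idP
  apply packF_congr
  intro k hk
  simp [idx_pt k hk]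

/-- unpack -/
def unpk (t : ℕ) : List ℕ := (List.range 24).map (ap t)

/-- validity of a packed table -/
def validP (t : ℕ) : Bool := decide (t < 2 ^ 120) && validTbl (unpk t)

/-- the permutation of a packed table -/
noncomputable def permP (t : ℕ) : Equiv.Perm GolayPt := permOf (unpk t)

theorem tb_permP {t : ℕ} (h : validP t = true) : tb (permP t) = t := by
  simp only [validP, Bool.and_eq_true, decide_eq_true_eq] at h
  apply eq_of_ap (tb_lt _) h.1
  intro x hx
  rw [ap_tb' _ hx, permP, idx_permOf h.2, idx_pt x hx]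
  simp [unpk, List.getD_eq_getElem?_getD, hx]

theorem permP_tb (g : Equiv.Perm GolayPt) (h : validP (tb g) = true) : permP (tb g) = g :=
  tb_injective (tb_permP h)

/-- membership in a list of numbers -/
def memN (t : ℕ) : List ℕ → Bool
  | [] => false
  | x :: xs => Nat.beq t x || memN t xs

theorem memN_iff (t : ℕ) (L : List ℕ) : memN t L = true ↔ t ∈ L := by
  induction L with
  | nil => simp [memN]
  | cons x xs ih => simp [memN, ih]

/-- `L` enumerates the subgroup `H` without repetition -/
structure Enum (H : Subgroup (Equiv.Perm GolayPt)) (L : List ℕ) : Prop where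
  mem_iff : ∀ g, g ∈ H ↔ tb g ∈ L
  rep : ∀ t ∈ L, ∃ g, tb g = t
  nodup : L.Nodup

theorem Enum.card {H : Subgroup (Equiv.Perm GolayPt)} {L : List ℕ} (h : Enum H L) :
    Nat.card H = L.length := by
  have h1 : tb '' (H : Set (Equiv.Perm GolayPt)) = (L.toFinset : Set ℕ) := by
    ext t
    simp only [Set.mem_image, SetLike.mem_coe, List.coe_toFinset, Set.mem_ofPred_eq]
    constructor
    · rintro ⟨g, hg, rfl⟩
      exact (h.mem_iff g).1 hg
    · intro ht
      obtain ⟨g, rfl⟩ := h.rep t ht
      exact ⟨g, (h.mem_iff g).2 ht, rfl⟩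
  have h2 : Nat.card H = (tb '' (H : Set (Equiv.Perm GolayPt))).ncard := by
    rw [Set.ncard_image_of_injective _ tb_injective]
    rfl
  rw [h2, h1, Set.ncard_coe_finset, List.toFinset_card_of_nodup h.nodup]

theorem Enum.bot : Enum ⊥ [idP] where
  mem_iff g := by
    rw [Subgroup.mem_bot, List.mem_singleton, ← tb_one]
    exact ⟨fun h => by rw [h], fun h => tb_injective h⟩
  rep t ht := ⟨1, by rw [List.mem_singleton.1 ht, tb_one]⟩
  nodup := List.nodup_singleton _

theorem closure_insert_two {G : Type*} [Group G] (hs : Set G) (α : G) (h2 : α * α ∈ Subgroup.closure hs)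
    (h3 : ∀ h ∈ hs, α⁻¹ * h * α ∈ Subgroup.closure hs) :
    ∀ g ∈ Subgroup.closure (insert α hs), g ∈ Subgroup.closure hs ∨ α⁻¹ * g ∈ Subgroup.closure hs := by
  intro g hg
  induction hg using Subgroup.closure_induction_left with
  | one => exact Or.inl (Subgroup.one_mem _)
  | mul_left x hx y _ ih =>
    rcases hx with rfl | hx
    · rcases ih with ih | ih
      · right; simpa using ih
      · left
        have := Subgroup.mul_mem _ h2 ih
        simpa [mul_assoc] using this
    · rcases ih with ih | ih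
      · left; exact Subgroup.mul_mem _ (Subgroup.subset_closure hx) ih
      · right
        have := Subgroup.mul_mem _ (h3 x hx) ih
        simpa [mul_assoc] using this
  | inv_mul_cancel x hx y _ ih =>
    rcases hx with rfl | hx
    · rcases ih with ih | ih
      · right
        have := Subgroup.mul_mem _ (Subgroup.inv_mem _ h2) ih
        simpa [mul_assoc] using this
      · left; exact ih
    · rcases ih with ih | ih
      · left; exact Subgroup.mul_mem _ (Subgroup.inv_mem _ (Subgroup.subset_closure hx)) ih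
      · right
        have := Subgroup.mul_mem _ (Subgroup.inv_mem _ (h3 x hx)) ih
        simpa [mul_assoc] using this

theorem Enum.step {hs : Set (Equiv.Perm GolayPt)} {L : List ℕ} (hE : Enum (Subgroup.closure hs) L)
    (α : Equiv.Perm GolayPt) (h1 : tb α ∉ L) (h2 : tb (α * α) ∈ L) (h3 : ∀ h ∈ hs, tb (α⁻¹ * h * α) ∈ L) :
    Enum (Subgroup.closure (insert α hs)) (L ++ L.map (mulP (tb α))) where
  mem_iff g := by
    rw [List.mem_append, List.mem_map]
    constructor
    · intro hg
      rcases closure_insert_two hs α ((hE.mem_iff _).2 h2) (fun h hh => (hE.mem_iff _).2 (h3 h hh)) g hg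
        with h | h
      · exact Or.inl ((hE.mem_iff _).1 h)
      · refine Or.inr ⟨_, (hE.mem_iff _).1 h, ?_⟩
        rw [← tb_mul]; simp
    · rintro (h | ⟨t, ht, he⟩)
      · exact Subgroup.closure_mono (Set.subset_insert _ _) ((hE.mem_iff _).2 h)
      · obtain ⟨g', rfl⟩ := hE.rep t ht
        rw [← tb_mul] at he
        rw [← tb_injective he]
        exact Subgroup.mul_mem _ (Subgroup.subset_closure (Set.mem_insert _ _))
          (Subgroup.closure_mono (Set.subset_insert _ _) ((hE.mem_iff _).2 ht))
  rep t ht := by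
    rw [List.mem_append, List.mem_map] at ht
    rcases ht with h | ⟨t', ht', rfl⟩
    · exact hE.rep t h
    · obtain ⟨g', rfl⟩ := hE.rep t' ht'
      exact ⟨α * g', tb_mul _ _⟩
  nodup := by
    rw [List.nodup_append]
    refine ⟨hE.nodup, ?_, ?_⟩
    · apply List.Nodup.map_on _ hE.nodup
      intro x hx y hy hxy
      obtain ⟨g, rfl⟩ := hE.rep x hx
      obtain ⟨g', rfl⟩ := hE.rep y hy
      rw [← tb_mul, ← tb_mul] at hxy
      rw [mul_left_cancel (tb_injective hxy)]
    · intro a ha b hb hab
      rw [List.mem_map] at hb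
      obtain ⟨t', ht', rfl⟩ := hb
      obtain ⟨g, rfl⟩ := hE.rep a ha
      obtain ⟨g', rfl⟩ := hE.rep t' ht'
      rw [← tb_mul] at hab
      have e := tb_injective hab
      apply h1
      rw [← hE.mem_iff]
      have : α = g * g'⁻¹ := by rw [e]; group
      rw [this]
      exact Subgroup.mul_mem _ ((hE.mem_iff _).2 ha) (Subgroup.inv_mem _ ((hE.mem_iff _).2 ht'))

/-- the list of elements of the group given by a polycyclic sequence `(a, a⁻¹)` -/
def dbl : List (ℕ × ℕ) → List ℕ
  | [] => [idP]
  | a :: as => dbl as ++ (dbl as).map (mulP a.1)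

/-- the check that the sequence is polycyclic with all factors of order two -/
def pcOK : List (ℕ × ℕ) → Bool
  | [] => true
  | a :: as =>
    validP a.1 && validP a.2 && Nat.beq (mulP a.1 a.2) idP &&
    !(memN a.1 (dbl as)) && memN (mulP a.1 a.1) (dbl as) &&
    as.all (fun h => memN (mulP (mulP a.2 h.1) a.1) (dbl as)) && pcOK as

/-- the group generated by a sequence -/
noncomputable def pcGrp (as : List (ℕ × ℕ)) : Subgroup (Equiv.Perm GolayPt) :=
  Subgroup.closure {g | ∃ a ∈ as, g = permP a.1}

theorem pcGrp_cons (a : ℕ × ℕ) (as : List (ℕ × ℕ)) :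
    pcGrp (a :: as) = Subgroup.closure (insert (permP a.1) {g | ∃ a ∈ as, g = permP a.1}) := by
  unfold pcGrp
  congr 1
  ext g
  simp [Set.mem_insert_iff]

theorem pcOK_valid {as : List (ℕ × ℕ)} (h : pcOK as = true) : ∀ a ∈ as, validP a.1 = true := by
  induction as with
  | nil => simp
  | cons a as ih =>
    simp only [pcOK, Bool.and_eq_true] at h
    intro b hb
    rcases List.mem_cons.1 hb with rfl | hb
    · exact h.1.1.1.1.1.1
    · exact ih h.2 b hb

theorem permP_inv {a a' : ℕ} (h1 : validP a = true) (h2 : validP a' = true) (h : mulP a a' = idP) :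
    permP a' = (permP a)⁻¹ := by
  rw [eq_inv_iff_mul_eq_one, mul_eq_one_iff_eq_inv, ← mul_eq_one_iff_eq_inv']
  apply tb_injective
  rw [tb_mul, tb_permP h1, tb_permP h2, h, tb_one]

theorem pcOK_spec {as : List (ℕ × ℕ)} (h : pcOK as = true) : Enum (pcGrp as) (dbl as) := by
  induction as with
  | nil =>
    have : pcGrp [] = ⊥ := by simp [pcGrp]
    rw [this]
    exact Enum.bot
  | cons a as ih =>
    have hv := pcOK_valid h
    simp only [pcOK, Bool.and_eq_true, Bool.not_eq_true', List.all_eq_true, memN_iff, Nat.beq_eq] at h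
    obtain ⟨⟨⟨⟨⟨⟨h1, h2⟩, h3⟩, h4⟩, h5⟩, h6⟩, h7⟩ := h
    have hE := ih h7
    rw [pcGrp_cons]
    have hinv := permP_inv h1 h2 h3
    have := Enum.step hE (permP a.1) (by
        rw [tb_permP h1]
        intro hc
        rw [← memN_iff, h4] at hc
        exact Bool.false_ne_true hc) (by rw [tb_mul, tb_permP h1]; exact h5) (by
        rintro _ ⟨b, hb, rfl⟩
        rw [← hinv, tb_mul, tb_mul, tb_permP h1, tb_permP h2, tb_permP (hv b (List.mem_cons_of_mem _ hb))]
        exact h6 b hb)
    rw [tb_permP h1] at this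
    exact this

theorem length_dbl (as : List (ℕ × ℕ)) : (dbl as).length = 2 ^ as.length := by
  induction as with
  | nil => rfl
  | cons a as ih => simp [dbl, ih, pow_succ]; ring

theorem card_pcGrp {as : List (ℕ × ℕ)} (h : pcOK as = true) : Nat.card (pcGrp as) = 2 ^ as.length := by
  rw [(pcOK_spec h).card, length_dbl]

theorem permP_mem_pcGrp {as : List (ℕ × ℕ)} {a : ℕ × ℕ} (ha : a ∈ as) : permP a.1 ∈ pcGrp as :=
  Subgroup.subset_closure ⟨a, ha, rfl⟩

end Cfsg.Agent.Lib.Helper28
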