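/-
Checks on an enumerated 2-subgroup: centre, fusion chain, normalizer.
-/
import Cfsg.Agent.Lib.Helper28.Packed
set_option autoImplicit false
open Cfsg
open scoped Pointwise
namespace Cfsg.Agent.Lib.Helper28

/-! ### centre -/

def centOK (gens : List (ℕ × ℕ)) (z : ℕ) (L : List ℕ) : Bool :=
  L.all (fun t => Nat.beq t idP || Nat.beq t z || gens.any (fun a => !(Nat.beq (mulP a.1 t) (mulP t a.1))))

theorem centOK_spec {as : List (ℕ × ℕ)} {z : ℕ} (hpc : pcOK as = true) (hz : validP z = true)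
    (h : centOK as z (dbl as) = true) :
    ∀ x ∈ pcGrp as, (∀ y ∈ pcGrp as, x * y = y * x) → x = 1 ∨ x = permP z := by
  intro x hx hc
  have hE := pcOK_spec hpc
  simp only [centOK, List.all_eq_true, Bool.or_eq_true, Nat.beq_eq, List.any_eq_true,
    Bool.not_eq_true'] at h
  rcases h _ ((hE.mem_iff x).1 hx) with (h | h) | ⟨a, ha, h⟩
  · left; apply tb_injective; rw [h, tb_one]
  · right; apply tb_injective; rw [h, tb_permP hz]
  · exfalso
    have h1 := hc _ (permP_mem_pcGrp ha)
    have h2 := congrArg tb h1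
    rw [tb_mul, tb_mul, tb_permP (pcOK_valid hpc a ha)] at h2
    rw [h2] at h
    simp at h

/-! ### fusion chain -/

def genOK (inK : ℕ → Bool) (z : ℕ) : List (ℕ × ℕ) → List (ℕ × ℕ) → Bool
  | [a], [] => Nat.beq a.1 z
  | a :: as, c :: cs => inK c.1 && validP c.1 && memN c.2 (dbl as) &&
      Nat.beq (mulP c.1 c.2) (mulP a.1 c.1) && genOK inK z as cs
  | _, _ => false

theorem genOK_spec {K S0 : Subgroup (Equiv.Perm GolayPt)} {inK : ℕ → Bool}
    (hK : ∀ t, inK t = true → permP t ∈ K) {z : ℕ} (T : Subgroup (Equiv.Perm GolayPt))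
    (hzT : permP z ∈ T) (hcl : ∀ x ∈ T, ∀ g ∈ K, g * x * g⁻¹ ∈ S0 → g * x * g⁻¹ ∈ T)
    (as : List (ℕ × ℕ)) (cs : List (ℕ × ℕ)) (hpc : pcOK as = true) (hS : pcGrp as ≤ S0)
    (h : genOK inK z as cs = true) : pcGrp as ≤ T := by
  induction as generalizing cs with
  | nil => simp [genOK] at h
  | cons a as ih =>
    have hv := pcOK_valid hpc
    have hpc' : pcOK as = true := by
      simp only [pcOK, Bool.and_eq_true] at hpc
      exact hpc.2
    have hle : pcGrp as ≤ pcGrp (a :: as) :=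
      Subgroup.closure_mono (fun g ⟨b, hb, e⟩ => ⟨b, List.mem_cons_of_mem _ hb, e⟩)
    cases cs with
    | nil =>
      cases as with
      | nil =>
        simp only [genOK, Nat.beq_eq] at h
        unfold pcGrp
        rw [Subgroup.closure_le]
        rintro _ ⟨b, hb, rfl⟩
        rw [List.mem_singleton.1 hb, h]
        exact hzT
      | cons b bs => simp [genOK] at h
    | cons c cs =>
      have h' : (inK c.1 && validP c.1 && memN c.2 (dbl as) &&
        Nat.beq (mulP c.1 c.2) (mulP a.1 c.1) && genOK inK z as cs) = true := by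
        cases as <;> simp [genOK] at h <;> simp [h]
      simp only [Bool.and_eq_true, memN_iff, Nat.beq_eq] at h'
      obtain ⟨⟨⟨⟨h1, h2⟩, h3⟩, h4⟩, h5⟩ := h'
      have hT := ih cs hpc' (hle.trans hS) h5
      have hE := pcOK_spec hpc'
      obtain ⟨x, hx⟩ := hE.rep _ h3
      have hxH : x ∈ pcGrp as := (hE.mem_iff x).2 (hx ▸ h3)
      have he : permP c.1 * x = permP a.1 * permP c.1 := by
        apply tb_injective
        rw [tb_mul, tb_mul, tb_permP h2, hx, tb_permP (hv a (List.mem_cons_self)), h4]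
      have he' : permP c.1 * x * (permP c.1)⁻¹ = permP a.1 := by rw [he]; group
      have haT : permP a.1 ∈ T := by
        rw [← he']
        apply hcl x (hT hxH) _ (hK _ h1)
        rw [he']
        exact hS (permP_mem_pcGrp (List.mem_cons_self))
      unfold pcGrp
      rw [Subgroup.closure_le]
      rintro _ ⟨b, hb, rfl⟩
      rcases List.mem_cons.1 hb with rfl | hb
      · exact haT
      · exact hT (permP_mem_pcGrp hb)

/-! ### orbits of point stabilizers and the normalizer -/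

def fixL (F : List ℕ) (t : ℕ) : Bool := F.all (fun f => Nat.beq (ap t f) f)

def orbM (L : List ℕ) (F : List ℕ) (x : ℕ) : ℕ :=
  L.foldl (fun acc t => cond (fixL F t) (Nat.lor acc (Nat.shiftLeft 1 (ap t x))) acc) 0

theorem testBit_foldl_orb (L : List ℕ) (F : List ℕ) (x y acc : ℕ) :
    (L.foldl (fun acc t => cond (fixL F t) (Nat.lor acc (Nat.shiftLeft 1 (ap t x))) acc) acc).testBit y = true ↔
      acc.testBit y = true ∨ ∃ t ∈ L, fixL F t = true ∧ ap t x = y := by
  induction L generalizing acc with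
  | nil => simp
  | cons t L ih =>
    rw [List.foldl_cons, ih]
    cases hf : fixL F t
    · simp [hf]
    · simp only [cond_true, List.mem_cons, exists_eq_or_imp, hf, true_and]
      have : (Nat.lor acc (Nat.shiftLeft 1 (ap t x))).testBit y = true ↔ acc.testBit y = true ∨ ap t x = y := by
        show (acc ||| (1 <<< ap t x)).testBit y = true ↔ _
        rw [Nat.testBit_or, Bool.or_eq_true, Nat.one_shiftLeft, Nat.testBit_two_pow]
        simp
      rw [this, or_assoc]

theorem testBit_orbM (L : List ℕ) (F : List ℕ) (x y : ℕ) :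
    (orbM L F x).testBit y = true ↔ ∃ t ∈ L, fixL F t = true ∧ ap t x = y := by
  unfold orbM
  rw [testBit_foldl_orb]
  simp

theorem fixL_tb (F : List ℕ) (hF : ∀ f ∈ F, f < 24) (s : Equiv.Perm GolayPt) :
    fixL F (tb s) = true ↔ ∀ f ∈ F, s (pt f) = pt f := by
  simp only [fixL, List.all_eq_true, Nat.beq_eq]
  constructor
  · intro h f hf
    have := h f hf
    rw [ap_tb' _ (hF f hf)] at this
    rw [← pt_idx (s (pt f)), this]
  · intro h f hf
    rw [ap_tb' _ (hF f hf), h f hf, idx_pt _ (hF f hf)]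

theorem mem_unmask_orbM {H : Subgroup (Equiv.Perm GolayPt)} {L : List ℕ} (hE : Enum H L) (F : List ℕ)
    (hF : ∀ f ∈ F, f < 24) (p q : GolayPt) :
    q ∈ unmask (orbM L F (idx p)) ↔ ∃ s ∈ H, (∀ f ∈ F, s (pt f) = pt f) ∧ s p = q := by
  rw [mem_unmask, testBit_orbM]
  constructor
  · rintro ⟨t, ht, h1, h2⟩
    obtain ⟨s, rfl⟩ := hE.rep t ht
    refine ⟨s, (hE.mem_iff s).2 ht, (fixL_tb F hF s).1 h1, ?_⟩
    rw [ap_tb] at h2
    exact idx_injective h2
  · rintro ⟨s, hs, h1, rfl⟩
    exact ⟨tb s, (hE.mem_iff s).1 hs, (fixL_tb F hF s).2 h1, ap_tb s p⟩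

theorem orbM_lt {H : Subgroup (Equiv.Perm GolayPt)} {L : List ℕ} (hE : Enum H L) (F : List ℕ) (p : GolayPt) :
    orbM L F (idx p) < 2 ^ 24 := by
  apply Nat.lt_pow_two_of_testBit
  intro i hi
  by_contra hc
  rw [Bool.not_eq_false, testBit_orbM] at hc
  obtain ⟨t, ht, -, h2⟩ := hc
  obtain ⟨s, rfl⟩ := hE.rep t ht
  rw [ap_tb] at h2
  have := idx_lt (s p)
  omega

/-- an element normalizing `H` and fixing the points of `F` maps orbits of the stabilizer of `F` to orbits -/
theorem orbM_transport {H : Subgroup (Equiv.Perm GolayPt)} {L : List ℕ} (hE : Enum H L) (F : List ℕ)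
    (hF : ∀ f ∈ F, f < 24) (g : Equiv.Perm GolayPt) (h1 : ∀ s ∈ H, g * s * g⁻¹ ∈ H)
    (h2 : ∀ s ∈ H, g⁻¹ * s * g ∈ H) (hg : ∀ f ∈ F, g (pt f) = pt f) (p : GolayPt) :
    unmask (orbM L F (idx (g p))) = g • unmask (orbM L F (idx p)) := by
  have hg' : ∀ f ∈ F, g⁻¹ (pt f) = pt f := fun f hf => by
    rw [Equiv.Perm.inv_eq_iff_eq, hg f hf]
  ext q
  rw [← Finset.inv_smul_mem_iff, mem_unmask_orbM hE F hF, mem_unmask_orbM hE F hF]
  constructor
  · rintro ⟨s, hs, hf, rfl⟩
    refine ⟨g⁻¹ * s * g, h2 s hs, fun f hf' => ?_, rfl⟩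
    simp only [Equiv.Perm.mul_apply]
    rw [hg f hf', hf f hf', hg' f hf']
  · rintro ⟨s, hs, hf, he⟩
    refine ⟨g * s * g⁻¹, h1 s hs, fun f hf' => ?_, ?_⟩
    · simp only [Equiv.Perm.mul_apply]
      rw [hg' f hf', hf f hf', hg f hf']
    · have e1 : g⁻¹ (g p) = p := by simp
      simp only [Equiv.Perm.mul_apply]
      rw [e1, he]
      simp

theorem orbM_card_transport {H : Subgroup (Equiv.Perm GolayPt)} {L : List ℕ} (hE : Enum H L) (F : List ℕ)
    (hF : ∀ f ∈ F, f < 24) (g : Equiv.Perm GolayPt) (h1 : ∀ s ∈ H, g * s * g⁻¹ ∈ H)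
    (h2 : ∀ s ∈ H, g⁻¹ * s * g ∈ H) (hg : ∀ f ∈ F, g (pt f) = pt f) (p : GolayPt) :
    pcF (orbM L F (idx (g p))) = pcF (orbM L F (idx p)) := by
  rw [pcF_eq (orbM_lt hE F _), pcF_eq (orbM_lt hE F _), ← card_unmask (orbM_lt hE F _),
    ← card_unmask (orbM_lt hE F _), orbM_transport hE F hF g h1 h2 hg, Finset.card_smul_finset]

/-- every element of `K` normalizing `H` and fixing the points of `F` lies in `H` -/
def Good (K H : Subgroup (Equiv.Perm GolayPt)) (F : List ℕ) : Prop :=
  ∀ g ∈ K, (∀ s ∈ H, g * s * g⁻¹ ∈ H) → (∀ s ∈ H, g⁻¹ * s * g ∈ H) → (∀ f ∈ F, g (pt f) = pt f) → g ∈ H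

def stepOK (L : List ℕ) (Inv : List ℕ) (F : List ℕ) (y : ℕ) (F' : List ℕ) : Bool :=
  decide (y < 24) && F.all (fun f => decide (f < 24)) && F'.all (fun f => F.contains f) &&
  (List.range 24).all (fun w => F.contains w || Inv.any (fun M => M.testBit w != M.testBit y) ||
    !(Nat.beq (pcF (orbM L F' w)) (pcF (orbM L F' y))) || (orbM L F y).testBit w)

theorem Good.step {K H : Subgroup (Equiv.Perm GolayPt)} {L : List ℕ} (hE : Enum H L) (hHK : H ≤ K)
    {Inv : List ℕ} (hInv : ∀ M ∈ Inv, ∀ g ∈ K, ∀ p, M.testBit (idx (g p)) = M.testBit (idx p))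
    {F : List ℕ} {y : ℕ} (F' : List ℕ) (hc : stepOK L Inv F y F' = true) (hG : Good K H (y :: F)) :
    Good K H F := by
  intro g hgK h1 h2 hg
  simp only [stepOK, Bool.and_eq_true, decide_eq_true_eq, List.all_eq_true, List.contains_iff_mem,
    List.mem_range, Bool.or_eq_true, List.any_eq_true, bne_iff_ne, ne_eq, Bool.not_eq_true'] at hc
  obtain ⟨⟨⟨hy, hF⟩, hF'⟩, hc⟩ := hc
  have hy' : idx (pt y) = y := idx_pt y hy
  rcases hc (idx (g (pt y))) (idx_lt _) with ((h | ⟨M, hM, h⟩) | h) | h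
  · -- the image is one of the fixed points
    have e1 := hg _ h
    rw [pt_idx] at e1
    have e2 : g (pt y) = pt y := g.injective e1
    apply hG g hgK h1 h2
    intro f hf
    rcases List.mem_cons.1 hf with rfl | hf
    · exact e2
    · exact hg f hf
  · exact absurd (by rw [hInv M hM g hgK, hy']) h
  · exfalso
    have := orbM_card_transport hE F' (fun f hf => hF f (hF' f hf)) g h1 h2 (fun f hf => hg f (hF' f hf)) (pt y)
    rw [hy'] at this
    rw [this] at h
    simp at h
  · have hm : g (pt y) ∈ unmask (orbM L F (idx (pt y))) := by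
      rw [mem_unmask, hy']; exact h
    rw [mem_unmask_orbM hE F hF] at hm
    obtain ⟨s, hs, hsF, hsy⟩ := hm
    have hsF' : ∀ f ∈ F, s⁻¹ (pt f) = pt f := fun f hf => by
      rw [Equiv.Perm.inv_eq_iff_eq, hsF f hf]
    have : s⁻¹ * g ∈ H := by
      apply hG _ (K.mul_mem (K.inv_mem (hHK hs)) hgK)
      · intro t ht
        have := H.mul_mem (H.mul_mem (H.inv_mem hs) (h1 t ht)) hs
        convert this using 1
        group
      · intro t ht
        have := h2 _ (H.mul_mem (H.mul_mem hs ht) (H.inv_mem hs))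
        convert this using 1
        group
      · intro f hf
        rw [Equiv.Perm.mul_apply]
        rcases List.mem_cons.1 hf with rfl | hf
        · rw [← hsy]; simp
        · rw [hg f hf, hsF' f hf]
    have h3 := H.mul_mem hs this
    simpa using h3

end Cfsg.Agent.Lib.Helper28
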