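/-
Assembly: simplicity of the 2-fusion system of a subgroup `K` of `Sym(24)` from a certificate.
-/
import Cfsg.Agent.Lib.Helper28.Packed2
import Cfsg.Agent.Lib.Helper28.FusSimple
set_option autoImplicit false
open Cfsg
open scoped Pointwise
namespace Cfsg.Agent.Lib.Helper28

def inM24P (t : ℕ) : Bool := inM24 (unpk t)

theorem inM24P_spec (t : ℕ) (h : inM24P t = true) : permP t ∈ M24 := permOf_mem_M24 h

theorem pcGrp_le {K : Subgroup (Equiv.Perm GolayPt)} {inK : ℕ → Bool}
    (hK : ∀ t, inK t = true → permP t ∈ K) {as : List (ℕ × ℕ)}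
    (h : as.all (fun a => inK a.1) = true) : pcGrp as ≤ K := by
  unfold pcGrp
  rw [Subgroup.closure_le]
  rintro _ ⟨a, ha, rfl⟩
  exact hK _ (List.all_eq_true.1 h a ha)

theorem fus_simple_pc (K : Subgroup (Equiv.Perm GolayPt)) {inK : ℕ → Bool}
    (hK : ∀ t, inK t = true → permP t ∈ K) (as cs : List (ℕ × ℕ)) (z m : ℕ)
    (hpc : pcOK as = true) (hin : as.all (fun a => inK a.1) = true)
    (hz : (validP z && !(Nat.beq z idP) && memN z (dbl as)) = true)
    (hcent : centOK as z (dbl as) = true) (hgen : genOK inK z as cs = true)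
    (hGood : Good K (pcGrp as) []) (hcard : Nat.card K = 2 ^ as.length * m) (hm : ¬ 2 ∣ m)
    (S : Sylow 2 K) : (groupFusionSystem (S : Subgroup K)).IsSimple 2 := by
  simp only [Bool.and_eq_true, Bool.not_eq_true', memN_iff] at hz
  obtain ⟨⟨hz1, hz2⟩, hz3⟩ := hz
  have hE := pcOK_spec hpc
  apply fus_simple_sub K (pcGrp as) 2 (permP z) as.length m (pcGrp_le hK hin) (card_pcGrp hpc) hcard hm
  · intro h
    have := congrArg tb h
    rw [tb_permP hz1, tb_one] at this
    rw [this] at hz2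
    simp at hz2
  · rw [hE.mem_iff, tb_permP hz1]; exact hz3
  · intro g hg h1 h2
    exact hGood g hg h1 h2 (by simp)
  · exact centOK_spec hpc hz1 hcent
  · intro T hzT hcl
    exact genOK_spec hK T hzT hcl as cs hpc le_rfl hgen

/-- the normalizer statement for Sylow subgroups -/
theorem sylow_self_normalizing (K : Subgroup (Equiv.Perm GolayPt)) {inK : ℕ → Bool}
    (hK : ∀ t, inK t = true → permP t ∈ K) (as : List (ℕ × ℕ)) (m : ℕ)
    (hpc : pcOK as = true) (hin : as.all (fun a => inK a.1) = true)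
    (hGood : Good K (pcGrp as) []) (hcard : Nat.card K = 2 ^ as.length * m) (hm : ¬ 2 ∣ m)
    (S : Sylow 2 K) : Subgroup.normalizer ((S : Subgroup K) : Set K) = (S : Subgroup K) := by
  have hle := pcGrp_le hK hin
  have hm0 : m ≠ 0 := by rintro rfl; exact hm (dvd_zero 2)
  have hfac : (Nat.card K).factorization 2 = as.length := by
    rw [hcard, Nat.factorization_mul (pow_ne_zero _ (by norm_num)) hm0,
      Nat.Prime.factorization_pow Nat.prime_two]
    simp [Nat.factorization_eq_zero_of_not_dvd hm]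
  have hc : Nat.card ((pcGrp as).subgroupOf K) = 2 ^ (Nat.card K).factorization 2 := by
    rw [hfac, ← card_pcGrp hpc]
    exact Nat.card_congr (Subgroup.subgroupOfEquivOfLe hle).toEquiv
  let P : Sylow 2 K := Sylow.ofCard ((pcGrp as).subgroupOf K) hc
  have hP : ∀ x : K, x ∈ P ↔ (x : Equiv.Perm GolayPt) ∈ pcGrp as := fun x => Iff.rfl
  obtain ⟨c, rfl⟩ := MulAction.exists_smul_eq K P S
  have hmem : ∀ x : K, x ∈ ((c • P : Sylow 2 K) : Subgroup K) ↔ c⁻¹ * x * c ∈ P := by
    intro x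
    rw [Sylow.coe_subgroup_smul, Subgroup.mem_pointwise_smul_iff_inv_smul_mem]
    simp [MulAut.smul_def]
    rfl
  apply le_antisymm _ Subgroup.le_normalizer
  intro g hg
  rw [Subgroup.mem_normalizer_iff] at hg
  rw [hmem, hP]
  have key : ∀ s : K, s ∈ P ↔ (c⁻¹ * g * c) * s * (c⁻¹ * g * c)⁻¹ ∈ P := by
    intro s
    have h1 := hg (c * s * c⁻¹)
    rw [hmem, hmem] at h1
    have e1 : c⁻¹ * (c * s * c⁻¹) * c = s := by group
    have e2 : c⁻¹ * (g * (c * s * c⁻¹) * g⁻¹) * c = c⁻¹ * g * c * s * (c⁻¹ * g * c)⁻¹ := by group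
    rw [e1, e2] at h1
    exact h1
  set g' : K := c⁻¹ * g * c with hg'
  apply hGood (g' : Equiv.Perm GolayPt) g'.2
  · intro s hs
    exact (key ⟨s, hle hs⟩).1 hs
  · intro s hs
    have hk : (g' : Equiv.Perm GolayPt)⁻¹ * s * g' ∈ K := K.mul_mem (K.mul_mem (K.inv_mem g'.2) (hle hs)) g'.2
    apply (key ⟨(g' : Equiv.Perm GolayPt)⁻¹ * s * g', hk⟩).2
    rw [hP]
    have : ((g' * ⟨(g' : Equiv.Perm GolayPt)⁻¹ * s * g', hk⟩ * g'⁻¹ : K) : Equiv.Perm GolayPt) = s := by
      simp [mul_assoc]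
    rw [this]; exact hs
  · simp

end Cfsg.Agent.Lib.Helper28
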