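/-
Orders of the explicit Mathieu groups M23, M22, M12, M11 and membership tests for packed tables.
-/
import Cfsg.Agent.Lib.Helper28.Packed3
import Cfsg.Agent.Lib.Helper28.GolayHexad
set_option autoImplicit false
open Cfsg
open scoped Pointwise
namespace Cfsg.Agent.Lib.Helper28

theorem mem_M23 {x : Equiv.Perm GolayPt} : x ∈ Spor.M23 ↔ x ∈ M24 ∧ x none = none := by
  simp [Spor.M23, Subgroup.mem_inf, MulAction.mem_stabilizer_iff]

theorem mem_M22 {x : Equiv.Perm GolayPt} : x ∈ Spor.M22 ↔ x ∈ M24 ∧ x none = none ∧ x (some 0) = some 0 := by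
  simp [Spor.M22, mem_M23, Subgroup.mem_inf, MulAction.mem_stabilizer_iff, and_assoc]

theorem card_map_subtype (H : Subgroup M24) : Nat.card (H.map M24.subtype) = Nat.card H :=
  Nat.card_congr (Subgroup.equivMapOfInjective H M24.subtype Subtype.coe_injective).toEquiv.symm

theorem card_sporM23 : Nat.card Spor.M23 = 10200960 := by
  have : Spor.M23 = (MulAction.stabilizer M24 (none : GolayPt)).map M24.subtype := by
    ext g
    rw [mem_M23, Subgroup.mem_map]
    constructor
    · rintro ⟨h1, h2⟩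
      exact ⟨⟨g, h1⟩, h2, rfl⟩
    · rintro ⟨x, hx, rfl⟩
      exact ⟨x.2, hx⟩
  rw [this, card_map_subtype, card_stab_pt]

theorem card_sporM22 : Nat.card Spor.M22 = 443520 := by
  have : Spor.M22 = (MulAction.stabilizer M24 (none : GolayPt) ⊓
      MulAction.stabilizer M24 (some 0 : GolayPt)).map M24.subtype := by
    ext g
    rw [mem_M22, Subgroup.mem_map]
    constructor
    · rintro ⟨h1, h2, h3⟩
      exact ⟨⟨g, h1⟩, ⟨h2, h3⟩, rfl⟩
    · rintro ⟨x, hx, rfl⟩
      exact ⟨x.2, hx.1, hx.2⟩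
  rw [this, card_map_subtype, card_stab_pt2 (by decide)]

theorem card_sporM12 : Nat.card Spor.M12 = 95040 := by
  have : Spor.M12 = (MulAction.stabilizer M24 Spor.squareDodecad).map M24.subtype := by
    ext g
    rw [mem_M12, Subgroup.mem_map]
    constructor
    · rintro ⟨h1, h2⟩
      exact ⟨⟨g, h1⟩, h2, rfl⟩
    · rintro ⟨x, hx, rfl⟩
      exact ⟨x.2, hx⟩
  rw [this, card_map_subtype, card_stab_dodecad squareDodecad_mem]

theorem card_sporM11 : Nat.card Spor.M11 = 7920 := by
  have : Spor.M11 = (MulAction.stabilizer M24 Spor.squareDodecad ⊓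
      MulAction.stabilizer M24 (some 0 : GolayPt)).map M24.subtype := by
    ext g
    rw [mem_M11, Subgroup.mem_map]
    constructor
    · rintro ⟨h1, h2, h3⟩
      exact ⟨⟨g, h1⟩, ⟨h2, h3⟩, rfl⟩
    · rintro ⟨x, hx, rfl⟩
      exact ⟨x.2, hx.1, hx.2⟩
  rw [this, card_map_subtype, card_stab_dodecad_pt squareDodecad_mem (by decide +kernel)]

theorem permP_apply_pt {t : ℕ} (h : inM24P t = true) {x : ℕ} (hx : x < 24) : permP t (pt x) = pt (ap t x) := by
  have hv : validTbl (unpk t) = true := by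
    simp only [inM24P, inM24, Bool.and_eq_true] at h
    exact h.1
  rw [permP, permOf_apply hv, idx_pt x hx]
  simp [unpk, List.getD_eq_getElem?_getD, hx]

def inM23P (t : ℕ) : Bool := inM24P t && Nat.beq (ap t 23) 23
def inM22P (t : ℕ) : Bool := inM24P t && Nat.beq (ap t 23) 23 && Nat.beq (ap t 0) 0
def inM12P (t : ℕ) : Bool := inM24P t && Nat.beq (permMask (unpk t) 340831) 340831
def inM11P (t : ℕ) : Bool := inM24P t && Nat.beq (permMask (unpk t) 340831) 340831 && Nat.beq (ap t 0) 0

theorem inM23P_spec (t : ℕ) (h : inM23P t = true) : permP t ∈ Spor.M23 := by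
  simp only [inM23P, Bool.and_eq_true, Nat.beq_eq] at h
  rw [mem_M23]
  refine ⟨inM24P_spec t h.1, ?_⟩
  have := permP_apply_pt h.1 (x := 23) (by norm_num)
  rw [h.2] at this
  exact this

theorem inM22P_spec (t : ℕ) (h : inM22P t = true) : permP t ∈ Spor.M22 := by
  simp only [inM22P, Bool.and_eq_true, Nat.beq_eq] at h
  rw [mem_M22]
  refine ⟨inM24P_spec t h.1.1, ?_, ?_⟩
  · have := permP_apply_pt h.1.1 (x := 23) (by norm_num)
    rw [h.1.2] at this
    exact this
  · have := permP_apply_pt h.1.1 (x := 0) (by norm_num)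
    rw [h.2] at this
    exact this

theorem smul_sq_of_mask {t : ℕ} (h : inM24P t = true) (h2 : permMask (unpk t) 340831 = 340831) :
    permP t • Spor.squareDodecad = Spor.squareDodecad := by
  have hv : validTbl (unpk t) = true := by
    simp only [inM24P, inM24, Bool.and_eq_true] at h
    exact h.1
  rw [squareDodecad_eq]
  apply mask_injective
  rw [mask_smul, sqDod, mask_unmask _ (by norm_num), permP, pm_permOf hv, h2]

theorem inM12P_spec (t : ℕ) (h : inM12P t = true) : permP t ∈ Spor.M12 := by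
  simp only [inM12P, Bool.and_eq_true, Nat.beq_eq] at h
  rw [mem_M12]
  exact ⟨inM24P_spec t h.1, smul_sq_of_mask h.1 h.2⟩

theorem inM11P_spec (t : ℕ) (h : inM11P t = true) : permP t ∈ Spor.M11 := by
  simp only [inM11P, Bool.and_eq_true, Nat.beq_eq] at h
  rw [mem_M11]
  refine ⟨inM24P_spec t h.1.1, smul_sq_of_mask h.1.1 h.1.2, ?_⟩
  have := permP_apply_pt h.1.1 (x := 0) (by norm_num)
  rw [h.2] at this
  exact this

/-- elements preserving the dodecad of squares preserve its mask bitwise -/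
theorem sq_inv {g : Equiv.Perm GolayPt} (hg : g • Spor.squareDodecad = Spor.squareDodecad) (p : GolayPt) :
    (340831 : ℕ).testBit (idx (g p)) = (340831 : ℕ).testBit (idx p) := by
  rw [squareDodecad_eq, sqDod] at hg
  have h1 : ∀ q, q ∈ unmask 340831 ↔ (340831 : ℕ).testBit (idx q) = true := fun q => mem_unmask _ _
  have h2 : g p ∈ unmask 340831 ↔ p ∈ unmask 340831 := by
    conv_lhs => rw [← hg]
    exact Finset.smul_mem_smul_finset_iff g
  rw [h1, h1] at h2
  exact Bool.eq_iff_iff.2 h2

theorem Good.of_fixed {K H : Subgroup (Equiv.Perm GolayPt)} {F : List ℕ}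
    (hF : ∀ g ∈ K, ∀ f ∈ F, g (pt f) = pt f) (h : Good K H F) : Good K H [] :=
  fun g hg h1 h2 _ => h g hg h1 h2 (hF g hg)

end Cfsg.Agent.Lib.Helper28
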