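/-
Fixed point masks of packed tables; elements of M24 with many fixed points; permutations normalizing a
subgroup of M24 that contains enough involutions lie in M24.
-/
import Cfsg.Agent.Lib.Helper28.AutPerm2
import Cfsg.Agent.Lib.Helper28.SporCard
set_option autoImplicit false
open Cfsg
open scoped Pointwise
namespace Cfsg.Agent.Lib.Helper28

/-- mask of a boolean function -/
def maskF (f : ℕ → Bool) : ℕ → ℕ
  | 0 => 0
  | k + 1 => Nat.lor (maskF f k) (cond (f k) (Nat.shiftLeft 1 k) 0)

theorem testBit_maskF (f : ℕ → Bool) (n i : ℕ) : (maskF f n).testBit i = (decide (i < n) && f i) := by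
  induction n with
  | zero => simp [maskF]
  | succ k ih =>
    show ((maskF f k) ||| (cond (f k) (1 <<< k) 0)).testBit i = _
    rw [Nat.testBit_or, ih]
    by_cases h : i = k
    · subst h
      cases hf : f i <;> simp [Nat.one_shiftLeft]
    · have h1 : (cond (f k) (1 <<< k) 0).testBit i = false := by
        cases f k
        · simp
        · simp only [cond_true, Nat.one_shiftLeft, Nat.testBit_two_pow]
          simp; omega
      rw [h1, Bool.or_false]
      have : (i < k) ↔ (i < k + 1) := by omega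
      simp [this]

theorem maskF_lt (f : ℕ → Bool) (n : ℕ) : maskF f n < 2 ^ n := by
  apply Nat.lt_pow_two_of_testBit
  intro i hi
  rw [testBit_maskF]
  have : ¬ i < n := by omega
  simp [this]

/-- mask of the fixed points of a packed table -/
def fixMaskP (t : ℕ) : ℕ := maskF (fun i => Nat.beq (ap t i) i) 24

theorem fixMaskP_lt (t : ℕ) : fixMaskP t < 2 ^ 24 := maskF_lt _ _

theorem fixPts_eq (g : Equiv.Perm GolayPt) : fixPts g = unmask (fixMaskP (tb g)) := by
  ext p
  rw [mem_fixPts, mem_unmask, fixMaskP, testBit_maskF, ap_tb]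
  simp only [idx_lt, decide_true, Bool.true_and, Nat.beq_eq]
  exact ⟨fun h => by rw [h], fun h => idx_injective h⟩

theorem card_fixPts (g : Equiv.Perm GolayPt) : (fixPts g).card = pcF (fixMaskP (tb g)) := by
  rw [fixPts_eq, card_unmask (fixMaskP_lt _), pcF_eq (fixMaskP_lt _)]

/-- pack a table given as a list -/
def packL (A : List ℕ) : ℕ := packF (fun i => A.getD i 0) 24

theorem tb_permOf {A : List ℕ} (hv : validTbl A = true) : tb (permOf A) = packL A := by
  unfold tb packL
  apply packF_congr
  intro k hk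
  rw [idx_permOf hv, idx_pt k hk]

/-- the 48 elements fixing the five standard points -/
def fix5L : List ℕ :=
  [5, 14, 17].flatMap (fun y => tg7.map (fun z => mulP (packL (trans6.getD y [])) (packL (trans7.getD z []))))

theorem tb_mem_fix5L {g : Equiv.Perm GolayPt} (hg : g ∈ fixG [23, 0, 1, 2, 3]) : tb g ∈ fix5L := by
  obtain ⟨y, hy, z, hz, rfl⟩ := fixG5_enum hg
  obtain ⟨h0, -⟩ := checkLevel_spec' level6 (by norm_num) (by simp) _ hy
  obtain ⟨k0, -⟩ := checkLevel_spec' level7 (by norm_num) (by simp) _ hz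
  rw [tb_mul, tb_permOf h0, tb_permOf k0]
  exact List.mem_flatMap.2 ⟨y, hy, List.mem_map.2 ⟨z, hz, rfl⟩⟩

theorem fix5L_check : ∀ t ∈ fix5L, (Nat.beq t idP || decide (pcF (fixMaskP t) ≤ 6) ||
    Nat.beq (fixMaskP t) 8536111) = true := by decide +kernel

/-- a nonidentity element of M24 has at most eight fixed points; if it has more than six then they form
an octad -/
theorem fixPts_cases {g : Equiv.Perm GolayPt} (hg : g ∈ M24) :
    g = 1 ∨ (fixPts g).card ≤ 6 ∨ fixPts g ∈ octads := by
  by_cases h5 : 5 ≤ (fixPts g).card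
  · obtain ⟨k, hk, hkg⟩ := conj_into_fixG5 hg h5
    have hc := fix5L_check _ (tb_mem_fix5L hkg)
    simp only [Bool.or_eq_true, Nat.beq_eq, decide_eq_true_eq] at hc
    rcases hc with (hc | hc) | hc
    · left
      rw [← tb_one] at hc
      have := tb_injective hc
      have e : g = k⁻¹ * (k * g * k⁻¹) * k := by group
      rw [e, this]; group
    · right; left
      rw [← card_fixPts, fixPts_conj, Finset.card_smul_finset] at hc
      exact hc
    · right; right
      have h1 : fixPts (k * g * k⁻¹) = stdOctad := by rw [fixPts_eq, hc]; rfl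
      rw [fixPts_conj] at h1
      have h2 : fixPts g = k⁻¹ • stdOctad := by rw [← h1, inv_smul_smul]
      rw [h2]
      exact smul_mem_octads (M24.inv_mem hk) stdOctad_mem
  · right; left; omega

theorem fixPts_mem_octads {g : Equiv.Perm GolayPt} (hg : g ∈ M24) (h8 : (fixPts g).card = 8) :
    fixPts g ∈ octads := by
  rcases fixPts_cases hg with h | h | h
  · subst h
    have : (fixPts 1).card = 24 := by
      have : fixPts 1 = Finset.univ := by ext p; simp [mem_fixPts]
      rw [this]; rfl
    omega
  · omega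
  · exact h

theorem eq_one_of_nine_fixed {g : Equiv.Perm GolayPt} (hg : g ∈ M24) (h9 : 9 ≤ (fixPts g).card) : g = 1 := by
  rcases fixPts_cases hg with h | h | h
  · exact h
  · omega
  · have := ((mem_octads_iff _).1 h).2
    omega

/-- a permutation conjugating enough elements with eight fixed points into M24 lies in M24 -/
theorem mem_M24_of_conj (π : Equiv.Perm GolayPt) (ts js : List ℕ)
    (hts : ∀ t ∈ ts, validP t = true ∧ pcF (fixMaskP t) = 8 ∧ π * permP t * π⁻¹ ∈ M24)
    (hjs : basis = js.map (encAux (ts.map fixMaskP))) : π ∈ M24 := by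
  have h1 : ∀ b ∈ ts.map fixMaskP, isCode (pm π b) = true := by
    intro b hb
    obtain ⟨t, ht, rfl⟩ := List.mem_map.1 hb
    obtain ⟨hv, h8, hm⟩ := hts t ht
    have hc : (fixPts (π * permP t * π⁻¹)).card = 8 := by
      rw [fixPts_conj, Finset.card_smul_finset, card_fixPts, tb_permP hv, h8]
    have ho := fixPts_mem_octads hm hc
    rw [fixPts_conj, fixPts_eq, tb_permP hv, mem_octads_iff, mask_smul, mask_unmask _ (fixMaskP_lt _)] at ho
    exact ho.1
  apply mem_M24_of_basis
  intro b hb
  rw [hjs] at hb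
  obtain ⟨j, -, rfl⟩ := List.mem_map.1 hb
  exact isCode_pm_encAux π _ h1 j

theorem mem_M24_of_normalizes {K : Subgroup (Equiv.Perm GolayPt)} (hK24 : K ≤ M24) {inK : ℕ → Bool}
    (hK : ∀ t, inK t = true → permP t ∈ K) (π : Equiv.Perm GolayPt) (hπ : ∀ g ∈ K, π * g * π⁻¹ ∈ K)
    (ts js : List ℕ)
    (hchk : ts.all (fun t => validP t && inK t && Nat.beq (pcF (fixMaskP t)) 8) = true)
    (hjs : basis = js.map (encAux (ts.map fixMaskP))) : π ∈ M24 := by
  apply mem_M24_of_conj π ts js _ hjs
  intro t ht
  have := List.all_eq_true.1 hchk t ht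
  simp only [Bool.and_eq_true, Nat.beq_eq] at this
  exact ⟨this.1.1, this.2, hK24 (hπ _ (hK t this.1.2))⟩

theorem card_eq_of_map {A : Subgroup (Equiv.Perm GolayPt)} {H : Subgroup M24}
    (h : ∀ g, g ∈ A ↔ ∃ hg : g ∈ M24, (⟨g, hg⟩ : M24) ∈ H) : Nat.card A = Nat.card H := by
  have : A = H.map M24.subtype := by
    ext g
    rw [h, Subgroup.mem_map]
    constructor
    · rintro ⟨hg, hh⟩; exact ⟨⟨g, hg⟩, hh, rfl⟩
    · rintro ⟨x, hx, rfl⟩; exact ⟨x.2, hx⟩
  rw [this, card_map_subtype]

end Cfsg.Agent.Lib.Helper28
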