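/-
2-elements are conjugate into an enumerated Sylow 2-subgroup; groups of order 40.
-/
import Cfsg.Agent.Lib.Helper28.AutPerm3
import Cfsg.Agent.Lib.Helper28.Packed3
set_option autoImplicit false
open Cfsg
open scoped Pointwise
namespace Cfsg.Agent.Lib.Helper28

/-- a 2-element of `K` is conjugate into the enumerated Sylow 2-subgroup -/
theorem two_elt_conj_mem (K : Subgroup (Equiv.Perm GolayPt)) {inK : ℕ → Bool}
    (hK : ∀ t, inK t = true → permP t ∈ K) (as : List (ℕ × ℕ)) (m : ℕ)
    (hpc : pcOK as = true) (hin : as.all (fun a => inK a.1) = true)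
    (hcard : Nat.card K = 2 ^ as.length * m) (hm : ¬ 2 ∣ m)
    {t : Equiv.Perm GolayPt} (ht : t ∈ K) {k : ℕ} (ho : t ^ 2 ^ k = 1) :
    ∃ c ∈ K, tb (c * t * c⁻¹) ∈ dbl as := by
  have hle := pcGrp_le hK hin
  have hm0 : m ≠ 0 := by rintro rfl; exact hm (dvd_zero 2)
  have hfac : (Nat.card K).factorization 2 = as.length := by
    rw [hcard, Nat.factorization_mul (pow_ne_zero _ (by norm_num)) hm0,
      Nat.Prime.factorization_pow Nat.prime_two]
    simp [Nat.factorization_eq_zero_of_not_dvd hm]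
  have hc : Nat.card ((pcGrp as).subgroupOf K) = 2 ^ (Nat.card K).factorization 2 := by
    rw [hfac, ← card_pcGrp hpc]
    exact Nat.card_congr (Subgroup.subgroupOfEquivOfLe hle).toEquiv
  let P : Sylow 2 K := Sylow.ofCard ((pcGrp as).subgroupOf K) hc
  have hP : ∀ x : K, x ∈ P ↔ (x : Equiv.Perm GolayPt) ∈ pcGrp as := fun x => Iff.rfl
  have hpg : IsPGroup 2 (Subgroup.zpowers (⟨t, ht⟩ : K)) := by
    rintro ⟨x, hx⟩
    obtain ⟨j, rfl⟩ := Subgroup.mem_zpowers_iff.1 hx
    refine ⟨k, ?_⟩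
    ext1
    show ((⟨t, ht⟩ : K) ^ j) ^ 2 ^ k = 1
    rw [← zpow_natCast, ← zpow_mul, mul_comm, zpow_mul, zpow_natCast]
    have : (⟨t, ht⟩ : K) ^ 2 ^ k = 1 := by ext1; exact ho
    rw [this, one_zpow]
  obtain ⟨Q, hQ⟩ := hpg.exists_le_sylow
  obtain ⟨c, rfl⟩ := MulAction.exists_smul_eq K P Q
  have hmem : ∀ x : K, x ∈ ((c • P : Sylow 2 K) : Subgroup K) ↔ c⁻¹ * x * c ∈ P := by
    intro x
    rw [Sylow.coe_subgroup_smul, Subgroup.mem_pointwise_smul_iff_inv_smul_mem]
    simp [MulAut.smul_def]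
    rfl
  have h1 := (hmem _).1 (hQ (Subgroup.mem_zpowers (⟨t, ht⟩ : K)))
  rw [hP] at h1
  refine ⟨(c⁻¹ : K), (c⁻¹ : K).2, ?_⟩
  rw [← (pcOK_spec hpc).mem_iff]
  simpa using h1

/-- a group of order 40 has an involution commuting with an element of order 5 -/
theorem exists_comm_of_card_forty {G : Type*} [Group G] (h : Nat.card G = 40) :
    ∃ c t : G, orderOf c = 5 ∧ orderOf t = 2 ∧ t * c = c * t := by
  have : Finite G := Nat.finite_of_card_ne_zero (by rw [h]; norm_num)
  have : Fact (Nat.Prime 5) := ⟨by norm_num⟩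
  have : Fact (Nat.Prime 2) := ⟨by norm_num⟩
  obtain ⟨P⟩ : Nonempty (Sylow 5 G) := inferInstance
  have hfac : (40 : ℕ).factorization 5 = 1 := by
    have : (40 : ℕ) = 5 ^ 1 * 8 := by norm_num
    rw [this, Nat.factorization_mul (by norm_num) (by norm_num), Nat.Prime.factorization_pow (by norm_num)]
    simp [Nat.factorization_eq_zero_of_not_dvd (show ¬ 5 ∣ 8 by norm_num)]
  have hP : Nat.card P = 5 := by
    rw [Sylow.card_eq_multiplicity, h, hfac]; norm_num
  have hidx : (P : Subgroup G).index = 8 := by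
    have := (P : Subgroup G).card_mul_index
    rw [h] at this
    have hP' : Nat.card (P : Subgroup G) = 5 := hP
    rw [hP'] at this
    omega
  have hn : Nat.card (Sylow 5 G) = 1 := by
    have h1 := card_sylow_modEq_one 5 G
    have h2 := P.card_dvd_index
    rw [hidx] at h2
    have h3 : Nat.card (Sylow 5 G) ≤ 8 := Nat.le_of_dvd (by norm_num) h2
    unfold Nat.ModEq at h1
    interval_cases (Nat.card (Sylow 5 G)) <;> omega
  have hnorm : (P : Subgroup G).Normal := by
    rw [← Subgroup.normalizer_eq_top_iff, ← Subgroup.index_eq_one, ← hn]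
    exact (Sylow.card_eq_index_normalizer P).symm
  have hcyc : IsCyclic (P : Subgroup G) := isCyclic_of_prime_card (p := 5) hP
  let f : G →* MulAut (P : Subgroup G) := MulAut.conjNormal
  have hA : Nat.card (MulAut (P : Subgroup G)) = 4 := by
    rw [IsCyclic.card_mulAut]
    have hP' : Nat.card (P : Subgroup G) = 5 := hP
    rw [hP']
    decide
  have hr : Nat.card f.range ∣ 4 := by
    rw [← hA]; exact Subgroup.card_subgroup_dvd_card _
  have hk : Nat.card f.ker * Nat.card f.range = 40 := by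
    rw [← Subgroup.index_ker, Subgroup.card_mul_index, h]
  have h2 : 2 ∣ Nat.card f.ker := by
    have h3 : Nat.card f.range ≤ 4 := Nat.le_of_dvd (by norm_num) hr
    have h4 : 0 < Nat.card f.range := Nat.card_pos
    interval_cases (Nat.card f.range) <;> omega
  obtain ⟨t, ht⟩ := exists_prime_orderOf_dvd_card' 2 h2
  obtain ⟨c, hc⟩ := exists_prime_orderOf_dvd_card' (G := (P : Subgroup G)) 5 (by rw [show Nat.card (P : Subgroup G) = 5 from hP])
  refine ⟨c, t, by rw [Subgroup.orderOf_coe]; exact hc, by rw [Subgroup.orderOf_coe]; exact ht, ?_⟩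
  have h5 : f t = 1 := t.2
  have h6 := congrArg (fun e => ((e c : (P : Subgroup G)) : G)) h5
  simp only [f, MulAut.conjNormal_apply, MulAut.one_apply] at h6
  calc (t : G) * c = (t * c * (t : G)⁻¹) * t := by group
    _ = c * t := by rw [h6]

end Cfsg.Agent.Lib.Helper28
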