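/-
A criterion for `|Out K| = 2` for a permutation group `K`.
-/
import Cfsg.Agent.Lib.Helper28.AutPerm
set_option autoImplicit false
open Cfsg
namespace Cfsg.Agent.Lib.Helper28

theorem mem_inn_iff_of_conj {α : Type*} (K N : Subgroup (Equiv.Perm α)) (hKN : K ≤ N)
    (hcent : ∀ z ∈ N, (∀ g ∈ K, z * g = g * z) → z = 1)
    (φ : MulAut K) (σ : Equiv.Perm α) (hσ : σ ∈ N)
    (h : ∀ g : K, ((φ g : K) : Equiv.Perm α) = σ * g * σ⁻¹) : φ ∈ Cfsg.Inn K ↔ σ ∈ K := by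
  refine ⟨?_, fun hσK => mem_inn_of_conj K φ σ hσK h⟩
  rintro ⟨k, rfl⟩
  have h1 : (k : Equiv.Perm α)⁻¹ * σ = 1 := by
    apply hcent _ (N.mul_mem (N.inv_mem (hKN k.2)) hσ)
    intro g hg
    have h2 := h ⟨g, hg⟩
    have h3 : (k : Equiv.Perm α) * g * (k : Equiv.Perm α)⁻¹ = σ * g * σ⁻¹ := h2
    calc (k : Equiv.Perm α)⁻¹ * σ * g = (k : Equiv.Perm α)⁻¹ * (σ * g * σ⁻¹) * σ := by group
      _ = (k : Equiv.Perm α)⁻¹ * ((k : Equiv.Perm α) * g * (k : Equiv.Perm α)⁻¹) * σ := by rw [h3]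
      _ = g * ((k : Equiv.Perm α)⁻¹ * σ) := by group
  have : σ = k := by
    calc σ = (k : Equiv.Perm α) * ((k : Equiv.Perm α)⁻¹ * σ) := by group
      _ = k := by rw [h1, mul_one]
  rw [this]; exact k.2

theorem card_out_eq_two {α : Type*} (K N : Subgroup (Equiv.Perm α)) (w : Equiv.Perm α)
    (hwN : w ∈ N) (hKN : K ≤ N)
    (hw : ∀ g ∈ K, w * g * w⁻¹ ∈ K) (hw' : ∀ g ∈ K, w⁻¹ * g * w ∈ K) (hwK : w ∉ K)
    (hcent : ∀ z ∈ N, (∀ g ∈ K, z * g = g * z) → z = 1)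
    (hall : ∀ φ : MulAut K, ∃ π ∈ N, (π ∈ K ∨ π * w ∈ K) ∧
      ∀ g : K, ((φ g : K) : Equiv.Perm α) = π * g * π⁻¹) :
    Nat.card (Cfsg.Out K) = 2 := by
  show (Cfsg.Inn K).index = 2
  rw [Subgroup.index_eq_two_iff]
  let θ : MulAut K :=
    { toFun := fun g => ⟨w * g * w⁻¹, hw g g.2⟩
      invFun := fun g => ⟨w⁻¹ * g * w, hw' g g.2⟩
      left_inv := fun g => by ext1; simp only []; group
      right_inv := fun g => by ext1; simp only []; group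
      map_mul' := fun a b => by ext1; simp only [Subgroup.coe_mul]; group }
  refine ⟨θ, fun φ => ?_⟩
  obtain ⟨π, hπN, hπ, hφ⟩ := hall φ
  have h1 := mem_inn_iff_of_conj K N hKN hcent φ π hπN hφ
  have h2 := mem_inn_iff_of_conj K N hKN hcent (φ * θ) (π * w) (N.mul_mem hπN hwN) (by
    intro g
    show ((φ (θ g) : K) : Equiv.Perm α) = _
    rw [hφ]
    show π * (w * g * w⁻¹) * π⁻¹ = _
    group)
  rw [h1, h2]
  rcases hπ with h | h
  · refine Or.inr ⟨h, fun h' => hwK ?_⟩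
    have : w = π⁻¹ * (π * w) := by group
    rw [this]; exact K.mul_mem (K.inv_mem h) h'
  · refine Or.inl ⟨h, fun h' => hwK ?_⟩
    have : w = π⁻¹ * (π * w) := by group
    rw [this]; exact K.mul_mem (K.inv_mem h') h

end Cfsg.Agent.Lib.Helper28
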