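/-
Bitmask model of the 24 points, of subsets of the 24 points and of binary words of length 24.
Bit `i` (0 ≤ i ≤ 22) is the residue `i`, bit 23 is the extra point.
-/
import Mathlib
import Cfsg.Prelude.Def_Sporadic_a

set_option autoImplicit false

namespace Cfsg.Agent.Lib.Helper28

open Cfsg

/-- index of a point -/
def idx : GolayPt → ℕ
  | none => 23
  | some x => ZMod.val x

/-- point with a given index -/
def pt (i : ℕ) : GolayPt := if h : i < 23 then some (show ZMod 23 from (⟨i, h⟩ : Fin 23)) else none

theorem idx_lt : ∀ p : GolayPt, idx p < 24 := by decide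
theorem pt_idx : ∀ p : GolayPt, pt (idx p) = p := by decide
theorem idx_pt : ∀ i, i < 24 → idx (pt i) = i := by decide

theorem idx_injective : Function.Injective idx := fun p q h => by
  rw [← pt_idx p, ← pt_idx q, h]

/-- the mask of a set of points -/
def mask (s : Finset GolayPt) : ℕ := Nat.ofBits (fun i : Fin 24 => decide (pt i ∈ s))

theorem mask_lt (s : Finset GolayPt) : mask s < 2 ^ 24 := Nat.ofBits_lt_two_pow _

theorem testBit_mask (s : Finset GolayPt) (i : ℕ) :
    (mask s).testBit i = (decide (i < 24) && decide (pt i ∈ s)) := by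
  unfold mask
  rw [Nat.testBit_ofBits]
  split_ifs with h <;> simp [h]

theorem testBit_mask_idx (s : Finset GolayPt) (p : GolayPt) :
    (mask s).testBit (idx p) = decide (p ∈ s) := by
  rw [testBit_mask, pt_idx]; simp [idx_lt]

theorem mask_injective : Function.Injective mask := by
  intro s t h
  ext p
  have := congrArg (fun m => Nat.testBit m (idx p)) h
  simpa [testBit_mask_idx] using this

/-- the set of points of a mask -/
def unmask (m : ℕ) : Finset GolayPt := Finset.univ.filter (fun p => m.testBit (idx p) = true)

theorem mem_unmask (m : ℕ) (p : GolayPt) : p ∈ unmask m ↔ m.testBit (idx p) = true := by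
  simp [unmask]

theorem unmask_mask (s : Finset GolayPt) : unmask (mask s) = s := by
  ext p; simp [mem_unmask, testBit_mask_idx]

theorem mask_unmask (m : ℕ) (h : m < 2 ^ 24) : mask (unmask m) = m := by
  apply Nat.eq_of_testBit_eq
  intro i
  rw [testBit_mask]
  by_cases hi : i < 24
  · simp [hi, mem_unmask, idx_pt i hi]
  · have : m.testBit i = false := by
      apply Nat.testBit_lt_two_pow
      exact lt_of_lt_of_le h (Nat.pow_le_pow_right (by norm_num) (by omega))
    simp [hi, this]

theorem mask_inter (s t : Finset GolayPt) : mask (s ∩ t) = mask s &&& mask t := by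
  apply Nat.eq_of_testBit_eq
  intro i
  rw [Nat.testBit_and, testBit_mask, testBit_mask, testBit_mask]
  by_cases hi : i < 24 <;> simp [hi, Bool.decide_and]

theorem mask_union (s t : Finset GolayPt) : mask (s ∪ t) = mask s ||| mask t := by
  apply Nat.eq_of_testBit_eq
  intro i
  rw [Nat.testBit_or, testBit_mask, testBit_mask, testBit_mask]
  by_cases hi : i < 24 <;> simp [hi, Bool.decide_or]

theorem mask_symmDiff (s t : Finset GolayPt) : mask (symmDiff s t) = mask s ^^^ mask t := by
  apply Nat.eq_of_testBit_eq
  intro i
  rw [Nat.testBit_xor, testBit_mask, testBit_mask, testBit_mask]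
  by_cases hi : i < 24
  · by_cases h1 : pt i ∈ s <;> by_cases h2 : pt i ∈ t <;> simp [hi, h1, h2, Finset.mem_symmDiff]
  · simp [hi]

theorem mask_empty : mask ∅ = 0 := by
  apply Nat.eq_of_testBit_eq
  intro i
  rw [testBit_mask]; simp

theorem mask_univ : mask Finset.univ = 2 ^ 24 - 1 := by
  apply Nat.eq_of_testBit_eq
  intro i
  rw [testBit_mask, Nat.testBit_two_pow_sub_one]; simp

/-- population count of the lowest `k` bits -/
def pc : ℕ → ℕ → ℕ
  | 0, _ => 0
  | k + 1, m => m % 2 + pc k (m / 2)

theorem pc_eq_sum (k m : ℕ) : pc k m = ∑ i ∈ Finset.range k, (m.testBit i).toNat := by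
  induction k generalizing m with
  | zero => simp [pc]
  | succ k ih =>
    rw [pc, ih, Finset.sum_range_succ']
    have h0 : (m.testBit 0).toNat = m % 2 := by
      rw [Nat.testBit_zero]
      rcases Nat.mod_two_eq_zero_or_one m with h | h <;> simp [h]
    rw [h0, add_comm]
    congr 1
    apply Finset.sum_congr rfl
    intro i _
    rw [Nat.testBit_succ]

/-- the equivalence of the 24 points with `Fin 24` -/
def ptEquiv : GolayPt ≃ Fin 24 where
  toFun p := ⟨idx p, idx_lt p⟩
  invFun i := pt i
  left_inv p := pt_idx p
  right_inv i := Fin.ext (idx_pt i i.2)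

theorem card_eq_pc (s : Finset GolayPt) : s.card = pc 24 (mask s) := by
  rw [pc_eq_sum, Finset.sum_range, ← Equiv.sum_comp ptEquiv]
  have : ∀ p : GolayPt, ((mask s).testBit (ptEquiv p : ℕ)).toNat = if p ∈ s then 1 else 0 := by
    intro p
    show ((mask s).testBit (idx p)).toNat = _
    rw [testBit_mask_idx]
    by_cases h : p ∈ s <;> simp [h]
  simp_rw [this]
  simp

/-! ### binary words -/

/-- the mask of a binary word -/
def maskV (w : GolayPt → ZMod 2) : ℕ := Nat.ofBits (fun i : Fin 24 => decide (w (pt i) ≠ 0))

theorem mask_support₂ (w : GolayPt → ZMod 2) : mask (support₂ w) = maskV w := by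
  unfold mask maskV support₂
  congr 1
  funext i
  simp

theorem maskV_lt (w : GolayPt → ZMod 2) : maskV w < 2 ^ 24 := Nat.ofBits_lt_two_pow _

theorem testBit_maskV (w : GolayPt → ZMod 2) (i : ℕ) :
    (maskV w).testBit i = (decide (i < 24) && decide (w (pt i) ≠ 0)) := by
  unfold maskV
  rw [Nat.testBit_ofBits]
  split_ifs with h <;> simp [h]

/-- the binary word of a mask -/
def ofMask (m : ℕ) : GolayPt → ZMod 2 := fun p => if m.testBit (idx p) = true then 1 else 0

theorem zmod2_ne_zero : ∀ a : ZMod 2, a ≠ 0 ↔ a = 1 := by decide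

theorem ofMask_maskV (w : GolayPt → ZMod 2) : ofMask (maskV w) = w := by
  funext p
  unfold ofMask
  rw [testBit_maskV, pt_idx]
  by_cases h : w p = 0
  · simp [h]
  · have h1 := (zmod2_ne_zero _).1 h
    simp [h1, idx_lt]

theorem maskV_ofMask (m : ℕ) (h : m < 2 ^ 24) : maskV (ofMask m) = m := by
  apply Nat.eq_of_testBit_eq
  intro i
  rw [testBit_maskV]
  by_cases hi : i < 24
  · unfold ofMask
    rw [idx_pt i hi]
    by_cases hb : m.testBit i = true <;> simp [hi, hb]
  · have : m.testBit i = false := by
      apply Nat.testBit_lt_two_pow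
      exact lt_of_lt_of_le h (Nat.pow_le_pow_right (by norm_num) (by omega))
    simp [hi, this]

theorem zmod2_add_ne : ∀ a b : ZMod 2,
    decide (a + b ≠ 0) = (decide (a ≠ 0) ^^ decide (b ≠ 0)) := by decide

theorem maskV_add (v w : GolayPt → ZMod 2) : maskV (v + w) = maskV v ^^^ maskV w := by
  apply Nat.eq_of_testBit_eq
  intro i
  rw [Nat.testBit_xor, testBit_maskV, testBit_maskV, testBit_maskV, Pi.add_apply, zmod2_add_ne]
  by_cases hi : i < 24 <;> simp [hi]

theorem maskV_zero : maskV 0 = 0 := by
  apply Nat.eq_of_testBit_eq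
  intro i
  rw [testBit_maskV]; simp

theorem ofMask_zero : ofMask 0 = 0 := by
  funext p; simp [ofMask]

theorem ofMask_xor (a b : ℕ) : ofMask (a ^^^ b) = ofMask a + ofMask b := by
  funext p
  simp only [ofMask, Nat.testBit_xor, Pi.add_apply]
  cases a.testBit (idx p) <;> cases b.testBit (idx p) <;> simp <;> decide

theorem support₂_ofMask (m : ℕ) : support₂ (ofMask m) = unmask m := by
  ext p
  simp only [support₂, ofMask, unmask, Finset.mem_filter, Finset.mem_univ, true_and]
  by_cases h : m.testBit (idx p) = true <;> simp [h]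

/-! ### the encoder -/

/-- xor of the members of a list selected by the bits of `j` -/
def encAux : List ℕ → ℕ → ℕ
  | [], _ => 0
  | b :: bs, j => (if j.testBit 0 = true then b else 0) ^^^ encAux bs (j >>> 1)

theorem encAux_xor (L : List ℕ) (j k : ℕ) : encAux L (j ^^^ k) = encAux L j ^^^ encAux L k := by
  induction L generalizing j k with
  | nil => simp [encAux]
  | cons b bs ih =>
    simp only [encAux, Nat.testBit_xor, Nat.shiftRight_xor_distrib, ih]
    cases j.testBit 0 <;> cases k.testBit 0 <;> simp [Nat.xor_assoc, Nat.xor_comm, Nat.xor_left_comm]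

theorem encAux_zero (L : List ℕ) : encAux L 0 = 0 := by
  induction L with
  | nil => simp [encAux]
  | cons b bs ih => simp [encAux, ih]

theorem ofMask_encAux_mem (C : Submodule (ZMod 2) (GolayPt → ZMod 2)) (L : List ℕ)
    (h : ∀ b ∈ L, ofMask b ∈ C) (j : ℕ) : ofMask (encAux L j) ∈ C := by
  induction L generalizing j with
  | nil => simp [encAux, ofMask_zero]
  | cons b bs ih =>
    rw [encAux, ofMask_xor]
    apply C.add_mem
    · split_ifs
      · exact h b (by simp)
      · rw [ofMask_zero]; exact C.zero_mem
    · exact ih (fun b hb => h b (by simp [hb])) _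

/-- masks of the generating words of the code -/
def genMasks : List ℕ := [340831, 681662, 1363324, 2726648, 5453296, 2517985, 5035970, 1683333, 3366666, 6733332, 5078057, 1767507, 3535014, 7070028, 5751449, 3114291, 6228582, 4068557, 8137114, 7885621, 7382635, 6376663, 4364719, 16777215]

/-- reduced basis of the code; the `k`-th vector has pivot bit `12 + k` -/
def basis : List ℕ := [5279, 10558, 18147, 36294, 69395, 133817, 262637, 525274, 1050548, 2101096, 4196943, 8391797]

/-- the codeword with information bits `j` (bits 12..23 of the codeword) -/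
def enc (j : ℕ) : ℕ := encAux basis j

/-- membership test for masks of codewords -/
def isCode (m : ℕ) : Bool := enc (m >>> 12) == m

theorem genMasks_eq : genMasks = List.ofFn (fun t : Fin 23 => maskV (qrWord (show ZMod 23 from t))) ++ [maskV 1] := by
  decide +kernel

theorem basis_eq : basis = [345, 690, 1085, 665, 1131, 876, 1921, 1505, 289, 578, 1501, 8390294].map (encAux genMasks) := by
  decide +kernel

theorem genMasks_isCode : ∀ g ∈ genMasks, isCode g = true := by decide +kernel

theorem ofMask_genMasks_mem : ∀ g ∈ genMasks, ofMask g ∈ golayCode := by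
  intro g hg
  rw [genMasks_eq] at hg
  simp only [List.mem_append, List.mem_ofFn, List.mem_singleton] at hg
  rcases hg with ⟨t, rfl⟩ | rfl
  · rw [ofMask_maskV]
    exact Submodule.subset_span (Or.inl ⟨_, rfl⟩)
  · rw [ofMask_maskV]
    exact Submodule.subset_span (Or.inr rfl)

theorem ofMask_basis_mem : ∀ b ∈ basis, ofMask b ∈ golayCode := by
  intro b hb
  rw [basis_eq] at hb
  obtain ⟨j, _, rfl⟩ := List.mem_map.1 hb
  exact ofMask_encAux_mem _ _ ofMask_genMasks_mem _

theorem isCode_xor (a b : ℕ) (ha : isCode a = true) (hb : isCode b = true) : isCode (a ^^^ b) = true := by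
  simp only [isCode, beq_iff_eq] at *
  rw [Nat.shiftRight_xor_distrib, enc, encAux_xor, ← enc, ← enc, ha, hb]

theorem mem_golayCode_iff (w : GolayPt → ZMod 2) : w ∈ golayCode ↔ isCode (maskV w) = true := by
  constructor
  · intro h
    unfold golayCode at h
    induction h using Submodule.span_induction with
    | mem x hx =>
      apply genMasks_isCode
      rw [genMasks_eq]
      simp only [List.mem_append, List.mem_ofFn, List.mem_singleton]
      rcases hx with ⟨t, rfl⟩ | hx
      · exact Or.inl ⟨t, rfl⟩
      · right; rw [Set.mem_singleton_iff.1 hx]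
    | zero => rw [maskV_zero]; decide
    | add x y _ _ hx hy => rw [maskV_add]; exact isCode_xor _ _ hx hy
    | smul a x _ hx =>
      have : a = 0 ∨ a = 1 := by revert a; decide
      rcases this with rfl | rfl
      · rw [zero_smul, maskV_zero]; decide
      · rwa [one_smul]
  · intro h
    simp only [isCode, beq_iff_eq] at h
    rw [← ofMask_maskV w, ← h]
    exact ofMask_encAux_mem _ _ ofMask_basis_mem _

theorem mem_supports_iff (s : Finset GolayPt) :
    s ∈ supports (golayCode : Set (GolayPt → ZMod 2)) ↔ isCode (mask s) = true := by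
  constructor
  · rintro ⟨w, hw, rfl⟩
    rw [mask_support₂]
    exact (mem_golayCode_iff w).1 hw
  · intro h
    refine ⟨ofMask (mask s), ?_, ?_⟩
    · show ofMask (mask s) ∈ golayCode
      rw [mem_golayCode_iff, maskV_ofMask _ (mask_lt s)]
      exact h
    · rw [support₂_ofMask, unmask_mask]

end Cfsg.Agent.Lib.Helper28
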