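/-
A base and strong generating set for the stabiliser of the standard dodecad; enumeration of the
stabilisers of two and three points; fixed points of elements of prime order.
-/
import Cfsg.Agent.Lib.Helper28.GolayHexad
set_option autoImplicit false
open Cfsg
open scoped Pointwise
namespace Cfsg.Agent.Lib.Helper28

theorem exists_fixed_of_not_dvd {g : Equiv.Perm GolayPt} {p : ℕ} (hp : p.Prime) (hg : g ^ p = 1)
    {S : Finset GolayPt} (hS : g • S = S) (hnd : ¬ p ∣ S.card) : ∃ x ∈ S, g x = x := by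
  have : Fact p.Prime := ⟨hp⟩
  let f : Function.End S := fun x => ⟨g x, (apply_mem_iff_of_smul_eq hS x).2 x.2⟩
  have hpow : ∀ (n : ℕ) (x : S), (((f ^ n) x : S) : GolayPt) = (g ^ n) x := by
    intro n
    induction n with
    | zero => intro x; rfl
    | succ n ih =>
      intro x
      rw [pow_succ, pow_succ]
      show (((f ^ n) (f x) : S) : GolayPt) = (g ^ n) (g x)
      rw [ih]
  have hf : f ^ p ^ 1 = 1 := by
    rw [pow_one]
    funext x
    apply Subtype.ext
    rw [hpow, hg]; rfl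
  have h := Equiv.Perm.card_fixedPoints_modEq hf
  by_contra hne
  push Not at hne
  have h0 : Fintype.card (Function.fixedPoints f) = 0 := by
    rw [Fintype.card_eq_zero_iff]
    constructor
    rintro ⟨x, hx⟩
    exact hne x.1 x.2 (congrArg Subtype.val hx)
  rw [h0, Fintype.card_coe] at h
  exact hnd ((Nat.modEq_zero_iff_dvd).1 h)

def m12trans1 : List (List ℕ) := [
  [15,8,6,2,10,17,9,1,14,3,11,13,7,5,23,12,16,22,19,18,4,21,20,0],
  [6,7,0,9,11,10,12,8,2,3,20,21,23,18,14,15,4,5,19,16,17,22,13,1],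
  [6,7,9,3,11,17,8,14,0,1,18,4,15,5,23,12,13,10,16,21,20,22,19,2],
  [1,14,6,9,11,21,15,8,0,2,13,19,12,4,23,7,10,20,18,5,16,22,17,3],
  [],
  [],
  [12,9,1,8,21,11,0,23,2,3,10,20,7,19,14,15,22,13,18,4,16,17,5,6],
  [6,3,8,15,13,21,1,9,0,14,20,5,2,17,23,12,11,16,18,4,10,19,22,7],
  [12,9,6,3,4,18,1,14,0,15,5,10,2,20,23,7,21,22,19,13,17,11,16,8],
  [2,15,8,7,17,18,6,3,0,1,4,11,14,16,23,12,21,19,5,20,22,13,10,9],
  [],
  [],
  [2,8,9,14,21,20,3,7,0,1,22,10,6,13,23,15,5,17,19,11,4,16,18,12],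
  [],
  [2,3,6,8,20,19,12,9,0,1,13,21,15,22,23,7,18,11,10,5,16,4,17,14],
  [6,12,1,8,22,20,2,0,14,3,16,21,7,18,23,9,11,19,4,13,10,5,17,15],
  [],
  [],
  [],
  [],
  [],
  [],
  [],
  [0,1,2,3,4,5,6,7,8,9,10,11,12,13,14,15,16,17,18,19,20,21,22,23]]

def m12trans2 : List (List ℕ) := [
  [0,1,2,3,4,5,6,7,8,9,10,11,12,13,14,15,16,17,18,19,20,21,22,23],
  [1,7,0,12,22,13,2,6,15,3,16,4,8,17,14,9,11,20,5,19,18,21,10,23],
  [2,7,15,3,4,13,9,8,6,1,17,5,14,10,0,12,22,11,20,19,16,18,21,23],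
  [3,14,12,9,19,10,6,15,1,2,21,4,8,20,0,7,22,11,16,17,18,13,5,23],
  [],
  [],
  [6,12,15,7,22,18,14,3,9,1,19,21,2,16,0,8,5,10,11,17,20,13,4,23],
  [7,3,2,15,5,11,8,1,6,14,21,17,9,16,0,12,19,13,10,22,18,20,4,23],
  [8,9,2,3,10,21,6,1,12,15,18,20,14,22,0,7,11,4,17,16,19,5,13,23],
  [9,15,14,7,11,21,8,6,2,1,18,16,3,19,0,12,13,17,22,10,5,4,20,23],
  [],
  [],
  [12,8,6,14,10,5,9,3,2,1,20,13,7,17,0,15,16,21,4,18,19,22,11,23],
  [],
  [14,3,15,8,21,18,6,12,2,1,19,22,9,11,0,7,4,20,16,17,10,13,5,23],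
  [15,12,7,8,21,11,1,2,6,3,20,18,0,19,14,9,5,22,10,17,4,16,13,23],
  [],
  [],
  [],
  [],
  [],
  [],
  [],
  []]

def m12trans3 : List (List ℕ) := [
  [],
  [0,1,2,3,4,5,6,7,8,9,10,11,12,13,14,15,16,17,18,19,20,21,22,23],
  [0,2,1,14,22,5,6,7,9,8,18,20,15,13,3,12,16,17,10,21,11,19,4,23],
  [0,3,6,15,17,19,14,7,8,2,20,10,1,18,9,12,11,5,13,4,16,22,21,23],
  [],
  [],
  [0,6,3,7,17,22,9,15,8,12,20,13,1,11,14,2,18,4,10,5,16,19,21,23],
  [0,7,9,15,19,17,2,12,3,6,11,16,1,13,14,8,10,21,18,22,20,5,4,23],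
  [0,8,14,3,11,20,2,7,9,12,21,22,1,4,15,6,17,18,19,16,5,10,13,23],
  [0,9,6,2,16,18,8,7,3,12,4,19,15,21,14,1,22,13,5,11,17,20,10,23],
  [],
  [],
  [0,12,15,8,20,13,6,7,14,3,21,4,2,5,9,1,17,16,19,10,22,18,11,23],
  [],
  [0,14,6,3,19,4,8,12,15,9,18,16,1,20,7,2,10,22,11,21,13,5,17,23],
  [0,15,12,9,11,13,6,7,3,14,19,22,1,5,8,2,17,16,21,18,4,10,20,23],
  [],
  [],
  [],
  [],
  [],
  [],
  [],
  []]

def m12trans4 : List (List ℕ) := [
  [],
  [],
  [0,1,2,3,4,5,6,7,8,9,10,11,12,13,14,15,16,17,18,19,20,21,22,23],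
  [0,1,3,14,4,5,12,15,7,6,13,18,9,20,2,8,11,17,16,21,10,22,19,23],
  [],
  [],
  [0,1,6,7,22,21,9,12,3,14,16,10,8,18,2,15,20,19,13,17,11,4,5,23],
  [0,1,7,3,11,16,12,14,15,2,21,4,8,22,9,6,17,18,5,20,19,13,10,23],
  [0,1,8,12,16,11,3,6,15,9,22,5,7,21,2,14,17,18,4,10,19,13,20,23],
  [0,1,9,12,5,4,14,8,7,2,20,16,3,13,6,15,11,17,18,19,10,22,21,23],
  [],
  [],
  [0,1,12,8,16,18,14,7,9,15,22,17,6,19,2,3,5,11,4,20,21,13,10,23],
  [],
  [0,1,14,7,10,13,15,6,8,2,5,22,9,4,12,3,21,20,19,11,17,16,18,23],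
  [0,1,15,6,18,16,2,9,7,12,21,5,8,19,14,3,17,11,4,20,22,10,13,23],
  [],
  [],
  [],
  [],
  [],
  [],
  [],
  []]

def m12trans5 : List (List ℕ) := [
  [],
  [],
  [],
  [0,1,2,3,4,5,6,7,8,9,10,11,12,13,14,15,16,17,18,19,20,21,22,23],
  [],
  [],
  [0,1,2,6,22,21,14,3,15,8,11,20,9,16,7,12,13,19,10,5,18,17,4,23],
  [0,1,2,7,22,19,3,14,9,12,18,10,15,16,6,8,13,21,20,17,11,5,4,23],
  [0,1,2,8,16,11,9,15,14,7,19,17,3,22,12,6,4,18,5,20,21,10,13,23],
  [0,1,2,9,13,10,12,8,6,14,17,21,7,4,15,3,22,20,19,11,5,18,16,23],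
  [],
  [],
  [0,1,2,12,16,18,15,9,3,6,21,5,14,22,8,7,4,11,17,10,19,20,13,23],
  [],
  [0,1,2,14,4,17,7,6,12,15,20,18,8,13,3,9,16,5,11,21,10,19,22,23],
  [0,1,2,15,13,20,8,12,7,3,5,19,6,4,9,14,22,10,21,18,17,11,16,23],
  [],
  [],
  [],
  [],
  [],
  [],
  [],
  []]

/-- the indices of the points of the standard dodecad -/
def dl : List ℕ := [0, 1, 2, 3, 6, 7, 8, 9, 12, 14, 15, 23]

theorem m12lev3 : checkLevel [23, 0] 1 (dl.filter (fun y => !([23, 0].contains y))) m12trans3 = true := by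
  decide +kernel
theorem m12lev4 : checkLevel [23, 0, 1] 2 (dl.filter (fun y => !([23, 0, 1].contains y))) m12trans4 = true := by
  decide +kernel
theorem m12lev5 : checkLevel [23, 0, 1, 2] 3 (dl.filter (fun y => !([23, 0, 1, 2].contains y))) m12trans5 = true := by
  decide +kernel
theorem m12dod3 : checkDod (dl.filter (fun y => !([23, 0].contains y))) m12trans3 = true := by decide +kernel
theorem m12dod4 : checkDod (dl.filter (fun y => !([23, 0, 1].contains y))) m12trans4 = true := by decide +kernel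
theorem m12dod5 : checkDod (dl.filter (fun y => !([23, 0, 1, 2].contains y))) m12trans5 = true := by decide +kernel

/-- elements of M24 stabilising the standard dodecad and fixing the points with indices in `F` -/
def DFix (F : List ℕ) (g : Equiv.Perm GolayPt) : Prop :=
  g ∈ M24 ∧ g • stdDodecad = stdDodecad ∧ ∀ f ∈ F, g (pt f) = pt f

theorem dfix_target {F : List ℕ} {g : Equiv.Perm GolayPt} (hg : DFix F g) {b : ℕ} (hb : b < 24)
    (hbd : pt b ∈ stdDodecad) (hbF : b ∉ F) : idx (g (pt b)) ∈ dl.filter (fun y => !(F.contains y)) := by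
  rw [List.mem_filter]
  constructor
  · have h1 : g (pt b) ∈ stdDodecad := (apply_mem_iff_of_smul_eq hg.2.1 _).2 hbd
    generalize g (pt b) = q at h1
    revert q
    decide +kernel
  · have := fixG_apply_notMem hb hbF (g := g) ⟨hg.1, hg.2.2⟩
    simpa using this

theorem dfix_sift {F : List ℕ} {b : ℕ} {T : List (List ℕ)}
    (h : checkLevel F b (dl.filter (fun y => !(F.contains y))) T = true)
    (h' : checkDod (dl.filter (fun y => !(F.contains y))) T = true)
    (hb : b < 24) (hf : ∀ f ∈ F, f < 24) (hbd : pt b ∈ stdDodecad) (hbF : b ∉ F)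
    {g : Equiv.Perm GolayPt} (hg : DFix F g) :
    ∃ y ∈ dl.filter (fun y => !(F.contains y)), validTbl (T.getD y []) = true ∧
      DFix (F ++ [b]) ((permOf (T.getD y []))⁻¹ * g) := by
  have hy := dfix_target hg hb hbd hbF
  refine ⟨_, hy, ?_⟩
  obtain ⟨hv, h1, h2, h3⟩ := checkLevel_spec' h hb hf _ hy
  simp only [checkDod, List.all_eq_true, beq_iff_eq] at h'
  have hd : permOf (T.getD (idx (g (pt b))) []) • stdDodecad = stdDodecad := by
    apply mask_injective
    rw [mask_smul, mask_stdDodecad, pm_permOf hv, h' _ hy]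
  refine ⟨hv, M24.mul_mem (M24.inv_mem h1) hg.1, ?_, ?_⟩
  · rw [mul_smul, hg.2.1, inv_smul_eq_iff, hd]
  · intro f hf'
    rw [Equiv.Perm.mul_apply, Equiv.Perm.inv_eq_iff_eq]
    rcases List.mem_append.1 hf' with hh | hh
    · rw [hg.2.2 f hh, h2 f hh]
    · rw [List.mem_singleton.1 hh, h3, pt_idx]

theorem dfix5_eq_one {g : Equiv.Perm GolayPt} (hg : DFix [23, 0, 1, 2, 3] g) : g = 1 :=
  eq_one_of_fixG5_stdDodecad ⟨hg.1, hg.2.2⟩ hg.2.1

def L3 : List ℕ := dl.filter (fun y => !([23, 0].contains y))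
def L4 : List ℕ := dl.filter (fun y => !([23, 0, 1].contains y))
def L5 : List ℕ := dl.filter (fun y => !([23, 0, 1, 2].contains y))

/-- the 72 elements fixing the standard dodecad and three of its points -/
theorem dfix3_enum {g : Equiv.Perm GolayPt} (hg : DFix [23, 0, 1] g) :
    ∃ y4 ∈ L4, ∃ y5 ∈ L5, validTbl (m12trans4.getD y4 []) = true ∧ validTbl (m12trans5.getD y5 []) = true ∧
      g = permOf (m12trans4.getD y4 []) * permOf (m12trans5.getD y5 []) := by
  obtain ⟨y4, hy4, hv4, h4⟩ := dfix_sift m12lev4 m12dod4 (by norm_num) (by simp) (by decide +kernel) (by simp) hg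
  obtain ⟨y5, hy5, hv5, h5⟩ := dfix_sift m12lev5 m12dod5 (by norm_num) (by simp) (by decide +kernel) (by simp) h4
  refine ⟨y4, hy4, y5, hy5, hv4, hv5, ?_⟩
  have := dfix5_eq_one h5
  rw [← mul_assoc, mul_eq_one_iff_eq_inv'] at this
  rw [this]; group

/-- the 720 elements fixing the standard dodecad and two of its points -/
theorem dfix2_enum {g : Equiv.Perm GolayPt} (hg : DFix [23, 0] g) :
    ∃ y3 ∈ L3, ∃ y4 ∈ L4, ∃ y5 ∈ L5, validTbl (m12trans3.getD y3 []) = true ∧
      validTbl (m12trans4.getD y4 []) = true ∧ validTbl (m12trans5.getD y5 []) = true ∧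
      g = permOf (m12trans3.getD y3 []) * permOf (m12trans4.getD y4 []) * permOf (m12trans5.getD y5 []) := by
  obtain ⟨y3, hy3, hv3, h3⟩ := dfix_sift m12lev3 m12dod3 (by norm_num) (by simp) (by decide +kernel) (by simp) hg
  obtain ⟨y4, hy4, y5, hy5, hv4, hv5, h⟩ := dfix3_enum h3
  refine ⟨y3, hy3, y4, hy4, y5, hy5, hv3, hv4, hv5, ?_⟩
  rw [mul_assoc, ← h]; group

/-- evaluation of a product of three tables -/
def ev3 (A B C : List ℕ) (i : ℕ) : ℕ := A.getD (B.getD (C.getD i 0) 0) 0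

theorem ev3_spec {A B C : List ℕ} (hA : validTbl A = true) (hB : validTbl B = true) (hC : validTbl C = true)
    (p : GolayPt) : idx ((permOf A * permOf B * permOf C) p) = ev3 A B C (idx p) := by
  simp only [Equiv.Perm.mul_apply]
  rw [idx_permOf hA, idx_permOf hB, idx_permOf hC]
  rfl

theorem m10_check : L3.all (fun y3 => L4.all (fun y4 => L5.all (fun y5 =>
    (cmpl.any (fun i => ev3 (m12trans3.getD y3 []) (m12trans4.getD y4 []) (m12trans5.getD y5 []) i == i)) ||
    (!((List.range 24).all (fun i => ev3 (m12trans3.getD y3 []) (m12trans4.getD y4 []) (m12trans5.getD y5 [])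
        (ev3 (m12trans3.getD y3 []) (m12trans4.getD y4 []) (m12trans5.getD y5 []) i) == i)) &&
     !((List.range 24).all (fun i => ev3 (m12trans3.getD y3 []) (m12trans4.getD y4 []) (m12trans5.getD y5 [])
        (ev3 (m12trans3.getD y3 []) (m12trans4.getD y4 []) (m12trans5.getD y5 [])
          (ev3 (m12trans3.getD y3 []) (m12trans4.getD y4 []) (m12trans5.getD y5 []) i)) == i)))))) = true := by
  decide +kernel

theorem exists_five_in_of_mem2 {s : Finset GolayPt} (h : 5 ≤ s.card) {p q : GolayPt} (hp : p ∈ s) (hq : q ∈ s)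
    (hpq : p ≠ q) : ∃ x : Fin 5 → GolayPt, Function.Injective x ∧ (∀ i, x i ∈ s) ∧ x 0 = p ∧ x 1 = q := by
  have hq' : q ∈ s.erase p := Finset.mem_erase.2 ⟨hpq.symm, hq⟩
  obtain ⟨t, ht, ht5⟩ := Finset.exists_subset_card_eq (s := (s.erase p).erase q) (n := 3)
    (by rw [Finset.card_erase_of_mem hq', Finset.card_erase_of_mem hp]; omega)
  obtain ⟨x, hx, hxs⟩ := exists_injective_of_card_eq ht5
  have hx' : ∀ i, x i ∈ (s.erase p).erase q := fun i => ht ((hxs _).2 ⟨i, rfl⟩)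
  refine ⟨Fin.cons p (Fin.cons q x), ?_, ?_, rfl, rfl⟩
  · rw [Fin.cons_injective_iff]
    refine ⟨?_, ?_⟩
    · rintro ⟨i, hi⟩
      revert hi
      refine Fin.cases ?_ (fun j => ?_) i
      · intro hi; exact hpq hi.symm
      · intro hi
        have h1 : x j = p := hi
        exact (Finset.mem_erase.1 (Finset.mem_erase.1 (hx' j)).2).1 h1
    · rw [Fin.cons_injective_iff]
      refine ⟨?_, hx⟩
      rintro ⟨i, hi⟩
      exact (Finset.mem_erase.1 (hx' i)).1 hi
  · intro i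
    refine Fin.cases ?_ (fun j => ?_) i
    · simpa using hp
    · refine Fin.cases ?_ (fun l => ?_) j
      · simpa using hq
      · simpa using (Finset.mem_erase.1 (Finset.mem_erase.1 (hx' l)).2).2

/-- an element of order 2 or 3 stabilising the standard dodecad and two of its points fixes a point outside -/
theorem dfix2_fixed_outside {g : Equiv.Perm GolayPt} (hg : DFix [23, 0] g) (h23 : g ^ 2 = 1 ∨ g ^ 3 = 1) :
    ∃ x, x ∉ stdDodecad ∧ g x = x := by
  obtain ⟨y3, hy3, y4, hy4, y5, hy5, hv3, hv4, hv5, rfl⟩ := dfix2_enum hg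
  have h := m10_check
  simp only [List.all_eq_true] at h
  have h1 := h y3 hy3 y4 hy4 y5 hy5
  have hev := ev3_spec hv3 hv4 hv5
  set u := permOf (m12trans3.getD y3 []) * permOf (m12trans4.getD y4 []) * permOf (m12trans5.getD y5 []) with hu
  rw [Bool.or_eq_true] at h1
  rcases h1 with h1 | h1
  · rw [List.any_eq_true] at h1
    obtain ⟨i, hi, hi2⟩ := h1
    have hall : ∀ i ∈ cmpl, i < 24 ∧ pt i ∉ stdDodecad := by decide +kernel
    have hi24 := hall i hi
    refine ⟨pt i, hi24.2, ?_⟩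
    have := hev (pt i)
    rw [idx_pt i hi24.1, beq_iff_eq.1 hi2] at this
    rw [← pt_idx (u (pt i)), this]
  · exfalso
    simp only [Bool.and_eq_true, Bool.not_eq_true', List.all_eq_false, List.mem_range] at h1
    obtain ⟨⟨i, hi, hi2⟩, ⟨j, hj, hj2⟩⟩ := h1
    rcases h23 with h2 | h3
    · apply hi2
      rw [beq_iff_eq]
      have e : u (u (pt i)) = pt i := by
        have := congrArg (fun f : Equiv.Perm GolayPt => f (pt i)) h2
        simpa [pow_two] using this
      have e2 := congrArg idx e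
      rw [hev, hev, idx_pt i hi] at e2
      exact e2
    · apply hj2
      rw [beq_iff_eq]
      have e : u (u (u (pt j))) = pt j := by
        have := congrArg (fun f : Equiv.Perm GolayPt => f (pt j)) h3
        simpa [pow_succ] using this
      have e2 := congrArg idx e
      rw [hev, hev, hev, idx_pt j hj] at e2
      exact e2

theorem M11_elusive {g : Equiv.Perm GolayPt} (hg : g ∈ Spor.M11) (hord : (orderOf g).Prime) :
    ∃ x : GolayPt, x ∉ Spor.squareDodecad ∧ g x = x := by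
  obtain ⟨hgM, hgd, hg0⟩ := mem_M11.1 hg
  have hgp : g ^ orderOf g = 1 := pow_orderOf_eq_one g
  have hd := squareDodecad_mem
  by_cases h12 : orderOf g ∣ 12
  · have h23 : orderOf g = 2 ∨ orderOf g = 3 := by
      have h1 : orderOf g ∣ 2 ^ 2 * 3 := h12
      rcases (Nat.Prime.dvd_mul hord).1 h1 with h | h
      · exact Or.inl ((Nat.prime_dvd_prime_iff_eq hord Nat.prime_two).1 (hord.dvd_of_dvd_pow h))
      · exact Or.inr ((Nat.prime_dvd_prime_iff_eq hord Nat.prime_three).1 h)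
    have h0d : (some 0 : GolayPt) ∈ Spor.squareDodecad := by rw [squareDodecad_eq]; decide +kernel
    have hS : g • (Spor.squareDodecad.erase (some 0)) = Spor.squareDodecad.erase (some 0) := by
      apply smul_eq_of_maps
      intro p hp
      rw [Finset.mem_erase] at hp ⊢
      exact ⟨fun h => hp.1 (g.injective (h.trans hg0.symm)), (apply_mem_iff_of_smul_eq hgd p).2 hp.2⟩
    have hc : (Spor.squareDodecad.erase (some 0)).card = 11 := by
      rw [Finset.card_erase_of_mem h0d, card_of_mem_dodecads hd]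
    obtain ⟨a, ha, hga⟩ := exists_fixed_of_not_dvd hord hgp hS (by
      rw [hc]; rcases h23 with h | h <;> rw [h] <;> norm_num)
    rw [Finset.mem_erase] at ha
    obtain ⟨x, hx, hxd, hx0, hx1⟩ := exists_five_in_of_mem2 (by rw [card_of_mem_dodecads hd]; norm_num) h0d ha.2
      ha.1.symm
    obtain ⟨k, hk, hkd, hkx⟩ := dodecad_five_to_std hd x hx hxd
    have hk0 : k (some 0) = pt 23 := by rw [← hx0, hkx 0]; rfl
    have hka : k a = pt 0 := by rw [← hx1, hkx 1]; rfl
    have hD : DFix [23, 0] (k * g * k⁻¹) := by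
      refine ⟨M24.mul_mem (M24.mul_mem hk hgM) (M24.inv_mem hk), ?_, ?_⟩
      · rw [← hkd, mul_smul, mul_smul, inv_smul_smul, hgd]
      · intro f hf
        simp only [List.mem_cons, List.not_mem_nil, or_false] at hf
        rcases hf with rfl | rfl
        · rw [← hk0]; simp [hg0]
        · rw [← hka]; simp [hga]
    have hpow : ∀ n : ℕ, (k * g * k⁻¹) ^ n = k * g ^ n * k⁻¹ := fun n => conj_pow
    obtain ⟨y, hy, hgy⟩ := dfix2_fixed_outside hD (by
      rcases h23 with h | h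
      · left; rw [hpow, ← h, hgp]; group
      · right; rw [hpow, ← h, hgp]; group)
    refine ⟨k⁻¹ y, ?_, ?_⟩
    · intro h
      apply hy
      rw [← hkd]
      have := Finset.smul_mem_smul_finset (a := k) h
      simpa using this
    · have : k (g (k⁻¹ y)) = y := hgy
      rw [Equiv.Perm.eq_inv_iff_eq, this]
  · obtain ⟨x, hx, hgx⟩ := exists_fixed_of_not_dvd hord hgp ((smul_eq_iff_compl g _).2 hgd) (by
      rw [card_of_mem_dodecads (compl_mem_dodecads hd)]; exact h12)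
    exact ⟨x, by simpa using hx, hgx⟩

end Cfsg.Agent.Lib.Helper28
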