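/-
Permutations of the 24 points acting on masks; membership in M24; permutations given by tables.
-/
import Cfsg.Agent.Lib.Helper28.GolayBase

set_option autoImplicit false

namespace Cfsg.Agent.Lib.Helper28

open Cfsg
open scoped Pointwise

/-- action of a permutation on masks -/
def pm (g : Equiv.Perm GolayPt) (m : ℕ) : ℕ :=
  Nat.ofBits (fun k : Fin 24 => m.testBit (idx (g⁻¹ (pt k))))

theorem pm_lt (g : Equiv.Perm GolayPt) (m : ℕ) : pm g m < 2 ^ 24 := Nat.ofBits_lt_two_pow _

theorem testBit_pm (g : Equiv.Perm GolayPt) (m k : ℕ) :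
    (pm g m).testBit k = (decide (k < 24) && m.testBit (idx (g⁻¹ (pt k)))) := by
  unfold pm
  rw [Nat.testBit_ofBits]
  split_ifs with h <;> simp [h]

theorem testBit_pm_idx (g : Equiv.Perm GolayPt) (m : ℕ) (p : GolayPt) :
    (pm g m).testBit (idx (g p)) = m.testBit (idx p) := by
  rw [testBit_pm, pt_idx]; simp [idx_lt]

theorem mask_smul (g : Equiv.Perm GolayPt) (s : Finset GolayPt) : mask (g • s) = pm g (mask s) := by
  apply Nat.eq_of_testBit_eq
  intro k
  rw [testBit_mask, testBit_pm, testBit_mask_idx]
  congr 1
  have : pt k ∈ g • s ↔ g⁻¹ (pt k) ∈ s := by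
    rw [← Finset.inv_smul_mem_iff]; rfl
  simp [this]

theorem pm_xor (g : Equiv.Perm GolayPt) (a b : ℕ) : pm g (a ^^^ b) = pm g a ^^^ pm g b := by
  apply Nat.eq_of_testBit_eq
  intro k
  simp only [Nat.testBit_xor, testBit_pm]
  by_cases hk : k < 24 <;> simp [hk]

theorem pm_and (g : Equiv.Perm GolayPt) (a b : ℕ) : pm g (a &&& b) = pm g a &&& pm g b := by
  apply Nat.eq_of_testBit_eq
  intro k
  simp only [Nat.testBit_and, testBit_pm]
  by_cases hk : k < 24 <;> simp [hk]

theorem pm_or (g : Equiv.Perm GolayPt) (a b : ℕ) : pm g (a ||| b) = pm g a ||| pm g b := by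
  apply Nat.eq_of_testBit_eq
  intro k
  simp only [Nat.testBit_or, testBit_pm]
  by_cases hk : k < 24 <;> simp [hk]

theorem pm_zero (g : Equiv.Perm GolayPt) : pm g 0 = 0 := by
  apply Nat.eq_of_testBit_eq
  intro k
  simp [testBit_pm]

theorem pm_one (m : ℕ) (h : m < 2 ^ 24) : pm 1 m = m := by
  rw [← mask_unmask m h, ← mask_smul, one_smul]

theorem pm_mul (g h : Equiv.Perm GolayPt) (m : ℕ) : pm (g * h) m = pm g (pm h m) := by
  apply Nat.eq_of_testBit_eq
  intro k
  simp only [testBit_pm, mul_inv_rev, Equiv.Perm.mul_apply, pt_idx, idx_lt]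
  simp

theorem pc_pm (g : Equiv.Perm GolayPt) (m : ℕ) (h : m < 2 ^ 24) : pc 24 (pm g m) = pc 24 m := by
  rw [← mask_unmask m h, ← mask_smul, ← card_eq_pc, ← card_eq_pc, Finset.card_smul_finset]

theorem pm_two_pow (g : Equiv.Perm GolayPt) (p : GolayPt) : pm g (2 ^ idx p) = 2 ^ idx (g p) := by
  apply Nat.eq_of_testBit_eq
  intro k
  rw [testBit_pm, Nat.testBit_two_pow, Nat.testBit_two_pow]
  by_cases hk : k < 24
  · simp only [hk, decide_true, Bool.true_and]
    congr 1
    apply propext
    constructor
    · intro h
      have := idx_injective h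
      rw [this]; simp [idx_pt k hk]
    · intro h
      rw [← h]; simp [pt_idx]
  · have := idx_lt (g p)
    simp only [hk, decide_false, Bool.false_and]
    symm
    simp
    omega

/-! ### membership in M24 -/

theorem supports_finite : (supports (golayCode : Set (GolayPt → ZMod 2))).Finite := Set.toFinite _

theorem mem_M24_iff (g : Equiv.Perm GolayPt) :
    g ∈ M24 ↔ ∀ m, m < 2 ^ 24 → isCode m = true → isCode (pm g m) = true := by
  rw [M24, setSystemAut, MulAction.mem_stabilizer_set_iff_smul_set_subset supports_finite]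
  constructor
  · intro h m hm hc
    have h1 : unmask m ∈ supports (golayCode : Set (GolayPt → ZMod 2)) := by
      rw [mem_supports_iff, mask_unmask m hm]; exact hc
    have h2 := h (Set.smul_mem_smul_set h1)
    rw [mem_supports_iff, mask_smul, mask_unmask m hm] at h2
    exact h2
  · rintro h _ ⟨s, hs, rfl⟩
    show g • s ∈ _
    rw [mem_supports_iff] at hs ⊢
    rw [mask_smul]
    exact h _ (mask_lt s) hs

theorem isCode_pm_encAux (g : Equiv.Perm GolayPt) (L : List ℕ)
    (h : ∀ b ∈ L, isCode (pm g b) = true) (j : ℕ) : isCode (pm g (encAux L j)) = true := by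
  induction L generalizing j with
  | nil => simp only [encAux, pm_zero]; decide
  | cons b bs ih =>
    rw [encAux, pm_xor]
    apply isCode_xor
    · split_ifs
      · exact h b (by simp)
      · rw [pm_zero]; decide
    · exact ih (fun b hb => h b (by simp [hb])) _

theorem mem_M24_of_basis (g : Equiv.Perm GolayPt) (h : ∀ b ∈ basis, isCode (pm g b) = true) :
    g ∈ M24 := by
  rw [mem_M24_iff]
  intro m _ hc
  simp only [isCode, beq_iff_eq] at hc
  rw [← hc]
  exact isCode_pm_encAux g basis h _

theorem isCode_pm_of_mem {g : Equiv.Perm GolayPt} (hg : g ∈ M24) {m : ℕ} (hm : m < 2 ^ 24)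
    (hc : isCode m = true) : isCode (pm g m) = true := (mem_M24_iff g).1 hg m hm hc

/-! ### permutations given by tables -/

/-- the function on points given by a table of indices -/
def tblFun (L : List ℕ) (p : GolayPt) : GolayPt := pt (L.getD (idx p) 0)

/-- a table is valid when it has length 24 and contains all of 0..23 -/
def validTbl (L : List ℕ) : Bool := L.length == 24 && (List.range 24).all (fun j => L.contains j)

theorem tblFun_bijective {L : List ℕ} (h : validTbl L = true) : Function.Bijective (tblFun L) := by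
  apply Function.Surjective.bijective_of_finite
  intro q
  simp only [validTbl, Bool.and_eq_true, beq_iff_eq, List.all_eq_true, List.mem_range,
    List.contains_iff_mem] at h
  obtain ⟨hl, hc⟩ := h
  have := hc (idx q) (idx_lt q)
  obtain ⟨i, hi, hiq⟩ := List.getElem_of_mem this
  refine ⟨pt i, ?_⟩
  unfold tblFun
  rw [idx_pt i (hl ▸ hi), List.getD_eq_getElem _ _ hi, hiq, pt_idx]

/-- the permutation given by a table (the identity when the table is not valid) -/
noncomputable def permOf (L : List ℕ) : Equiv.Perm GolayPt :=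
  if h : validTbl L = true then Equiv.ofBijective (tblFun L) (tblFun_bijective h) else 1

theorem permOf_apply {L : List ℕ} (h : validTbl L = true) (p : GolayPt) :
    permOf L p = pt (L.getD (idx p) 0) := by
  unfold permOf
  rw [dif_pos h]
  rfl

theorem getD_lt {L : List ℕ} (h : validTbl L = true) (i : ℕ) (hi : i < 24) : L.getD i 0 < 24 := by
  have hb := tblFun_bijective h
  by_contra hlt
  simp only [validTbl, Bool.and_eq_true, beq_iff_eq, List.all_eq_true, List.mem_range,
    List.contains_iff_mem] at h
  obtain ⟨hl, hc⟩ := h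
  -- the point `none` has index 23 and is hit by some other index
  obtain ⟨k, hk, hkq⟩ := List.getElem_of_mem (hc 23 (by norm_num))
  have h1 : tblFun L (pt i) = none := by
    unfold tblFun pt
    rw [dif_neg]
    have : idx (if h : i < 23 then some (show ZMod 23 from (⟨i, h⟩ : Fin 23)) else none) = i := idx_pt i hi
    rw [this]; omega
  have h2 : tblFun L (pt k) = none := by
    unfold tblFun
    rw [idx_pt k (hl ▸ hk), List.getD_eq_getElem _ _ hk, hkq]; rfl
  have h3 := hb.1 (h1.trans h2.symm)
  have h4 : i = k := by rw [← idx_pt i hi, h3, idx_pt k (hl ▸ hk)]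
  subst h4
  rw [List.getD_eq_getElem _ _ hk, hkq] at hlt
  omega

theorem idx_permOf {L : List ℕ} (h : validTbl L = true) (p : GolayPt) :
    idx (permOf L p) = L.getD (idx p) 0 := by
  rw [permOf_apply h, idx_pt _ (getD_lt h _ (idx_lt p))]

/-- image of a mask under a table -/
def permMask : List ℕ → ℕ → ℕ
  | [], _ => 0
  | a :: L, m => (if m.testBit 0 = true then 2 ^ a else 0) ||| permMask L (m >>> 1)

theorem testBit_permMask (L : List ℕ) (m k : ℕ) :
    (permMask L m).testBit k = true ↔ ∃ i, i < L.length ∧ m.testBit i = true ∧ L.getD i 0 = k := by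
  induction L generalizing m with
  | nil => simp [permMask]
  | cons a L ih =>
    rw [permMask, Nat.testBit_or, Bool.or_eq_true, ih]
    constructor
    · rintro (h | ⟨i, hi, hb, hk⟩)
      · refine ⟨0, by simp, ?_, ?_⟩
        · by_contra hc
          rw [if_neg hc] at h
          simp at h
        · by_cases hc : m.testBit 0 = true
          · rw [if_pos hc, Nat.testBit_two_pow] at h
            simpa using h
          · rw [if_neg hc] at h
            simp at h
      · refine ⟨i + 1, by simpa using hi, ?_, by simpa using hk⟩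
        rw [Nat.testBit_shiftRight] at hb
        rwa [add_comm]
    · rintro ⟨i, hi, hb, hk⟩
      cases i with
      | zero =>
        left
        rw [if_pos hb, Nat.testBit_two_pow]
        simpa using hk
      | succ i =>
        right
        refine ⟨i, by simpa using hi, ?_, by simpa using hk⟩
        rw [Nat.testBit_shiftRight, add_comm]
        exact hb

theorem pm_permOf {L : List ℕ} (h : validTbl L = true) (m : ℕ) : pm (permOf L) m = permMask L m := by
  have hl : L.length = 24 := by
    simp only [validTbl, Bool.and_eq_true, beq_iff_eq] at h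
    exact h.1
  apply Nat.eq_of_testBit_eq
  intro k
  rw [Bool.eq_iff_iff, testBit_permMask, testBit_pm]
  constructor
  · intro hk
    simp only [Bool.and_eq_true, decide_eq_true_eq] at hk
    refine ⟨idx ((permOf L)⁻¹ (pt k)), hl ▸ idx_lt _, hk.2, ?_⟩
    rw [← idx_permOf h]
    simp [idx_pt k hk.1]
  · rintro ⟨i, hi, hb, hk⟩
    rw [hl] at hi
    have h1 : k < 24 := hk ▸ getD_lt h i hi
    have h2 : permOf L (pt i) = pt k := by
      rw [permOf_apply h, idx_pt i hi, hk]
    have h3 : (permOf L)⁻¹ (pt k) = pt i := by
      rw [← h2]; simp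
    simp [h1, h3, idx_pt i hi, hb]

/-- test for membership of a table in M24 -/
def inM24 (L : List ℕ) : Bool := validTbl L && basis.all (fun b => isCode (permMask L b))

theorem permOf_mem_M24 {L : List ℕ} (h : inM24 L = true) : permOf L ∈ M24 := by
  simp only [inM24, Bool.and_eq_true, List.all_eq_true] at h
  apply mem_M24_of_basis
  intro b hb
  rw [pm_permOf h.1]
  exact h.2 b hb

end Cfsg.Agent.Lib.Helper28
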