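/-
Every automorphism of M11 is inner.
-/
import Cfsg.Agent.Lib.Helper28.AutPerm3
import Cfsg.Agent.Lib.Helper28.SporCard
import Cfsg.Agent.Lib.Helper28.GolayM12
set_option autoImplicit false
open Cfsg
open scoped Pointwise
namespace Cfsg.Agent.Lib.Helper28

def ts11 : List ℕ := [429891312267296919914755612024611872, 970499966350631336865513127433832480, 901803286448115792772728721502212480, 610567132226883707190967285251705216, 652491856969297572797044330355267680, 610961446608002731848341773020039424, 438309809805128941928441216923451424, 610933098178650810155900481226967136, 879755355343056236787865516102454784, 734330466351947022443742560843483424, 944576703234065857180591671912828960, 944171812893421266547626144892749952]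
def js11 : List ℕ := [3453, 561, 852, 3137, 2404, 572, 3272, 257, 3708, 788, 3141, 362]

theorem ts11_ok : ts11.all (fun t => validP t && inM11P t && Nat.beq (pcF (fixMaskP t)) 8) = true := by
  decide +kernel
theorem js11_ok : basis = js11.map (encAux (ts11.map fixMaskP)) := by decide +kernel

/-- refined congruence for orbit lengths inside an invariant set -/
theorem card_orbF_mod' {L : Subgroup (Equiv.Perm GolayPt)} (hL : L ≤ M24) {E F : Finset GolayPt}
    (hE : ∀ g ∈ L, ∀ x, g x ∈ E ↔ x ∈ E) (hFE : F ⊆ E)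
    (hF : ∀ g ∈ L, ∀ f ∈ F, g f = f) {x : GolayPt} (hxE : x ∈ E) (hx : x ∉ F) {p : ℕ} (hp : p.Prime) (hp5 : 5 ≤ p)
    (hd : p ∣ Nat.card L) (hsplit : E.card % p + (24 - E.card) % p = 24 % p) :
    (orbF L x).card % p + F.card ≤ E.card % p := by
  have : Fact p.Prime := ⟨hp⟩
  obtain ⟨c, hc⟩ := exists_prime_orderOf_dvd_card' p hd
  have hc' : orderOf (c : Equiv.Perm GolayPt) = p := by rw [Subgroup.orderOf_coe, hc]
  have hcp : (c : Equiv.Perm GolayPt) ^ p = 1 := hc' ▸ pow_orderOf_eq_one _
  have hfix := card_fixPts_of_prime (hL c.2) hp hp5 hc'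
  have hm := card_modEq_fix (c : Equiv.Perm GolayPt) p hcp (orbF L x) (by
    intro y hy
    obtain ⟨g, hg, rfl⟩ := mem_orbF.1 hy
    exact mem_orbF.2 ⟨c * g, L.mul_mem c.2 hg, rfl⟩)
  have hmE := card_modEq_fix (c : Equiv.Perm GolayPt) p hcp E (fun y hy => (hE c c.2 y).2 hy)
  have hmE' := card_modEq_fix (c : Equiv.Perm GolayPt) p hcp (Finset.univ \ E) (fun y hy => by
    simp only [Finset.mem_sdiff, Finset.mem_univ, true_and] at hy ⊢
    exact fun h => hy ((hE c c.2 y).1 h))
  set R := (orbF L x).filter (fun y => (c : Equiv.Perm GolayPt) y = y) with hR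
  set RE := E.filter (fun y => (c : Equiv.Perm GolayPt) y = y) with hRE
  set RE' := (Finset.univ \ E).filter (fun y => (c : Equiv.Perm GolayPt) y = y) with hRE'
  have hcE' : (Finset.univ \ E).card = 24 - E.card := by
    rw [Finset.card_sdiff_of_subset (Finset.subset_univ _)]; rfl
  have hsum : RE.card + RE'.card = 24 % p := by
    rw [← hfix, ← Finset.card_union_of_disjoint]
    · congr 1
      ext y
      simp only [hRE, hRE', Finset.mem_union, Finset.mem_filter, Finset.mem_sdiff, Finset.mem_univ, true_and, mem_fixPts]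
      tauto
    · rw [Finset.disjoint_left]
      intro y hy hy'
      exact (Finset.mem_sdiff.1 (Finset.mem_filter.1 hy').1).2 (Finset.mem_filter.1 hy).1
  have h1 : E.card % p ≤ RE.card := by
    unfold Nat.ModEq at hmE
    rw [hmE]; exact Nat.mod_le _ _
  have h2 : (24 - E.card) % p ≤ RE'.card := by
    unfold Nat.ModEq at hmE'
    rw [← hcE', hmE']; exact Nat.mod_le _ _
  have hREc : RE.card = E.card % p := by omega
  have hOE : orbF L x ⊆ E := by
    intro q hq
    obtain ⟨g, hg, rfl⟩ := mem_orbF.1 hq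
    exact (hE g hg x).2 hxE
  have hdis : Disjoint R F := Finset.disjoint_of_subset_left (Finset.filter_subset _ _) (orbF_disjoint hF hx)
  have hsub : R ∪ F ⊆ RE := by
    intro y hy
    rcases Finset.mem_union.1 hy with h | h
    · exact Finset.mem_filter.2 ⟨hOE (Finset.mem_filter.1 h).1, (Finset.mem_filter.1 h).2⟩
    · exact Finset.mem_filter.2 ⟨hFE h, hF c c.2 y h⟩
  have hle := Finset.card_le_card hsub
  rw [Finset.card_union_of_disjoint hdis, hREc] at hle
  have hlt : E.card % p < p := Nat.mod_lt _ hp.pos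
  have : (orbF L x).card % p = R.card := by
    rw [hm, Nat.mod_eq_of_lt (by omega)]
  omega

theorem M11_le : Spor.M11 ≤ M24 := fun _ hg => (mem_M11.1 hg).1

abbrev DD : Finset GolayPt := Spor.squareDodecad
abbrev DD' : Finset GolayPt := Finset.univ \ Spor.squareDodecad

theorem card_DD : DD.card = 12 := card_of_mem_dodecads squareDodecad_mem
theorem card_DD' : DD'.card = 12 := card_of_mem_dodecads (compl_mem_dodecads squareDodecad_mem)
theorem zero_mem_DD : (some 0 : GolayPt) ∈ DD := by decide +kernel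

theorem M11_DD : ∀ g ∈ Spor.M11, ∀ x, g x ∈ DD ↔ x ∈ DD :=
  fun g hg x => apply_mem_iff_of_smul_eq (mem_M11.1 hg).2.1 x

theorem M11_DD' : ∀ g ∈ Spor.M11, ∀ x, g x ∈ DD' ↔ x ∈ DD' := by
  intro g hg x
  simp only [Finset.mem_sdiff, Finset.mem_univ, true_and, M11_DD g hg x]

theorem M11_fix0 : ∀ g ∈ Spor.M11, ∀ f ∈ ({some 0} : Finset GolayPt), g f = f := by
  intro g hg f hf
  rw [Finset.mem_singleton.1 hf]
  exact (mem_M11.1 hg).2.2

theorem M11_trans_compl {p q : GolayPt} (hp : p ∈ DD') (hq : q ∈ DD') : ∃ g ∈ Spor.M11, g p = q := by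
  obtain ⟨x, hx, hxs, hx0⟩ := exists_five_in_of_mem (s := DD') (by rw [card_DD']; norm_num) hp
  obtain ⟨y, hy, hys, hy0⟩ := exists_five_in_of_mem (s := DD') (by rw [card_DD']; norm_num) hq
  have hinj : Function.Injective (Fin.castLE (show 3 ≤ 5 by norm_num)) := Fin.castLE_injective _
  obtain ⟨g, hg, hgd, hg0, hgi⟩ := M11_three_trans squareDodecad_mem zero_mem_DD
    (x ∘ Fin.castLE (show 3 ≤ 5 by norm_num)) (y ∘ Fin.castLE (show 3 ≤ 5 by norm_num))
    (hx.comp hinj) (hy.comp hinj)
    (fun i => by simpa using hxs (Fin.castLE (show 3 ≤ 5 by norm_num) i))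
    (fun i => by simpa using hys (Fin.castLE (show 3 ≤ 5 by norm_num) i))
  refine ⟨g, mem_M11.2 ⟨hg, hgd, hg0⟩, ?_⟩
  have := hgi 0
  simp only [Function.comp] at this
  rw [← hx0, ← hy0]
  exact this

theorem card_stabIn_M11_D {y : GolayPt} (hy : y ∈ DD) (hy0 : y ≠ some 0) : Nat.card (stabIn Spor.M11 y) = 720 := by
  have h := card_stabIn_mul Spor.M11 y
  rw [card_sporM11] at h
  have h0 := card_orbF_pos Spor.M11 y
  have h1 := card_orbF_le M11_fix0 (x := y) (by simpa using hy0)
  have h11 := card_orbF_mod' M11_le M11_DD (F := {some 0}) (by simpa using zero_mem_DD) M11_fix0 hy (by simpa using hy0)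
    (p := 11) (by norm_num) (by norm_num) (by rw [card_sporM11]; norm_num) (by rw [card_DD])
  have hsub : orbF Spor.M11 y ⊆ DD := by
    intro q hq
    obtain ⟨g, hg, rfl⟩ := mem_orbF.1 hq
    exact (M11_DD g hg y).2 hy
  have h12 := Finset.card_le_card hsub
  rw [card_DD] at h11 h12
  simp only [Finset.card_singleton] at h11
  have hs : (orbF Spor.M11 y).card = 11 := by omega
  rw [hs] at h
  omega

theorem card_stabIn_M11_D' {y : GolayPt} (hy : y ∈ DD') : Nat.card (stabIn Spor.M11 y) = 660 := by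
  have h := card_stabIn_mul Spor.M11 y
  rw [card_sporM11] at h
  have hs : orbF Spor.M11 y = DD' := by
    ext q
    constructor
    · intro hq
      obtain ⟨g, hg, rfl⟩ := mem_orbF.1 hq
      exact (M11_DD' g hg y).2 hy
    · intro hq
      obtain ⟨g, hg, hgy⟩ := M11_trans_compl hy hq
      exact mem_orbF.2 ⟨g, hg, hgy⟩
  rw [hs, card_DD'] at h
  omega

/-- a subgroup acting faithfully on an orbit inside the dodecad -/
theorem card_le_factorial' {L : Subgroup (Equiv.Perm GolayPt)} (hL : L ≤ Spor.M11) {x : GolayPt} (hxD : x ∈ DD)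
    (hx0 : x ≠ some 0) (h5 : (orbF L x).card = 5) : Nat.card L ≤ 120 := by
  classical
  have hO : ∀ g : L, ∀ y, (g : Equiv.Perm GolayPt) y ∈ orbF L x ↔ y ∈ orbF L x := by
    intro g y
    constructor
    · intro h
      obtain ⟨k, hk, hky⟩ := mem_orbF.1 h
      exact mem_orbF.2 ⟨(g : Equiv.Perm GolayPt)⁻¹ * k, L.mul_mem (L.inv_mem g.2) hk, by
        show (g : Equiv.Perm GolayPt)⁻¹ (k x) = y
        rw [hky]; simp⟩
    · intro h
      obtain ⟨k, hk, rfl⟩ := mem_orbF.1 h
      exact mem_orbF.2 ⟨(g : Equiv.Perm GolayPt) * k, L.mul_mem g.2 hk, rfl⟩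
  have hF : ∀ g ∈ L, ∀ f ∈ ({some 0} : Finset GolayPt), g f = f := fun g hg => M11_fix0 g (hL hg)
  have hOD : orbF L x ⊆ DD := by
    intro q hq
    obtain ⟨g, hg, rfl⟩ := mem_orbF.1 hq
    exact (M11_DD g (hL hg) x).2 hxD
  let ρ : L → Equiv.Perm {y // y ∈ orbF L x} := fun g => (g : Equiv.Perm GolayPt).subtypePerm (hO g)
  have hinj : Function.Injective ρ := by
    intro g g' hgg
    have h1 : ∀ y ∈ orbF L x, (g : Equiv.Perm GolayPt) y = (g' : Equiv.Perm GolayPt) y := by
      intro y hy
      have := congrArg (fun σ => ((σ ⟨y, hy⟩ : {y // y ∈ orbF L x}) : GolayPt)) hgg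
      simpa [ρ] using this
    have hmem := hL (L.mul_mem (L.inv_mem g.2) g'.2)
    have h2 : (g : Equiv.Perm GolayPt)⁻¹ * g' = 1 := by
      apply eq_one_of_fix_six squareDodecad_mem (C := orbF L x ∪ {some 0}) _ _ (mem_M11.1 hmem).1 (mem_M11.1 hmem).2.1
      · intro y hy
        show (g : Equiv.Perm GolayPt)⁻¹ ((g' : Equiv.Perm GolayPt) y) = y
        rcases Finset.mem_union.1 hy with hy | hy
        · rw [← h1 y hy]; simp
        · rw [hF _ g'.2 y hy, Equiv.Perm.inv_eq_iff_eq, hF _ g.2 y hy]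
      · rw [Finset.card_union_of_disjoint (orbF_disjoint hF (by simpa using hx0)), h5]; rfl
      · exact Finset.union_subset hOD (by simpa using zero_mem_DD)
    ext1
    exact (inv_mul_eq_one.1 h2)
  have := Nat.card_le_card_of_injective ρ hinj
  rw [Nat.card_eq_fintype_card (α := Equiv.Perm _), Fintype.card_perm, Fintype.card_coe, h5] at this
  exact this

theorem M11_sub_fix_D {L : Subgroup (Equiv.Perm GolayPt)} (hL : L ≤ Spor.M11) (hc : Nat.card L = 720) :
    ∃ y, y ∈ DD ∧ y ≠ some 0 ∧ ∀ g ∈ L, g y = y := by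
  have hF : ∀ g ∈ L, ∀ f ∈ ({some 0} : Finset GolayPt), g f = f := fun g hg => M11_fix0 g (hL hg)
  have hE : ∀ g ∈ L, ∀ x, g x ∈ DD ↔ x ∈ DD := fun g hg => M11_DD g (hL hg)
  have hsub : ∀ x ∈ DD, orbF L x ⊆ DD := by
    intro x hx q hq
    obtain ⟨g, hg, rfl⟩ := mem_orbF.1 hq
    exact (hE g hg x).2 hx
  have key : ∀ x ∈ DD, x ≠ some 0 → (orbF L x).card = 1 ∨ (orbF L x).card = 6 ∨ (orbF L x).card = 10 := by
    intro x hx hx0
    have h0 := card_orbF_pos L x
    have h5 := card_orbF_mod' (hL.trans M11_le) hE (F := {some 0}) (by simpa using zero_mem_DD) hF hx (by simpa using hx0)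
      (p := 5) (by norm_num) (by norm_num) (by rw [hc]; norm_num) (by rw [card_DD])
    have hd := card_orbF_dvd L x
    have h12 : (orbF L x ∪ {some 0}).card ≤ DD.card :=
      Finset.card_le_card (Finset.union_subset (hsub x hx) (by simpa using zero_mem_DD))
    rw [Finset.card_union_of_disjoint (orbF_disjoint hF (by simpa using hx0))] at h12
    rw [card_DD] at h5 h12
    rw [hc] at hd
    simp only [Finset.card_singleton] at h5 h12
    have hne5 : (orbF L x).card ≠ 5 := by
      intro h
      have := card_le_factorial' hL hx hx0 h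
      omega
    generalize (orbF L x).card = s at h0 h5 hd h12 hne5 ⊢
    have : s ≤ 11 := by omega
    interval_cases s <;> first | omega | (exfalso; revert hd; norm_num)
  have hx1 : (some 1 : GolayPt) ∈ DD := by decide +kernel
  have hx10 : (some 1 : GolayPt) ≠ some 0 := by decide
  have hmain : 6 ≤ (orbF L (some 1)).card → ∃ y, y ∈ DD ∧ y ≠ some 0 ∧ ∀ g ∈ L, g y = y := by
    intro h6
    have hdis := orbF_disjoint hF (x := some 1) (by simpa using hx10)
    have hlt : (orbF L (some 1) ∪ {some 0}).card < DD.card := by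
      rw [Finset.card_union_of_disjoint hdis, card_DD]
      rcases key _ hx1 hx10 with h | h | h <;> rw [h] <;> simp
    obtain ⟨y, hyD, hy⟩ := Finset.exists_mem_notMem_of_card_lt_card hlt
    rw [Finset.mem_union, not_or, Finset.mem_singleton] at hy
    refine ⟨y, hyD, hy.2, fixed_of_card_orbF_eq_one ?_⟩
    have hd := orbF_disjoint_orbF hy.1
    have hd2 : Disjoint (orbF L y ∪ orbF L (some 1)) {some 0} :=
      Finset.disjoint_union_left.2 ⟨orbF_disjoint hF (by simpa using hy.2), hdis⟩
    have h12 : ((orbF L y ∪ orbF L (some 1)) ∪ {some 0}).card ≤ DD.card :=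
      Finset.card_le_card (Finset.union_subset (Finset.union_subset (hsub y hyD) (hsub _ hx1)) (by simpa using zero_mem_DD))
    rw [Finset.card_union_of_disjoint hd2, Finset.card_union_of_disjoint hd, card_DD] at h12
    simp only [Finset.card_singleton] at h12
    rcases key y hyD hy.2 with h' | h' | h'
    · exact h'
    · omega
    · omega
  rcases key _ hx1 hx10 with h | h | h
  · exact ⟨some 1, hx1, hx10, fixed_of_card_orbF_eq_one h⟩
  · exact hmain (by omega)
  · exact hmain (by omega)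

theorem M11_sub_fix_D' {L : Subgroup (Equiv.Perm GolayPt)} (hL : L ≤ Spor.M11) (hc : Nat.card L = 660) :
    ∃ y, y ∈ DD' ∧ ∀ g ∈ L, g y = y := by
  have hF : ∀ g ∈ L, ∀ f ∈ (∅ : Finset GolayPt), g f = f := by simp
  have hE : ∀ g ∈ L, ∀ x, g x ∈ DD' ↔ x ∈ DD' := fun g hg => M11_DD' g (hL hg)
  have hsub : ∀ x ∈ DD', orbF L x ⊆ DD' := by
    intro x hx q hq
    obtain ⟨g, hg, rfl⟩ := mem_orbF.1 hq
    exact (hE g hg x).2 hx
  have : Fact (Nat.Prime 2) := ⟨Nat.prime_two⟩
  obtain ⟨t, ht⟩ := exists_prime_orderOf_dvd_card' (G := L) 2 (by rw [hc]; norm_num)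
  have ht' : orderOf (t : Equiv.Perm GolayPt) = 2 := by rw [Subgroup.orderOf_coe, ht]
  obtain ⟨x, hx, htx⟩ := M11_elusive (hL t.2) (by rw [ht']; exact Nat.prime_two)
  have hxD : x ∈ DD' := by simpa using hx
  have h0 := card_orbF_pos L x
  have h11 := card_orbF_mod' (hL.trans M11_le) hE (F := ∅) (by simp) hF hxD (by simp)
      (p := 11) (by norm_num) (by norm_num) (by rw [hc]; norm_num) (by rw [card_DD'])
  have h12 := Finset.card_le_card (hsub x hxD)
  rw [card_DD'] at h11 h12
  simp only [Finset.card_empty] at h11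
  have h2 : 2 ∣ Nat.card (stabIn L x) := by
    have h1 : orderOf (⟨t, mem_stabIn.2 ⟨t.2, htx⟩⟩ : stabIn L x) = 2 := by
      rw [← Subgroup.orderOf_coe]; exact ht'
    rw [← h1]; exact orderOf_dvd_natCard _
  have hmul := card_stabIn_mul L x
  rw [hc] at hmul
  obtain ⟨m, hm⟩ := h2
  rw [hm] at hmul
  have hs : (orbF L x).card = 1 ∨ (orbF L x).card = 11 := by
    generalize (orbF L x).card = s at h0 h11 h12 hmul ⊢
    interval_cases s <;> omega
  rcases hs with hs | hs
  · exact ⟨x, hxD, fixed_of_card_orbF_eq_one hs⟩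
  · have hc1 : (DD' \ orbF L x).card = 1 := by
      rw [Finset.card_sdiff_of_subset (hsub x hxD), hs, card_DD']
    obtain ⟨z, hz⟩ := Finset.card_eq_one.1 hc1
    have hzm : z ∈ DD' \ orbF L x := by rw [hz]; simp
    rw [Finset.mem_sdiff] at hzm
    refine ⟨z, hzm.1, fun g hg => ?_⟩
    have : g z ∈ DD' \ orbF L x := by
      rw [Finset.mem_sdiff]
      refine ⟨(hE g hg z).2 hzm.1, fun h => hzm.2 ?_⟩
      obtain ⟨k, hk, hkz⟩ := mem_orbF.1 h
      exact mem_orbF.2 ⟨g⁻¹ * k, L.mul_mem (L.inv_mem hg) hk, by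
        show g⁻¹ (k x) = z
        rw [hkz]; simp⟩
    rw [hz] at this
    simpa using this

theorem stabIn_eq_of_iff {K : Subgroup (Equiv.Perm GolayPt)} {a b : GolayPt}
    (h : ∀ k : K, (k : Equiv.Perm GolayPt) a = a ↔ (k : Equiv.Perm GolayPt) b = b) : stabIn K a = stabIn K b := by
  ext g
  rw [mem_stabIn, mem_stabIn]
  constructor
  · rintro ⟨h1, h2⟩; exact ⟨h1, (h ⟨g, h1⟩).1 h2⟩
  · rintro ⟨h1, h2⟩; exact ⟨h1, (h ⟨g, h1⟩).2 h2⟩

theorem M11_sep {a b : GolayPt} (ha : a ≠ some 0) (hb : b ≠ some 0)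
    (h : ∀ k : Spor.M11, (k : Equiv.Perm GolayPt) a = a ↔ (k : Equiv.Perm GolayPt) b = b) : a = b := by
  by_contra hab
  have heq := stabIn_eq_of_iff h
  have hLK : stabIn Spor.M11 a ≤ Spor.M11 := fun g hg => (mem_stabIn.1 hg).1
  have hfixb : ∀ g ∈ stabIn Spor.M11 a, g b = b := by
    intro g hg
    rw [heq] at hg
    exact (mem_stabIn.1 hg).2
  have hb1 : (orbF (stabIn Spor.M11 a) b).card = 1 := by
    rw [Finset.card_eq_one]
    refine ⟨b, ?_⟩
    ext q
    rw [Finset.mem_singleton]
    constructor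
    · intro hq
      obtain ⟨g, hg, rfl⟩ := mem_orbF.1 hq
      exact hfixb g hg
    · rintro rfl; exact self_mem_orbF _ _
  by_cases haD : a ∈ DD
  · by_cases hbD : b ∈ DD
    · have hF : ∀ g ∈ stabIn Spor.M11 a, ∀ f ∈ ({some 0, a} : Finset GolayPt), g f = f := by
        intro g hg f hf
        simp only [Finset.mem_insert, Finset.mem_singleton] at hf
        rcases hf with rfl | rfl
        · exact (mem_M11.1 (hLK hg)).2.2
        · exact (mem_stabIn.1 hg).2
      have h5 := card_orbF_mod' (hLK.trans M11_le) (fun g hg => M11_DD g (hLK hg)) (F := {some 0, a})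
        (by
          intro f hf
          simp only [Finset.mem_insert, Finset.mem_singleton] at hf
          rcases hf with rfl | rfl
          · exact zero_mem_DD
          · exact haD) hF hbD (by simp [hb, Ne.symm hab])
        (p := 5) (by norm_num) (by norm_num) (by rw [card_stabIn_M11_D haD ha]; norm_num) (by rw [card_DD])
      rw [hb1, card_DD, Finset.card_pair (Ne.symm ha)] at h5
      omega
    · have h1 := card_stabIn_M11_D haD ha
      have h2 := card_stabIn_M11_D' (y := b) (by simpa using hbD)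
      rw [heq, h2] at h1
      omega
  · by_cases hbD : b ∈ DD
    · have h1 := card_stabIn_M11_D hbD hb
      have h2 := card_stabIn_M11_D' (y := a) (by simpa using haD)
      rw [heq, h1] at h2
      omega
    · have hF : ∀ g ∈ stabIn Spor.M11 a, ∀ f ∈ ({a} : Finset GolayPt), g f = f := by
        intro g hg f hf
        rw [Finset.mem_singleton.1 hf]
        exact (mem_stabIn.1 hg).2
      have haD' : a ∈ DD' := by simpa using haD
      have h11 := card_orbF_mod' (hLK.trans M11_le) (fun g hg => M11_DD' g (hLK hg)) (F := {a})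
        (by simpa using haD) hF (x := b) (by simpa using hbD) (by simp [Ne.symm hab])
        (p := 11) (by norm_num) (by norm_num) (by rw [card_stabIn_M11_D' haD']; norm_num) (by rw [card_DD'])
      rw [hb1, card_DD'] at h11
      simp at h11

theorem aut_M11_inner (φ : MulAut Spor.M11) : φ ∈ Cfsg.Inn Spor.M11 := by
  obtain ⟨π, hπ1, hπ2⟩ := exists_perm_of_aut Spor.M11 φ {x | x ≠ some 0}
    (by
      intro a ha g hg
      have : a = some 0 := by simpa using ha
      rw [this]; exact (mem_M11.1 hg).2.2)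
    (by
      intro x hx
      by_cases hxD : x ∈ DD
      · obtain ⟨y, hyD, hy, hfix⟩ := M11_sub_fix_D (imgStab_le Spor.M11 φ x) (by rw [card_imgStab, card_stabIn_M11_D hxD hx])
        exact ⟨y, hy, stab_iff_of_fixed Spor.M11 φ x y hfix (by rw [card_stabIn_M11_D hxD hx, card_stabIn_M11_D hyD hy])⟩
      · have hxD' : x ∈ DD' := by simpa using hxD
        obtain ⟨y, hyD, hfix⟩ := M11_sub_fix_D' (imgStab_le Spor.M11 φ x) (by rw [card_imgStab, card_stabIn_M11_D' hxD'])
        refine ⟨y, ?_, stab_iff_of_fixed Spor.M11 φ x y hfix (by rw [card_stabIn_M11_D' hxD', card_stabIn_M11_D' hyD])⟩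
        rintro rfl
        simp only [Finset.mem_sdiff, Finset.mem_univ, true_and] at hyD
        exact hyD zero_mem_DD)
    (fun a ha b hb h => M11_sep ha hb h)
  have hnorm : ∀ g ∈ Spor.M11, π * g * π⁻¹ ∈ Spor.M11 := by
    intro g hg
    rw [← hπ2 ⟨g, hg⟩]
    exact (φ ⟨g, hg⟩).2
  have hπ24 : π ∈ M24 := mem_M24_of_normalizes M11_le inM11P_spec π hnorm ts11 js11 ts11_ok js11_ok
  have hπ0 : π (some 0) = some 0 := hπ1 (some 0) (by simp)
  have hinv : ∀ g ∈ Spor.M11, g • (π⁻¹ • DD) = π⁻¹ • DD := by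
    intro g hg
    have := (mem_M11.1 (hnorm g hg)).2.1
    rw [mul_smul, mul_smul, smul_eq_iff_eq_inv_smul] at this
    exact this
  have h0A : (some 0 : GolayPt) ∈ π⁻¹ • DD := by
    rw [Finset.mem_inv_smul_finset_iff]
    show π (some 0) ∈ DD
    rw [hπ0]; exact zero_mem_DD
  have hcA : (π⁻¹ • DD).card = 12 := by rw [Finset.card_smul_finset, card_DD]
  have hA : π⁻¹ • DD = DD := by
    apply Finset.eq_of_subset_of_card_le _ (by rw [hcA, card_DD])
    intro p hp
    by_contra hpD
    have hpD' : p ∈ DD' := by simpa using hpD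
    have hsub : DD' ⊆ π⁻¹ • DD := by
      intro q hq
      obtain ⟨g, hg, hgp⟩ := M11_trans_compl hpD' hq
      rw [← hgp]
      exact (apply_mem_iff_of_smul_eq (hinv g hg) p).2 hp
    have heq := Finset.eq_of_subset_of_card_le hsub (by rw [hcA, card_DD'])
    rw [← heq] at h0A
    simp only [Finset.mem_sdiff, Finset.mem_univ, true_and] at h0A
    exact h0A zero_mem_DD
  rw [inv_smul_eq_iff] at hA
  exact mem_inn_of_conj Spor.M11 φ π (mem_M11.2 ⟨hπ24, hA.symm, hπ0⟩) hπ2

end Cfsg.Agent.Lib.Helper28
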