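/-
Certificate for a Sylow 2-subgroup of M12.
-/
import Cfsg.Agent.Lib.Helper28.Packed3
import Cfsg.Agent.Lib.Helper28.SporCard
set_option autoImplicit false
open Cfsg
open scoped Pointwise
namespace Cfsg.Agent.Lib.Helper28

def pc12 : List (ℕ × ℕ) := [(632864642136642081627092186006853712, 641945021445590187396921078342419565), (638070152771974821770593435406927913, 638070152771974821770593435406927913), (879755355343056236787865516102454784, 879755355343056236787865516102454784), (970522743141644479449838263908443331, 970522743141644479449838263908443331), (901805946905781876259537846647399459, 901805946905781876259537846647399459), (970538200134629850498503851118759113, 970538200134629850498503851118759113)]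

def cs12 : List (ℕ × ℕ) := [(845844340836112132795623473796100516, 630280479510441824633406821557701024), (927293034078452527431686573835956269, 901805946905781876259537846647399459), (735498928233964417476674590146430066, 970522743141644479449838263908443331), (850537281354183658917032495755429993, 887535726804071745733689455157739714), (720053074539592291374616023017206889, 970538200134629850498503851118759113)]

def z12 : ℕ := 970538200134629850498503851118759113

theorem pc12_ok : pcOK pc12 = true := by decide +kernel
theorem pc12_in : pc12.all (fun a => inM12P a.1) = true := by decide +kernel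
theorem z12_ok : (validP z12 && !(Nat.beq z12 idP) && memN z12 (dbl pc12)) = true := by decide +kernel
theorem cent12 : centOK pc12 z12 (dbl pc12) = true := by decide +kernel
theorem gen12 : genOK inM12P z12 pc12 cs12 = true := by decide +kernel

theorem step12_0 : stepOK (dbl pc12) [340831] [] 4 [] = true := by decide +kernel
theorem step12_1 : stepOK (dbl pc12) [340831] [4] 8 [4] = true := by decide +kernel
theorem step12_2 : stepOK (dbl pc12) [340831] [8, 4] 12 [] = true := by decide +kernel
theorem step12_3 : stepOK (dbl pc12) [340831] [12, 8, 4] 18 [] = true := by decide +kernel
theorem step12_4 : stepOK (dbl pc12) [340831] [18, 12, 8, 4] 0 [] = true := by decide +kernel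

theorem good12_0 : Good Spor.M12 (pcGrp pc12) [] := by
  have hE := pcOK_spec pc12_ok
  have hle := pcGrp_le inM12P_spec pc12_in
  apply Good.step hE hle (by intro M hM g hg p; simp only [List.mem_singleton] at hM; subst hM; exact sq_inv (mem_M12.1 hg).2 p) [] step12_0
  apply Good.step hE hle (by intro M hM g hg p; simp only [List.mem_singleton] at hM; subst hM; exact sq_inv (mem_M12.1 hg).2 p) [4] step12_1
  apply Good.step hE hle (by intro M hM g hg p; simp only [List.mem_singleton] at hM; subst hM; exact sq_inv (mem_M12.1 hg).2 p) [] step12_2
  apply Good.step hE hle (by intro M hM g hg p; simp only [List.mem_singleton] at hM; subst hM; exact sq_inv (mem_M12.1 hg).2 p) [] step12_3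
  apply Good.step hE hle (by intro M hM g hg p; simp only [List.mem_singleton] at hM; subst hM; exact sq_inv (mem_M12.1 hg).2 p) [] step12_4
  intro g hg _ _ hf
  have hg' := mem_M12.1 hg
  have : g = 1 := by
    apply eq_one_of_fix_dodecad_five squareDodecad_mem ![pt 0, pt 18, pt 12, pt 8, pt 4] (by decide) (by decide +kernel) hg'.1 (by tauto)
    intro i
    fin_cases i
    · exact hf 0 (by simp)
    · exact hf 18 (by simp)
    · exact hf 12 (by simp)
    · exact hf 8 (by simp)
    · exact hf 4 (by simp)
  rw [this]; exact Subgroup.one_mem _

end Cfsg.Agent.Lib.Helper28
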