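/-
The outer automorphism group of M12 has order two.
-/
import Cfsg.Agent.Lib.Helper28.AutPerm4
import Cfsg.Agent.Lib.Helper28.AutPerm5
import Cfsg.Agent.Lib.Helper28.SylM12
set_option autoImplicit false
open Cfsg
open scoped Pointwise
namespace Cfsg.Agent.Lib.Helper28

def ts12 : List ℕ := [978288554204297041759703153177048178, 444818125871612651929436292341051424, 809277935949924096992268200530315312, 604029926289668171748359725720537234, 970531819526550031117983620406741024, 486344571954875697559152246669816082, 610526080829918662051011351719027858, 984778730727268278909227010166961153, 975568990542510601383932054293655808, 475972774348903890139640780787452480, 897928520166891329860742550365970468, 887535726804071745733689455157739714]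
def js12 : List ℕ := [2500, 728, 3311, 3605, 3189, 2496, 2236, 720, 3230, 2383, 3770, 2959]
def sep12 : List (ℕ × ℕ) := [(470802320415230499241230803565487360, 591500642120027610650159341666087168), (316058666570362202887277327404765225, 921196274351316334773562041742526514), (653729248202970586788607245594135107, 819793864738056561010013536661801347), (796143731096483153728175560263321665, 611042506204575021149930992511860932), (796143731096483153728175560263321665, 719992070091205258228331499393459469), (897922085582751486073385394414602310, 978072856638406309752580095059736144), (840761313765641797544678222081892784, 941924535755748326280118661853225392), (237085503644920515482364808207040937, 897562955924441752520905108717191273), (898865303192711889285338664287815757, 483317840963777159530607436042895785), (840761313765641797544678222081892784, 879514179754306950165210557261090848), (596674938924510181980607745871776772, 855896831215109959862158253118006797), (235665933117764926382049585370539410,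 882014294630162327375676461511347500), (653729248202970586788607245594135107, 648579152020168247223671792659112450), (230336531827894468853602383165462563, 609627407158119631052743040684857448), (897922085582751486073385394414602310, 901821264775478303609075141383309318), (424700644535426194450712214307538020, 422744641219535656573655626393469216), (470802320415230499241230803565487360, 442946490641082245233361246518030915), (424700644535426194450712214307538020, 440629845416999171237855302352126052), (861332279304396759980425290415638531, 321257743239963317116427641848895876), (726505265927239703163374519047028841, 853258912149605162848535429255803916), (975325502040809974716035831766856713, 319555111804301844930707683407070220), (596674938924510181980607745871776772, 970531255402305735805845868108133478), (237085503644920515482364808207040937, 485783562350712523335976631441819657), (975325502040809974716035831766856713, 978308839894095481318508452051949569)]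

theorem ts12_ok : ts12.all (fun t => validP t && inM12P t && Nat.beq (pcF (fixMaskP t)) 8) = true := by
  decide +kernel
theorem js12_ok : basis = js12.map (encAux (ts12.map fixMaskP)) := by decide +kernel

def sqP (t : ℕ) : ℕ := mulP t t

theorem tb_sq (g : Equiv.Perm GolayPt) : tb (g ^ 2) = sqP (tb g) := by
  rw [pow_two, tb_mul]; rfl

theorem tb_pow4 (g : Equiv.Perm GolayPt) : tb (g ^ 4) = sqP (sqP (tb g)) := by
  rw [show g ^ 4 = (g ^ 2) ^ 2 by rw [← pow_mul], tb_sq, tb_sq]

theorem tb_pow8 (g : Equiv.Perm GolayPt) : tb (g ^ 8) = sqP (sqP (sqP (tb g))) := by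
  rw [show g ^ 8 = (g ^ 4) ^ 2 by rw [← pow_mul], tb_sq, tb_pow4]

def sepOK (inK : ℕ → Bool) (S : List (ℕ × ℕ)) (a : ℕ) : Bool :=
  validP (S.getD a (0, 0)).1 && validP (S.getD a (0, 0)).2 && inK (S.getD a (0, 0)).1 && inK (S.getD a (0, 0)).2 &&
  Nat.beq (Nat.land (fixMaskP (S.getD a (0, 0)).1) (fixMaskP (S.getD a (0, 0)).2)) (Nat.shiftLeft 1 a) &&
  Nat.beq (sqP (sqP (sqP (S.getD a (0, 0)).1))) idP && !(Nat.beq (sqP (sqP (S.getD a (0, 0)).1)) idP)

theorem sepOK_spec {K : Subgroup (Equiv.Perm GolayPt)} {inK : ℕ → Bool}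
    (hK : ∀ t, inK t = true → permP t ∈ K) {S : List (ℕ × ℕ)} (a : GolayPt) (h : sepOK inK S (idx a) = true) :
    ∃ u ∈ K, ∃ v ∈ K, u a = a ∧ v a = a ∧ (∀ b, u b = b → v b = b → b = a) ∧ u ^ 8 = 1 ∧ u ^ 4 ≠ 1 := by
  simp only [sepOK, Bool.and_eq_true, Nat.beq_eq, Bool.not_eq_true'] at h
  obtain ⟨⟨⟨⟨⟨⟨h1, h2⟩, h3⟩, h4⟩, h5⟩, h6⟩, h7⟩ := h
  set u := (S.getD (idx a) (0, 0)).1
  set v := (S.getD (idx a) (0, 0)).2
  have key : ∀ b, (permP u b = b ∧ permP v b = b) ↔ b = a := by
    intro b
    rw [← mem_fixPts, ← mem_fixPts, fixPts_eq, fixPts_eq, tb_permP h1, tb_permP h2, mem_unmask, mem_unmask,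
      ← Bool.and_eq_true, ← Nat.testBit_and]
    have h5' : fixMaskP u &&& fixMaskP v = 1 <<< idx a := h5
    rw [h5', Nat.one_shiftLeft, Nat.testBit_two_pow]
    simp only [decide_eq_true_eq]
    exact ⟨fun h => (idx_injective h).symm, fun h => by rw [h]⟩
  refine ⟨permP u, hK _ h3, permP v, hK _ h4, ((key a).2 rfl).1, ((key a).2 rfl).2,
    fun b hb1 hb2 => (key b).1 ⟨hb1, hb2⟩, ?_, ?_⟩
  · apply tb_injective
    rw [tb_pow8, tb_permP h1, tb_one, h6]
  · intro h
    have := congrArg tb h
    rw [tb_pow4, tb_permP h1, tb_one] at this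
    rw [this] at h7
    simp at h7

theorem sep12_ok : ∀ a < 24, sepOK inM12P sep12 a = true := by decide +kernel

theorem ord8_check12 : ∀ t ∈ dbl pc12, (Nat.beq (sqP (sqP t)) idP || !(Nat.beq (fixMaskP t) 0)) = true := by
  decide +kernel

theorem M12_le : Spor.M12 ≤ M24 := fun _ hg => (mem_M12.1 hg).1

/-- an element of order 8 of M12 has a fixed point -/
theorem M12_ord8_fix {u : Equiv.Perm GolayPt} (hu : u ∈ Spor.M12) (h8 : u ^ 8 = 1) (h4 : u ^ 4 ≠ 1) :
    ∃ y, u y = y := by
  obtain ⟨c, hc, hm⟩ := two_elt_conj_mem Spor.M12 inM12P_spec pc12 1485 pc12_ok pc12_in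
    (by rw [card_sporM12]; rfl) (by norm_num) hu (k := 3) (by simpa using h8)
  have h := ord8_check12 _ hm
  simp only [Bool.or_eq_true, Bool.not_eq_true', Nat.beq_eq] at h
  rcases h with h | h
  · exfalso
    rw [← tb_pow4, ← tb_one] at h
    have h1 := tb_injective h
    apply h4
    rw [conj_pow] at h1
    have h3 : u ^ 4 = c⁻¹ * (c * u ^ 4 * c⁻¹) * c := by group
    rw [h3, h1]; group
  · have hne : fixPts (c * u * c⁻¹) ≠ ∅ := by
      intro h0
      have h1 := card_fixPts (c * u * c⁻¹)
      rw [h0, Finset.card_empty] at h1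
      have h2 : fixMaskP (tb (c * u * c⁻¹)) = 0 := by
        by_contra hne
        have h3 := fixPts_eq (c * u * c⁻¹)
        rw [h0] at h3
        have h4 := congrArg mask h3
        rw [mask_unmask _ (fixMaskP_lt _)] at h4
        exact hne (by rw [← h4]; rfl)
      rw [h2] at h
      simp at h
    obtain ⟨y, hy⟩ := Finset.nonempty_iff_ne_empty.2 hne
    rw [fixPts_conj] at hy
    obtain ⟨y', hy', -⟩ := Finset.mem_smul_finset.1 hy
    exact ⟨y', mem_fixPts.1 hy'⟩

/-- a subgroup of order 7920 with a large point stabilizer in an invariant 12-set fixes a point of it -/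
theorem fix_of_7920 {L : Subgroup (Equiv.Perm GolayPt)} (hL : L ≤ M24) (hc : Nat.card L = 7920)
    {E : Finset GolayPt} (hE : ∀ g ∈ L, ∀ x, g x ∈ E ↔ x ∈ E) (hE12 : E.card = 12) {y : GolayPt} (hy : y ∈ E)
    (h8 : 8 ∣ Nat.card (stabIn L y)) : ∃ z, ∀ g ∈ L, g z = z := by
  have hsub : ∀ (L' : Subgroup (Equiv.Perm GolayPt)), L' ≤ L → ∀ x ∈ E, orbF L' x ⊆ E := by
    intro L' hL' x hx q hq
    obtain ⟨g, hg, rfl⟩ := mem_orbF.1 hq
    exact (hE g (hL' hg) x).2 hx
  have hF : ∀ g ∈ L, ∀ f ∈ (∅ : Finset GolayPt), g f = f := by simp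
  have h0 := card_orbF_pos L y
  have h1 := Finset.card_le_card (hsub L le_rfl y hy)
  have h2 := card_orbF_mod hL hF (x := y) (by simp) (p := 11) (by norm_num) (by norm_num) (by rw [hc]; norm_num)
  have h3 := card_stabIn_mul L y
  rw [hE12] at h1
  simp only [Finset.card_empty] at h2
  obtain ⟨m, hm⟩ := h8
  rw [hm, hc] at h3
  have hs : (orbF L y).card = 1 ∨ (orbF L y).card = 2 ∨ (orbF L y).card = 11 := by
    generalize (orbF L y).card = s at h0 h1 h2 h3 ⊢
    interval_cases s <;> omega
  rcases hs with hs | hs | hs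
  · exact ⟨y, fixed_of_card_orbF_eq_one hs⟩
  · exfalso
    have hc' : Nat.card (stabIn L y) = 3960 := by
      have := card_stabIn_mul L y
      rw [hs, hc] at this
      omega
    have hF' : ∀ g ∈ stabIn L y, ∀ f ∈ orbF L y, g f = f := by
      intro g hg f hf
      obtain ⟨hgL, hgy⟩ := mem_stabIn.1 hg
      by_cases hfy : f = y
      · rw [hfy, hgy]
      · obtain ⟨a, b, hab, hO⟩ := Finset.card_eq_two.1 hs
        have hgf : g f ∈ orbF L y := by
          obtain ⟨k, hk, rfl⟩ := mem_orbF.1 hf
          exact mem_orbF.2 ⟨g * k, L.mul_mem hgL hk, rfl⟩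
        have hgfy : g f ≠ y := fun h => hfy (g.injective (h.trans hgy.symm))
        have hyO := self_mem_orbF L y
        rw [hO] at hf hgf hyO
        simp only [Finset.mem_insert, Finset.mem_singleton] at hf hgf hyO
        rcases hf with rfl | rfl <;> rcases hgf with h | h <;> rcases hyO with rfl | rfl <;> simp_all
    have hlt : (orbF L y).card < E.card := by rw [hs, hE12]; norm_num
    obtain ⟨x, hxE, hx⟩ := Finset.exists_mem_notMem_of_card_lt_card hlt
    have hL' : stabIn L y ≤ L := fun g hg => (mem_stabIn.1 hg).1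
    have k0 := card_orbF_pos (stabIn L y) x
    have k2 := card_orbF_mod (hL'.trans hL) hF' hx (p := 11) (by norm_num) (by norm_num) (by rw [hc']; norm_num)
    have k1 : (orbF (stabIn L y) x ∪ orbF L y).card ≤ E.card :=
      Finset.card_le_card (Finset.union_subset (hsub _ hL' x hxE) (hsub L le_rfl y hy))
    rw [Finset.card_union_of_disjoint (orbF_disjoint hF' hx), hs, hE12] at k1
    rw [hs] at k2
    omega
  · have hc1 : (E \ orbF L y).card = 1 := by
      rw [Finset.card_sdiff_of_subset (hsub L le_rfl y hy), hs, hE12]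
    obtain ⟨z, hz⟩ := Finset.card_eq_one.1 hc1
    refine ⟨z, fun g hg => ?_⟩
    have hzm : z ∈ E \ orbF L y := by rw [hz]; simp
    rw [Finset.mem_sdiff] at hzm
    have : g z ∈ E \ orbF L y := by
      rw [Finset.mem_sdiff]
      refine ⟨(hE g hg z).2 hzm.1, fun h => hzm.2 ?_⟩
      obtain ⟨k, hk, hkz⟩ := mem_orbF.1 h
      exact mem_orbF.2 ⟨g⁻¹ * k, L.mul_mem (L.inv_mem hg) hk, by
        show g⁻¹ (k y) = z
        rw [hkz]; simp⟩
    rw [hz] at this
    simpa using this

theorem M12_sub_fix {L : Subgroup (Equiv.Perm GolayPt)} (hL : L ≤ Spor.M12) (hc : Nat.card L = 7920)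
    {u : Equiv.Perm GolayPt} (hu : u ∈ L) (h8 : u ^ 8 = 1) (h4 : u ^ 4 ≠ 1) : ∃ z, ∀ g ∈ L, g z = z := by
  obtain ⟨y, hy⟩ := M12_ord8_fix (hL hu) h8 h4
  have ho : orderOf u = 2 ^ (2 + 1) := orderOf_eq_prime_pow (by simpa using h4) (by simpa using h8)
  have hd : 8 ∣ Nat.card (stabIn L y) := by
    have h1 : orderOf (⟨u, mem_stabIn.2 ⟨hu, hy⟩⟩ : stabIn L y) = 8 := by
      rw [← Subgroup.orderOf_coe]; exact ho
    rw [← h1]; exact orderOf_dvd_natCard _
  have hD : ∀ g ∈ L, ∀ x, g x ∈ Spor.squareDodecad ↔ x ∈ Spor.squareDodecad :=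
    fun g hg x => apply_mem_iff_of_smul_eq (mem_M12.1 (hL hg)).2 x
  by_cases hyD : y ∈ Spor.squareDodecad
  · exact fix_of_7920 (hL.trans M12_le) hc hD (card_of_mem_dodecads squareDodecad_mem) hyD hd
  · apply fix_of_7920 (hL.trans M12_le) hc (E := Finset.univ \ Spor.squareDodecad) _
      (card_of_mem_dodecads (compl_mem_dodecads squareDodecad_mem)) (by simpa using hyD) hd
    intro g hg x
    simp only [Finset.mem_sdiff, Finset.mem_univ, true_and, hD g hg x]

theorem card_stabIn_M12 (y : GolayPt) : Nat.card (stabIn Spor.M12 y) = 7920 := by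
  by_cases hyD : y ∈ Spor.squareDodecad
  · rw [← card_stab_dodecad_pt squareDodecad_mem hyD]
    apply card_eq_of_map
    intro g
    rw [mem_stabIn, mem_M12]
    constructor
    · rintro ⟨⟨h1, h2⟩, h3⟩; exact ⟨h1, h2, h3⟩
    · rintro ⟨h1, h2, h3⟩; exact ⟨⟨h1, h2⟩, h3⟩
  · rw [← card_stab_dodecad_pt (compl_mem_dodecads squareDodecad_mem) (p := y) (by simpa using hyD)]
    apply card_eq_of_map
    intro g
    rw [mem_stabIn, mem_M12]
    constructor
    · rintro ⟨⟨h1, h2⟩, h3⟩; exact ⟨h1, (smul_eq_iff_compl g _).2 h2, h3⟩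
    · rintro ⟨h1, h2, h3⟩; exact ⟨⟨h1, (smul_eq_iff_compl g _).1 h2⟩, h3⟩

theorem M12_sep {a b : GolayPt}
    (h : ∀ k : Spor.M12, (k : Equiv.Perm GolayPt) a = a ↔ (k : Equiv.Perm GolayPt) b = b) : a = b := by
  obtain ⟨u, hu, v, hv, hua, hva, huv, -, -⟩ := sepOK_spec inM12P_spec a (sep12_ok _ (idx_lt a))
  exact (huv b ((h ⟨u, hu⟩).1 hua) ((h ⟨v, hv⟩).1 hva)).symm

theorem cent_trivial_of_sep {K : Subgroup (Equiv.Perm GolayPt)}
    (hsep : ∀ a b : GolayPt, (∀ k : K, (k : Equiv.Perm GolayPt) a = a ↔ (k : Equiv.Perm GolayPt) b = b) → a = b)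
    (z : Equiv.Perm GolayPt) (hz : ∀ g ∈ K, z * g = g * z) : z = 1 := by
  apply Equiv.ext
  intro a
  symm
  show a = z a
  apply hsep
  intro k
  have h1 : z (k.1 a) = k.1 (z a) := DFunLike.congr_fun (hz k.1 k.2) a
  constructor
  · intro h; rw [h] at h1; exact h1.symm
  · intro h; rw [h] at h1; exact z.injective h1

theorem projInv_smul_compl : projInv • (Finset.univ \ Spor.squareDodecad) = Spor.squareDodecad := by
  rw [← projInv_smul_sq, ← mul_smul, projInv_sq, one_smul]

theorem projInv_conj_mem {g : Equiv.Perm GolayPt} (hg : g ∈ Spor.M12) : projInv * g * projInv ∈ Spor.M12 := by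
  obtain ⟨h1, h2⟩ := mem_M12.1 hg
  rw [mem_M12]
  refine ⟨M24.mul_mem (M24.mul_mem gamma_mem h1) gamma_mem, ?_⟩
  rw [mul_smul, mul_smul, projInv_smul_sq, (smul_eq_iff_compl g _).2 h2, projInv_smul_compl]

theorem invariant_12 {A : Finset GolayPt} (hA : A.card = 12) (hK : ∀ g ∈ Spor.M12, g • A = A) :
    A = Spor.squareDodecad ∨ A = Finset.univ \ Spor.squareDodecad := by
  by_cases h : ∃ p, p ∈ A ∧ p ∈ Spor.squareDodecad
  · left
    obtain ⟨p, hpA, hpD⟩ := h
    symm
    apply Finset.eq_of_subset_of_card_le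
    · intro q hq
      obtain ⟨g, hg, hgd, hgp⟩ := dodecad_trans_pt squareDodecad_mem hpD hq
      rw [← hgp]
      exact (apply_mem_iff_of_smul_eq (hK g (mem_M12.2 ⟨hg, hgd⟩)) p).2 hpA
    · rw [hA, card_of_mem_dodecads squareDodecad_mem]
  · right
    push Not at h
    apply Finset.eq_of_subset_of_card_le
    · intro q hq
      simpa using h q hq
    · rw [hA, card_of_mem_dodecads (compl_mem_dodecads squareDodecad_mem)]

theorem aut_M12 (φ : MulAut Spor.M12) : ∃ π : Equiv.Perm GolayPt, (π ∈ Spor.M12 ∨ π * projInv ∈ Spor.M12) ∧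
    ∀ g : Spor.M12, ((φ g : Spor.M12) : Equiv.Perm GolayPt) = π * g * π⁻¹ := by
  obtain ⟨π, -, hπ2⟩ := exists_perm_of_aut Spor.M12 φ Set.univ
    (by intro a ha; exact absurd (Set.mem_univ a) ha)
    (by
      intro x _
      obtain ⟨u, hu, -, -, hux, -, -, hu8, hu4⟩ := sepOK_spec inM12P_spec x (sep12_ok _ (idx_lt x))
      obtain ⟨y, hfix⟩ := M12_sub_fix (imgStab_le Spor.M12 φ x) (by rw [card_imgStab, card_stabIn_M12 x])
        (u := ((φ ⟨u, hu⟩ : Spor.M12) : Equiv.Perm GolayPt)) (mem_imgStab.2 ⟨⟨u, hu⟩, hux, rfl⟩)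
        (by
          rw [← Subgroup.coe_pow, ← map_pow]
          have : (⟨u, hu⟩ : Spor.M12) ^ 8 = 1 := by ext1; exact hu8
          rw [this, map_one]; rfl)
        (by
          rw [← Subgroup.coe_pow, ← map_pow]
          intro h
          have h1 : φ ((⟨u, hu⟩ : Spor.M12) ^ 4) = 1 := by ext1; exact h
          have h2 : (⟨u, hu⟩ : Spor.M12) ^ 4 = 1 := by
            apply φ.injective; rw [h1, map_one]
          exact hu4 (congrArg Subtype.val h2))
      exact ⟨y, Set.mem_univ y, stab_iff_of_fixed Spor.M12 φ x y hfix (by rw [card_stabIn_M12 x, card_stabIn_M12 y])⟩)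
    (fun a _ b _ h => M12_sep h)
  have hnorm : ∀ g ∈ Spor.M12, π * g * π⁻¹ ∈ Spor.M12 := by
    intro g hg
    rw [← hπ2 ⟨g, hg⟩]
    exact (φ ⟨g, hg⟩).2
  have hπ24 : π ∈ M24 := mem_M24_of_normalizes M12_le inM12P_spec π hnorm ts12 js12 ts12_ok js12_ok
  refine ⟨π, ?_, hπ2⟩
  have hinv : ∀ g ∈ Spor.M12, g • (π⁻¹ • Spor.squareDodecad) = π⁻¹ • Spor.squareDodecad := by
    intro g hg
    have := (mem_M12.1 (hnorm g hg)).2
    rw [mul_smul, mul_smul, smul_eq_iff_eq_inv_smul] at this
    exact this
  rcases invariant_12 (by rw [Finset.card_smul_finset, card_of_mem_dodecads squareDodecad_mem]) hinv with h | h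
  · left
    rw [mem_M12]
    refine ⟨hπ24, ?_⟩
    rw [inv_smul_eq_iff] at h
    exact h.symm
  · right
    rw [mem_M12]
    refine ⟨M24.mul_mem hπ24 gamma_mem, ?_⟩
    rw [inv_smul_eq_iff] at h
    rw [mul_smul, projInv_smul_sq]
    exact h.symm

theorem card_out_M12 : Nat.card (Cfsg.Out Spor.M12) = 2 := by
  apply card_out_eq_two Spor.M12 ⊤ projInv (Subgroup.mem_top _) le_top
  · intro g hg
    rw [projInv_inv]; exact projInv_conj_mem hg
  · intro g hg
    rw [projInv_inv]; exact projInv_conj_mem hg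
  · intro h
    have h1 := (mem_M12.1 h).2
    rw [projInv_smul_sq] at h1
    have h2 : (some 0 : GolayPt) ∈ Spor.squareDodecad := by decide +kernel
    have h3 := h2
    rw [← h1] at h3
    simp only [Finset.mem_sdiff, Finset.mem_univ, true_and] at h3
    exact h3 h2
  · intro z _ hz
    exact cent_trivial_of_sep (fun a b h => M12_sep h) z hz
  · intro φ
    obtain ⟨π, h1, h2⟩ := aut_M12 φ
    exact ⟨π, Subgroup.mem_top _, h1, h2⟩

end Cfsg.Agent.Lib.Helper28
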