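/-
Towards Out(M22): a duality lemma for the Golay code and a bound for subgroups with a short orbit.
-/
import Cfsg.Agent.Lib.Helper28.AutPerm3
import Cfsg.Agent.Lib.Helper28.SporCard
set_option autoImplicit false
open Cfsg
open scoped Pointwise
namespace Cfsg.Agent.Lib.Helper28

def ts22 : List ℕ := [968937098005209565020735710859217248, 971094620594707353096742976344466464, 984805329143595020694614473516885024, 971831906556639814782494892022537248, 959951653840603512340169225130412288, 958817462907112790803957875959224800, 984798556216254023989692776901332160, 984815434334561325912895118470422688, 980193972787924775260666174632530368, 958572087258221335466802466369198688, 974027552735757545258125379239413792]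
def o22 : ℕ := 8394986
def js22 : List ℕ := [3330, 596, 3123, 1280, 2182, 2818, 2578, 771, 1026, 1886, 2650, 1282]
def B22 : List ℕ := [9048457, 8421811, 14716939, 10496547, 9830549, 9193633, 14950785, 14747201, 9440193, 9607201, 9471495]
def e22 : ℕ := 8388609

theorem ts22_ok : ts22.all (fun t => validP t && inM22P t && Nat.beq (pcF (fixMaskP t)) 8) = true := by
  decide +kernel
theorem B22_eq : B22 = ts22.map fixMaskP := by decide +kernel
theorem js22_ok : basis = js22.map (encAux (B22 ++ [o22])) := by decide +kernel

theorem dual_check : allBelow (fun r => !(B22.all (fun b => Nat.beq (pcF (Nat.land r b) % 2) 0)) || isCodeF r ||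
    isCodeF (Nat.xor r e22)) 4096 = true := by decide +kernel

theorem even_inter_symmDiff {A B b : Finset GolayPt} (hA : Even (A ∩ b).card) (hB : Even (B ∩ b).card) :
    Even (symmDiff A B ∩ b).card := by
  have h1 : symmDiff A B ∩ b = symmDiff (A ∩ b) (B ∩ b) := inf_symmDiff_distrib_right A B b
  have h2 := card_symmDiff_add (A ∩ b) (B ∩ b)
  rw [h1]
  obtain ⟨x, hx⟩ := hA
  obtain ⟨y, hy⟩ := hB
  rw [Nat.even_iff]
  omega

theorem B22_lt : ∀ b ∈ B22, b < 2 ^ 24 := by decide +kernel
theorem B22_code : ∀ b ∈ B22, isCode b = true := by decide +kernel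

/-- a set meeting evenly all octads through the two points is a code word, possibly after switching the two points -/
theorem dual22 (V : Finset GolayPt) (h : ∀ b ∈ B22, Even (V ∩ unmask b).card) :
    IsC V ∨ IsC (symmDiff V (unmask e22)) := by
  have hm := mask_lt V
  have hj : mask V >>> 12 < 4096 := by
    rw [Nat.shiftRight_eq_div_pow]
    exact Nat.div_lt_of_lt_mul (by norm_num at hm ⊢; exact hm)
  have hc := isCode_enc _ hj
  have hclt := enc_lt _ hj
  set c := enc (mask V >>> 12) with hcdef
  have hCC : IsC (unmask c) := by rw [isC_iff, mask_unmask _ hclt]; exact hc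
  set R := symmDiff V (unmask c) with hR
  have hRm : mask R = mask V ^^^ c := by rw [hR, mask_symmDiff, mask_unmask _ hclt]
  have hRlt : mask R < 4096 := by
    have h1 : mask R >>> 12 = 0 := by
      rw [hRm, Nat.shiftRight_xor_distrib, hcdef, enc_shiftRight _ hj, Nat.xor_self]
    rw [Nat.shiftRight_eq_div_pow] at h1
    have := (Nat.div_eq_zero_iff).1 h1
    omega
  have hRe : ∀ b ∈ B22, Even (R ∩ unmask b).card := by
    intro b hb
    apply even_inter_symmDiff (h b hb)
    obtain ⟨a, ha⟩ := isC_inter_even hCC (t := unmask b) (by rw [isC_iff, mask_unmask _ (B22_lt b hb)]; exact B22_code b hb)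
    exact ⟨a, by omega⟩
  have hchk := allBelow_spec dual_check _ hRlt
  simp only [Bool.or_eq_true, Bool.not_eq_true'] at hchk
  have hV : V = symmDiff R (unmask c) := by rw [hR, symmDiff_symmDiff_cancel_right]
  rcases hchk with (hchk | hchk) | hchk
  · exfalso
    have : B22.all (fun b => Nat.beq (pcF (Nat.land (mask R) b) % 2) 0) = true := by
      rw [List.all_eq_true]
      intro b hb
      have h1 := hRe b hb
      rw [card_eq_pcF, mask_inter, mask_unmask _ (B22_lt b hb), Nat.even_iff] at h1
      rw [Nat.beq_eq]
      exact h1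
    rw [this] at hchk
    exact absurd hchk (by simp)
  · left
    rw [isCodeF_eq (mask_lt R)] at hchk
    rw [hV]
    exact isC_symmDiff ((isC_iff R).2 hchk) hCC
  · right
    have hlt : Nat.xor (mask R) e22 < 2 ^ 24 := Nat.xor_lt_two_pow (mask_lt R) (by norm_num [e22])
    rw [isCodeF_eq hlt] at hchk
    have h1 : IsC (symmDiff R (unmask e22)) := by
      rw [isC_iff, mask_symmDiff, mask_unmask _ (by norm_num [e22])]
      exact hchk
    have h2 : symmDiff V (unmask e22) = symmDiff (symmDiff R (unmask e22)) (unmask c) := by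
      have gen : ∀ (A B C : Finset GolayPt), symmDiff (symmDiff A B) C = symmDiff (symmDiff A C) B := by
        intro A B C
        rw [symmDiff_assoc, symmDiff_assoc, symmDiff_comm B]
      have h3 := gen R (unmask c) (unmask e22)
      rw [← hV] at h3
      exact h3
    rw [h2]
    exact isC_symmDiff h1 hCC

/-- a subgroup of M24 acting faithfully on an orbit -/
theorem card_le_factorial {L : Subgroup (Equiv.Perm GolayPt)} (hL : L ≤ M24) {F : Finset GolayPt}
    (hF : ∀ g ∈ L, ∀ f ∈ F, g f = f) {x : GolayPt} (hx : x ∉ F) (h9 : 9 ≤ (orbF L x).card + F.card) :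
    Nat.card L ≤ ((orbF L x).card).factorial := by
  classical
  have hO : ∀ g : L, ∀ y, (g : Equiv.Perm GolayPt) y ∈ orbF L x ↔ y ∈ orbF L x := by
    intro g y
    constructor
    · intro h
      obtain ⟨k, hk, hky⟩ := mem_orbF.1 h
      exact mem_orbF.2 ⟨(g : Equiv.Perm GolayPt)⁻¹ * k, L.mul_mem (L.inv_mem g.2) hk, by
        show (g : Equiv.Perm GolayPt)⁻¹ (k x) = y
        rw [hky]; simp⟩
    · intro h
      obtain ⟨k, hk, rfl⟩ := mem_orbF.1 h
      exact mem_orbF.2 ⟨(g : Equiv.Perm GolayPt) * k, L.mul_mem g.2 hk, rfl⟩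
  let ρ : L → Equiv.Perm {y // y ∈ orbF L x} := fun g => (g : Equiv.Perm GolayPt).subtypePerm (hO g)
  have hinj : Function.Injective ρ := by
    intro g g' hgg
    have h1 : ∀ y ∈ orbF L x, (g : Equiv.Perm GolayPt) y = (g' : Equiv.Perm GolayPt) y := by
      intro y hy
      have := congrArg (fun σ => ((σ ⟨y, hy⟩ : {y // y ∈ orbF L x}) : GolayPt)) hgg
      simpa [ρ] using this
    have h2 : (g : Equiv.Perm GolayPt)⁻¹ * g' = 1 := by
      apply eq_one_of_nine_fixed (hL (L.mul_mem (L.inv_mem g.2) g'.2))
      refine h9.trans ?_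
      rw [← Finset.card_union_of_disjoint (orbF_disjoint hF hx)]
      apply Finset.card_le_card
      intro y hy
      rw [mem_fixPts]
      show (g : Equiv.Perm GolayPt)⁻¹ ((g' : Equiv.Perm GolayPt) y) = y
      rcases Finset.mem_union.1 hy with hy | hy
      · rw [← h1 y hy]; simp
      · rw [hF _ g'.2 y hy, Equiv.Perm.inv_eq_iff_eq, hF _ g.2 y hy]
    ext1
    exact (inv_mul_eq_one.1 h2)
  have := Nat.card_le_card_of_injective ρ hinj
  rw [Nat.card_eq_fintype_card (α := Equiv.Perm _), Fintype.card_perm, Fintype.card_coe] at this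
  exact this

end Cfsg.Agent.Lib.Helper28
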