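/-
The outer automorphism group of M22 has order two.
-/
import Cfsg.Agent.Lib.Helper28.OutM22a
import Cfsg.Agent.Lib.Helper28.AutPerm5
set_option autoImplicit false
open Cfsg
open scoped Pointwise
namespace Cfsg.Agent.Lib.Helper28

theorem M22_le : Spor.M22 ≤ M24 := fun _ hg => (mem_M22.1 hg).1

def F22 : Finset GolayPt := {none, some 0}

theorem mem_F22 {x : GolayPt} : x ∈ F22 ↔ x = none ∨ x = some 0 := by simp [F22]

theorem M22_fix : ∀ g ∈ Spor.M22, ∀ f ∈ F22, g f = f := by
  intro g hg f hf
  rcases mem_F22.1 hf with rfl | rfl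
  · exact (mem_M22.1 hg).2.1
  · exact (mem_M22.1 hg).2.2

theorem card_F22 : F22.card = 2 := rfl

theorem card_stabIn_M22 {y : GolayPt} (hy : y ∉ F22) : Nat.card (stabIn Spor.M22 y) = 20160 := by
  have h := card_stabIn_mul Spor.M22 y
  rw [card_sporM22] at h
  have h0 := card_orbF_pos Spor.M22 y
  have h1 := card_orbF_le M22_fix hy
  have h11 := card_orbF_mod M22_le M22_fix hy (p := 11) (by norm_num) (by norm_num) (by rw [card_sporM22]; norm_num)
  have h7 := card_orbF_mod M22_le M22_fix hy (p := 7) (by norm_num) (by norm_num) (by rw [card_sporM22]; norm_num)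
  rw [card_F22] at h1 h11 h7
  have hs : (orbF Spor.M22 y).card = 22 := by
    generalize (orbF Spor.M22 y).card = s at h0 h1 h11 h7
    have : s ≤ 22 := by omega
    interval_cases s <;> omega
  rw [hs] at h
  omega

theorem num22 {s : ℕ} (h0 : 0 < s) (h1 : s + 2 ≤ 24) (h7 : s % 7 + 2 ≤ 24 % 7) (h5 : s % 5 + 2 ≤ 24 % 5)
    (hd : s ∣ 20160) : s = 1 ∨ s = 7 ∨ s = 15 ∨ s = 21 := by
  have : s ≤ 22 := by omega
  interval_cases s <;> first | omega | (exfalso; revert hd; norm_num)

theorem M22_sub_fix {L : Subgroup (Equiv.Perm GolayPt)} (hL : L ≤ Spor.M22) (hc : Nat.card L = 20160) :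
    ∃ y, y ∉ F22 ∧ ∀ g ∈ L, g y = y := by
  have hF : ∀ g ∈ L, ∀ f ∈ F22, g f = f := fun g hg => M22_fix g (hL hg)
  have key : ∀ x : GolayPt, x ∉ F22 → (orbF L x).card = 1 ∨ (orbF L x).card = 15 ∨ (orbF L x).card = 21 := by
    intro x hx
    have h := num22 (card_orbF_pos L x) (by simpa [card_F22] using card_orbF_le hF hx)
      (by simpa [card_F22] using card_orbF_mod (hL.trans M22_le) hF hx (p := 7) (by norm_num) (by norm_num) (by rw [hc]; norm_num))
      (by simpa [card_F22] using card_orbF_mod (hL.trans M22_le) hF hx (p := 5) (by norm_num) (by norm_num) (by rw [hc]; norm_num))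
      (by rw [← hc]; exact card_orbF_dvd L x)
    rcases h with h | h | h | h
    · exact Or.inl h
    · exfalso
      have := card_le_factorial (hL.trans M22_le) hF hx (by rw [h, card_F22])
      rw [h, hc] at this
      norm_num [Nat.factorial] at this
    · exact Or.inr (Or.inl h)
    · exact Or.inr (Or.inr h)
  have hx0 : (some 1 : GolayPt) ∉ F22 := by decide
  have hmain : 15 ≤ (orbF L (some 1)).card → ∃ y, y ∉ F22 ∧ ∀ g ∈ L, g y = y := by
    intro h15
    have hle := card_orbF_le hF hx0
    have hlt : (orbF L (some 1) ∪ F22).card < (Finset.univ : Finset GolayPt).card := by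
      rw [Finset.card_union_of_disjoint (orbF_disjoint hF hx0)]
      have h24 : (Finset.univ : Finset GolayPt).card = 24 := rfl
      rcases key _ hx0 with h | h | h <;> rw [h, card_F22, h24] <;> norm_num
    obtain ⟨y, -, hy⟩ := Finset.exists_mem_notMem_of_card_lt_card hlt
    rw [Finset.mem_union, not_or] at hy
    refine ⟨y, hy.2, fixed_of_card_orbF_eq_one ?_⟩
    have hd := orbF_disjoint_orbF hy.1
    have hd2 : Disjoint (orbF L y ∪ orbF L (some 1)) F22 :=
      Finset.disjoint_union_left.2 ⟨orbF_disjoint hF hy.2, orbF_disjoint hF hx0⟩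
    have := Finset.card_le_univ ((orbF L y ∪ orbF L (some 1)) ∪ F22)
    rw [Finset.card_union_of_disjoint hd2, Finset.card_union_of_disjoint hd, card_F22] at this
    have h24 : Fintype.card GolayPt = 24 := rfl
    rcases key y hy.2 with h' | h' | h'
    · exact h'
    · omega
    · omega
  rcases key _ hx0 with h | h | h
  · exact ⟨some 1, hx0, fixed_of_card_orbF_eq_one h⟩
  · exact hmain (by omega)
  · exact hmain (by omega)

theorem M22_sep {a b : GolayPt} (ha : a ∉ F22) (hb : b ∉ F22)
    (h : ∀ k : Spor.M22, (k : Equiv.Perm GolayPt) a = a ↔ (k : Equiv.Perm GolayPt) b = b) : a = b := by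
  by_contra hab
  rw [mem_F22, not_or] at ha hb
  obtain ⟨c, hc⟩ : ∃ c : GolayPt, c ∉ ({none, some 0, a, b} : Finset GolayPt) := by
    by_contra hcon
    push Not at hcon
    have : (Finset.univ : Finset GolayPt) ⊆ {none, some 0, a, b} := fun x _ => hcon x
    have h1 := Finset.card_le_card this
    have h2 : ({none, some 0, a, b} : Finset GolayPt).card ≤ 4 := Finset.card_le_four
    have h3 : (Finset.univ : Finset GolayPt).card = 24 := rfl
    omega
  simp only [Finset.mem_insert, Finset.mem_singleton, not_or] at hc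
  obtain ⟨g, hg, hgi⟩ := M24_trans_tuple (k := 4) (by norm_num) ![none, some 0, a, b] ![none, some 0, a, c]
    (by
      intro i j hij
      fin_cases i <;> fin_cases j <;> simp_all [eq_comm])
    (by
      intro i j hij
      fin_cases i <;> fin_cases j <;> simp_all [eq_comm])
  have h0 : g none = none := hgi 0
  have h0' : g (some 0) = some 0 := hgi 1
  have h1 : g a = a := hgi 2
  have h2 : g b = c := hgi 3
  have := (h ⟨g, mem_M22.2 ⟨hg, h0, h0'⟩⟩).1 h1
  exact hc.2.2.2 (by rw [← h2]; exact this)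

theorem isC_smul_B22 (σ : Equiv.Perm GolayPt) (hσ : ∀ g ∈ Spor.M22, σ * g * σ⁻¹ ∈ Spor.M22) :
    ∀ b ∈ B22, IsC (σ • unmask b) := by
  intro b hb
  rw [B22_eq] at hb
  obtain ⟨t, ht, rfl⟩ := List.mem_map.1 hb
  have := List.all_eq_true.1 ts22_ok t ht
  simp only [Bool.and_eq_true, Nat.beq_eq] at this
  obtain ⟨⟨hv, hin⟩, h8⟩ := this
  have hm := M22_le (hσ _ (inM22P_spec t hin))
  have hc : (fixPts (σ * permP t * σ⁻¹)).card = 8 := by
    rw [fixPts_conj, Finset.card_smul_finset, card_fixPts, tb_permP hv, h8]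
  have ho := fixPts_mem_octads hm hc
  rw [fixPts_conj, fixPts_eq, tb_permP hv, mem_octads_iff] at ho
  exact (isC_iff _).2 ho.1

theorem o22_lt : o22 < 2 ^ 24 := by norm_num [o22]

theorem mem_M24_of_isC (σ : Equiv.Perm GolayPt) (h : ∀ b ∈ B22, IsC (σ • unmask b))
    (h' : IsC (σ • unmask o22)) : σ ∈ M24 := by
  apply mem_M24_of_basis
  intro b hb
  rw [js22_ok] at hb
  obtain ⟨j, -, rfl⟩ := List.mem_map.1 hb
  apply isCode_pm_encAux
  intro b hb
  rcases List.mem_append.1 hb with hb | hb
  · have := h b hb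
    rwa [isC_iff, mask_smul, mask_unmask _ (B22_lt b hb)] at this
  · rw [List.mem_singleton] at hb
    subst hb
    rwa [isC_iff, mask_smul, mask_unmask _ o22_lt] at h'

def tau22 : Equiv.Perm GolayPt := Equiv.swap none (some 0)

theorem unmask_e22 : unmask e22 = F22 := by decide +kernel

theorem mem_tau_smul (S : Finset GolayPt) (p : GolayPt) : p ∈ tau22 • S ↔ tau22 p ∈ S := by
  rw [← Finset.inv_smul_mem_iff]
  have : tau22⁻¹ = tau22 := Equiv.swap_inv _ _
  rw [this]; rfl

theorem tau_smul_of_both {S : Finset GolayPt} (h1 : none ∈ S) (h2 : some 0 ∈ S) : tau22 • S = S := by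
  ext p
  rw [mem_tau_smul]
  by_cases hp1 : p = none
  · subst hp1
    simp [tau22, h1, h2]
  · by_cases hp2 : p = some 0
    · subst hp2
      simp [tau22, h1, h2]
    · rw [tau22, Equiv.swap_apply_of_ne_of_ne hp1 hp2]

theorem tau_smul_of_one {S : Finset GolayPt} (h1 : none ∈ S) (h2 : some 0 ∉ S) :
    tau22 • S = symmDiff S (unmask e22) := by
  ext p
  rw [mem_tau_smul, unmask_e22, Finset.mem_symmDiff, mem_F22]
  by_cases hp1 : p = none
  · subst hp1
    simp [tau22, h1, h2]
  · by_cases hp2 : p = some 0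
    · subst hp2
      simp [tau22, h1, h2]
    · rw [tau22, Equiv.swap_apply_of_ne_of_ne hp1 hp2]
      simp [hp1, hp2]

theorem tau_comm {g : Equiv.Perm GolayPt} (h1 : g none = none) (h2 : g (some 0) = some 0) :
    g * tau22 = tau22 * g := by
  have := Equiv.mul_swap_eq_swap_mul g none (some 0)
  rw [h1, h2] at this
  exact this

def w22 : Equiv.Perm GolayPt := tau22 * projInv

theorem projInv_none : projInv none = some 0 := by decide +kernel
theorem projInv_zero : projInv (some 0) = none := by decide +kernel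

theorem B22_both : ∀ b ∈ B22, (none : GolayPt) ∈ unmask b ∧ (some 0 : GolayPt) ∈ unmask b := by decide +kernel
theorem o22_one : (none : GolayPt) ∈ unmask o22 ∧ (some 0 : GolayPt) ∉ unmask o22 := by decide +kernel
theorem o22_code : isCode o22 = true := by decide +kernel

theorem mem_smul_of_fixed {π : Equiv.Perm GolayPt} {p : GolayPt} (h : π p = p) (S : Finset GolayPt) :
    p ∈ π • S ↔ p ∈ S := by
  conv_lhs => rw [← h]
  exact Finset.smul_mem_smul_finset_iff π

theorem aut_M22 (φ : MulAut Spor.M22) : ∃ π : Equiv.Perm GolayPt, (π none = none ∧ π (some 0) = some 0) ∧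
    (π ∈ Spor.M22 ∨ π * w22 ∈ Spor.M22) ∧
    ∀ g : Spor.M22, ((φ g : Spor.M22) : Equiv.Perm GolayPt) = π * g * π⁻¹ := by
  obtain ⟨π, hπ1, hπ2⟩ := exists_perm_of_aut Spor.M22 φ {x | x ∉ F22}
    (by
      intro a ha g hg
      have : a ∈ F22 := by simpa using ha
      exact M22_fix g hg a this)
    (by
      intro x hx
      obtain ⟨y, hy, hfix⟩ := M22_sub_fix (imgStab_le Spor.M22 φ x) (by rw [card_imgStab, card_stabIn_M22 hx])
      exact ⟨y, hy, stab_iff_of_fixed Spor.M22 φ x y hfix (by rw [card_stabIn_M22 hx, card_stabIn_M22 hy])⟩)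
    (fun a ha b hb h => M22_sep ha hb h)
  have hp1 : π none = none := hπ1 none (by simp [F22])
  have hp2 : π (some 0) = some 0 := hπ1 (some 0) (by simp [F22])
  refine ⟨π, ⟨hp1, hp2⟩, ?_, hπ2⟩
  have hnorm : ∀ g ∈ Spor.M22, π * g * π⁻¹ ∈ Spor.M22 := by
    intro g hg
    rw [← hπ2 ⟨g, hg⟩]
    exact (φ ⟨g, hg⟩).2
  have hnorm' : ∀ g ∈ Spor.M22, π⁻¹ * g * π⁻¹⁻¹ ∈ Spor.M22 := by
    intro g hg
    have h1 := hπ2 (φ.symm ⟨g, hg⟩)
    rw [MulEquiv.apply_symm_apply] at h1
    have h2 : π⁻¹ * g * π⁻¹⁻¹ = ((φ.symm ⟨g, hg⟩ : Spor.M22) : Equiv.Perm GolayPt) := by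
      have h3 : g = π * ((φ.symm ⟨g, hg⟩ : Spor.M22) : Equiv.Perm GolayPt) * π⁻¹ := h1
      conv_lhs => rw [h3]
      group
    rw [h2]
    exact (φ.symm ⟨g, hg⟩).2
  have hB := isC_smul_B22 π hnorm
  have hB' := isC_smul_B22 π⁻¹ hnorm'
  have hO : IsC (unmask o22) := by rw [isC_iff, mask_unmask _ o22_lt]; exact o22_code
  have hev : ∀ b ∈ B22, Even ((π • unmask o22) ∩ unmask b).card := by
    intro b hb
    have h1 : (π • unmask o22) ∩ unmask b = π • (unmask o22 ∩ π⁻¹ • unmask b) := by
      rw [Finset.smul_finset_inter, smul_inv_smul]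
    rw [h1, Finset.card_smul_finset]
    obtain ⟨a, ha⟩ := isC_inter_even hO (hB' b hb)
    exact ⟨a, by omega⟩
  rcases dual22 _ hev with h | h
  · left
    exact mem_M22.2 ⟨mem_M24_of_isC π hB h, hp1, hp2⟩
  · right
    have hτπ : tau22 * π ∈ M24 := by
      apply mem_M24_of_isC
      · intro b hb
        rw [mul_smul, tau_smul_of_both ((mem_smul_of_fixed hp1 _).2 (B22_both b hb).1)
          ((mem_smul_of_fixed hp2 _).2 (B22_both b hb).2)]
        exact hB b hb
      · rw [mul_smul, tau_smul_of_one ((mem_smul_of_fixed hp1 _).2 o22_one.1)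
          (fun h => o22_one.2 ((mem_smul_of_fixed hp2 _).1 h))]
        exact h
    rw [mem_M22]
    refine ⟨?_, ?_, ?_⟩
    · rw [w22, ← mul_assoc, tau_comm hp1 hp2]
      exact M24.mul_mem hτπ gamma_mem
    · show π (tau22 (projInv none)) = none
      rw [projInv_none]
      simp [tau22, hp1]
    · show π (tau22 (projInv (some 0))) = some 0
      rw [projInv_zero]
      simp [tau22, hp2]

theorem projInv_conj_mem22 {g : Equiv.Perm GolayPt} (hg : g ∈ Spor.M22) : projInv * g * projInv ∈ Spor.M22 := by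
  obtain ⟨h1, h2, h3⟩ := mem_M22.1 hg
  rw [mem_M22]
  refine ⟨M24.mul_mem (M24.mul_mem gamma_mem h1) gamma_mem, ?_, ?_⟩
  · show projInv (g (projInv none)) = none
    rw [projInv_none, h3, projInv_zero]
  · show projInv (g (projInv (some 0))) = some 0
    rw [projInv_zero, h2, projInv_none]

theorem tau_inv : tau22⁻¹ = tau22 := Equiv.swap_inv _ _

theorem tau_conj {g : Equiv.Perm GolayPt} (hg : g ∈ Spor.M22) : tau22 * g * tau22 = g := by
  obtain ⟨-, h2, h3⟩ := mem_M22.1 hg
  rw [← tau_comm h2 h3, mul_assoc]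
  have : tau22 * tau22 = 1 := Equiv.swap_mul_self _ _
  rw [this, mul_one]

theorem card_fix_tau : (fixPts tau22).card = 22 := by decide +kernel

theorem card_out_M22 : Nat.card (Cfsg.Out Spor.M22) = 2 := by
  apply card_out_eq_two Spor.M22
    (MulAction.stabilizer (Equiv.Perm GolayPt) (none : GolayPt) ⊓
      MulAction.stabilizer (Equiv.Perm GolayPt) (some 0 : GolayPt)) w22
  · rw [Subgroup.mem_inf, MulAction.mem_stabilizer_iff, MulAction.mem_stabilizer_iff]
    constructor
    · show tau22 (projInv none) = none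
      rw [projInv_none]; simp [tau22]
    · show tau22 (projInv (some 0)) = some 0
      rw [projInv_zero]; simp [tau22]
  · intro g hg
    obtain ⟨-, h2, h3⟩ := mem_M22.1 hg
    exact ⟨h2, h3⟩
  · intro g hg
    have : w22 * g * w22⁻¹ = tau22 * (projInv * g * projInv) * tau22 := by
      rw [w22, mul_inv_rev, projInv_inv, tau_inv]; group
    rw [this, tau_conj (projInv_conj_mem22 hg)]
    exact projInv_conj_mem22 hg
  · intro g hg
    have : w22⁻¹ * g * w22 = projInv * (tau22 * g * tau22) * projInv := by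
      rw [w22, mul_inv_rev, projInv_inv, tau_inv]; group
    rw [this, tau_conj hg]
    exact projInv_conj_mem22 hg
  · intro h
    have h1 : tau22 ∈ M24 := by
      have : tau22 = w22 * projInv := by
        rw [w22, mul_assoc, projInv_sq, mul_one]
      rw [this]
      exact M24.mul_mem (M22_le h) gamma_mem
    have h2 := eq_one_of_nine_fixed h1 (by rw [card_fix_tau]; norm_num)
    have h3 : tau22 none = some 0 := by simp [tau22]
    rw [h2] at h3
    exact absurd h3 (by simp)
  · intro z hz hcomm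
    rw [Subgroup.mem_inf, MulAction.mem_stabilizer_iff, MulAction.mem_stabilizer_iff] at hz
    apply Equiv.ext
    intro a
    show z a = a
    by_cases ha : a ∈ F22
    · rcases mem_F22.1 ha with rfl | rfl
      · exact hz.1
      · exact hz.2
    · symm
      apply M22_sep ha
      · intro h
        rcases mem_F22.1 h with h | h
        · exact ha (mem_F22.2 (Or.inl (z.injective (h.trans hz.1.symm))))
        · exact ha (mem_F22.2 (Or.inr (z.injective (h.trans hz.2.symm))))
      · intro k
        have h1 : z (k.1 a) = k.1 (z a) := DFunLike.congr_fun (hcomm k.1 k.2) a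
        constructor
        · intro h; rw [h] at h1; exact h1.symm
        · intro h; rw [h] at h1; exact z.injective h1
  · intro φ
    obtain ⟨π, h0, h1, h2⟩ := aut_M22 φ
    exact ⟨π, ⟨h0.1, h0.2⟩, h1, h2⟩

end Cfsg.Agent.Lib.Helper28
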