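/-
Every automorphism of M23 is inner.
-/
import Cfsg.Agent.Lib.Helper28.AutPerm3
set_option autoImplicit false
open Cfsg
open scoped Pointwise
namespace Cfsg.Agent.Lib.Helper28

def ts23 : List ℕ := [969240122908570073025834137968740389, 958112636554995833171370358174570544, 957558435461645827736215248832568003, 971528697665963813856191103379818131, 984817670125443200182063739175389476, 974416656012739400771772309187969381, 970966608782788450259759625700218933, 984533793844585853448292408907836992, 963181332934296201368500713147707445, 978003316726199417207497414817483206, 976299077525282178812591097757990946, 963340202643419566591574436190914592]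
def js23 : List ℕ := [924, 3542, 2662, 3476, 3077, 2926, 2631, 1641, 586, 3070, 141, 475]

theorem ts23_ok : ts23.all (fun t => validP t && inM23P t && Nat.beq (pcF (fixMaskP t)) 8) = true := by
  decide +kernel
theorem js23_ok : basis = js23.map (encAux (ts23.map fixMaskP)) := by decide +kernel

theorem M23_le : Spor.M23 ≤ M24 := fun _ hg => (mem_M23.1 hg).1

theorem card_stabIn_M23 {y : GolayPt} (hy : y ≠ none) : Nat.card (stabIn Spor.M23 y) = 443520 := by
  rw [← card_stab_pt2 (p := none) (q := y) (Ne.symm hy)]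
  apply card_eq_of_map
  intro g
  rw [mem_stabIn, mem_M23]
  constructor
  · rintro ⟨⟨h1, h2⟩, h3⟩; exact ⟨h1, h2, h3⟩
  · rintro ⟨h1, h2, h3⟩; exact ⟨⟨h1, h2⟩, h3⟩

theorem num23 {s : ℕ} (h0 : 0 < s) (h1 : s + 1 ≤ 24) (h11 : s % 11 + 1 ≤ 24 % 11) (h7 : s % 7 + 1 ≤ 24 % 7)
    (hd : s ∣ 443520) : s = 1 ∨ s = 22 := by
  have : s ≤ 23 := by omega
  interval_cases s <;> first | omega | (exfalso; revert hd; norm_num)

theorem M23_sub_fix {L : Subgroup (Equiv.Perm GolayPt)} (hL : L ≤ Spor.M23) (hc : Nat.card L = 443520) :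
    ∃ y, y ≠ none ∧ ∀ g ∈ L, g y = y := by
  have hF : ∀ g ∈ L, ∀ f ∈ ({none} : Finset GolayPt), g f = f := by
    intro g hg f hf
    rw [Finset.mem_singleton.1 hf]
    exact (mem_M23.1 (hL hg)).2
  have key : ∀ x : GolayPt, x ≠ none → (orbF L x).card = 1 ∨ (orbF L x).card = 22 := by
    intro x hx
    have hx' : x ∉ ({none} : Finset GolayPt) := by simpa using hx
    apply num23 (card_orbF_pos L x)
    · simpa using card_orbF_le hF hx'
    · simpa using card_orbF_mod (hL.trans M23_le) hF hx' (p := 11) (by norm_num) (by norm_num) (by rw [hc]; norm_num)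
    · simpa using card_orbF_mod (hL.trans M23_le) hF hx' (p := 7) (by norm_num) (by norm_num) (by rw [hc]; norm_num)
    · rw [← hc]; exact card_orbF_dvd L x
  rcases key (some 0) (by simp) with h | h
  · exact ⟨some 0, by simp, fixed_of_card_orbF_eq_one h⟩
  · -- a point outside the orbit of length 22
    have hlt : (orbF L (some 0) ∪ {none}).card < (Finset.univ : Finset GolayPt).card := by
      calc (orbF L (some 0) ∪ {none}).card ≤ (orbF L (some 0)).card + ({none} : Finset GolayPt).card :=
            Finset.card_union_le _ _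
        _ = 23 := by rw [h]; rfl
        _ < 24 := by norm_num
    obtain ⟨y, -, hy⟩ := Finset.exists_mem_notMem_of_card_lt_card hlt
    rw [Finset.mem_union, not_or, Finset.mem_singleton] at hy
    refine ⟨y, hy.2, ?_⟩
    rcases key y hy.2 with h' | h'
    · exact fixed_of_card_orbF_eq_one h'
    · exfalso
      have hd := orbF_disjoint_orbF hy.1
      have := Finset.card_le_univ (orbF L y ∪ orbF L (some 0))
      rw [Finset.card_union_of_disjoint hd, h, h'] at this
      have h24 : Fintype.card GolayPt = 24 := rfl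
      omega

theorem M23_sep {a b : GolayPt} (ha : a ≠ none) (hb : b ≠ none)
    (h : ∀ k : Spor.M23, (k : Equiv.Perm GolayPt) a = a ↔ (k : Equiv.Perm GolayPt) b = b) : a = b := by
  by_contra hab
  obtain ⟨c, hc⟩ : ∃ c : GolayPt, c ∉ ({none, a, b} : Finset GolayPt) := by
    by_contra hcon
    push Not at hcon
    have : (Finset.univ : Finset GolayPt) ⊆ {none, a, b} := fun x _ => hcon x
    have h1 := Finset.card_le_card this
    have h2 : ({none, a, b} : Finset GolayPt).card ≤ 3 := Finset.card_le_three
    have h3 : (Finset.univ : Finset GolayPt).card = 24 := rfl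
    omega
  simp only [Finset.mem_insert, Finset.mem_singleton, not_or] at hc
  obtain ⟨g, hg, hgi⟩ := M24_trans_tuple (k := 3) (by norm_num) ![none, a, b] ![none, a, c]
    (by
      intro i j hij
      fin_cases i <;> fin_cases j <;> simp_all [eq_comm])
    (by
      intro i j hij
      fin_cases i <;> fin_cases j <;> simp_all [eq_comm])
  have h0 : g none = none := hgi 0
  have h1 : g a = a := hgi 1
  have h2 : g b = c := hgi 2
  have := (h ⟨g, mem_M23.2 ⟨hg, h0⟩⟩).1 h1
  exact hc.2.2 (by rw [← h2]; exact this)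

theorem aut_M23_inner (φ : MulAut Spor.M23) : φ ∈ Cfsg.Inn Spor.M23 := by
  obtain ⟨π, hπ1, hπ2⟩ := exists_perm_of_aut Spor.M23 φ {x | x ≠ none}
    (by
      intro a ha g hg
      have : a = none := by simpa using ha
      rw [this]; exact (mem_M23.1 hg).2)
    (by
      intro x hx
      obtain ⟨y, hy, hfix⟩ := M23_sub_fix (imgStab_le Spor.M23 φ x) (by rw [card_imgStab, card_stabIn_M23 hx])
      exact ⟨y, hy, stab_iff_of_fixed Spor.M23 φ x y hfix (by rw [card_stabIn_M23 hx, card_stabIn_M23 hy])⟩)
    (fun a ha b hb h => M23_sep ha hb h)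
  have hπ24 : π ∈ M24 := by
    apply mem_M24_of_normalizes M23_le inM23P_spec π _ ts23 js23 ts23_ok js23_ok
    intro g hg
    rw [← hπ2 ⟨g, hg⟩]
    exact (φ ⟨g, hg⟩).2
  exact mem_inn_of_conj Spor.M23 φ π (mem_M23.2 ⟨hπ24, hπ1 none (by simp)⟩) hπ2

end Cfsg.Agent.Lib.Helper28
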