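/-
Certificate for a Sylow 2-subgroup of M24.
-/
import Cfsg.Agent.Lib.Helper28.Packed3

set_option autoImplicit false
open Cfsg
open scoped Pointwise
namespace Cfsg.Agent.Lib.Helper28

def pc24 : List (ℕ × ℕ) := [(112498419363478465068426720085990401, 112498419363478465068426720085990401), (134608540475707381164188645220661797, 152534038497292532649416337920866853), (735020088089050778505090875318637678, 735020088089050778505090875318637678), (722119245071071830182446189049320558, 722119245071071830182446189049320558), (21159163873795149579542675899648055, 21159163873795149579542675899648055), (973122887587861701392823884636653600, 973122887587861701392823884636653600), (17184519787777121035013027289728087, 17184519787777121035013027289728087), (966182099583441531322624363496310816, 966182099583441531322624363496310816), (70961312958146288193683039871075042, 70961312958146288193683039871075042), (976448692869377735270425038196672544, 976448692869377735270425038196672544)]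

def cs24 : List (ℕ × ℕ) := [(4077649770170455698108258860875153, 218954439945678051499357826115975715), (791277171338801586068831888941171398, 130240060517242686214977958336021957), (139568748365908318881663952444701877, 218954439945678051499357826115975715), (341414497921726835213020522217640301, 100248596190316129319380533109120001), (132707272818658086744709816331056485, 970499966350631336865513127433832480), (105699688050642150744141565755300887, 970499966350631336865513127433832480), (95454910615627907221216824198711336, 70961312958146288193683039871075042), (312408135714705199193656263955822220, 62617129159507864913675676563309282), (554857813274885759894780240842661488, 976448692869377735270425038196672544)]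

def z24 : ℕ := 976448692869377735270425038196672544

theorem pc24_ok : pcOK pc24 = true := by decide +kernel
theorem pc24_in : pc24.all (fun a => inM24P a.1) = true := by decide +kernel
theorem z24_ok : (validP z24 && !(Nat.beq z24 idP) && memN z24 (dbl pc24)) = true := by decide +kernel
theorem cent24 : centOK pc24 z24 (dbl pc24) = true := by decide +kernel
theorem gen24 : genOK inM24P z24 pc24 cs24 = true := by decide +kernel

theorem step24_0 : stepOK (dbl pc24) [] [] 0 [] = true := by decide +kernel
theorem step24_1 : stepOK (dbl pc24) [] [0] 23 [0] = true := by decide +kernel
theorem step24_2 : stepOK (dbl pc24) [] [23, 0] 1 [0] = true := by decide +kernel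
theorem step24_3 : stepOK (dbl pc24) [] [1, 23, 0] 2 [0] = true := by decide +kernel
theorem step24_4 : stepOK (dbl pc24) [] [2, 1, 23, 0] 3 [] = true := by decide +kernel
theorem step24_5 : stepOK (dbl pc24) [] [3, 2, 1, 23, 0] 5 [3] = true := by decide +kernel
theorem step24_6 : stepOK (dbl pc24) [] [5, 3, 2, 1, 23, 0] 4 [] = true := by decide +kernel

theorem good24_0 : Good M24 (pcGrp pc24) [] := by
  have hE := pcOK_spec pc24_ok
  have hle := pcGrp_le inM24P_spec pc24_in
  apply Good.step hE hle (by simp) [] step24_0
  apply Good.step hE hle (by simp) [0] step24_1
  apply Good.step hE hle (by simp) [0] step24_2
  apply Good.step hE hle (by simp) [0] step24_3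
  apply Good.step hE hle (by simp) [] step24_4
  apply Good.step hE hle (by simp) [3] step24_5
  apply Good.step hE hle (by simp) [] step24_6
  intro g hg _ _ hf
  have : g = 1 := eq_one_of_fixes_base hg (fun f hf' => hf f (by simp at hf' ⊢; omega))
  rw [this]; exact Subgroup.one_mem _

end Cfsg.Agent.Lib.Helper28
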