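/-
Every automorphism of M24 is inner.
-/
import Cfsg.Agent.Lib.Helper28.AutPerm4
import Cfsg.Agent.Lib.Helper28.SylM24
set_option autoImplicit false
open Cfsg
open scoped Pointwise
namespace Cfsg.Agent.Lib.Helper28

def ts24 : List ℕ := [344605245105882750861737467330103328, 360478496547842809044250369889255616, 249621223182186138953600576436419638, 805665128972777150558213872934127840, 460086241830020971150293242634984052, 961281775988579514787007154048147840, 610933131142657984725827468219484192, 722606896884901218551486862101680384, 984071468003972104496958169606166912, 973113340719021215833331304176962752, 527222840059777857217962886863884942, 14378465008837454492506652706886711]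
def js24 : List ℕ := [3975, 140, 858, 1331, 1940, 1244, 1800, 983, 1110, 1808, 64, 1957]

theorem ts24_ok : ts24.all (fun t => validP t && inM24P t && Nat.beq (pcF (fixMaskP t)) 8) = true := by
  decide +kernel
theorem js24_ok : basis = js24.map (encAux (ts24.map fixMaskP)) := by decide +kernel

theorem invol24_check : ∀ t ∈ dbl pc24, (!(Nat.beq (mulP t t) idP) || Nat.beq t idP || Nat.beq (pcF (fixMaskP t)) 8
    || Nat.beq (pcF (fixMaskP t)) 0) = true := by decide +kernel

theorem card_fixPts_conj (c g : Equiv.Perm GolayPt) : (fixPts (c * g * c⁻¹)).card = (fixPts g).card := by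
  rw [fixPts_conj, Finset.card_smul_finset]

/-- an involution of M24 has 0 or 8 fixed points -/
theorem card_fixPts_invol {t : Equiv.Perm GolayPt} (ht : t ∈ M24) (h2 : t ^ 2 = 1) (h1 : t ≠ 1) :
    (fixPts t).card = 8 ∨ (fixPts t).card = 0 := by
  obtain ⟨c, hc, hm⟩ := two_elt_conj_mem M24 inM24P_spec pc24 239085 pc24_ok pc24_in
    (by rw [card_M24]; rfl) (by norm_num) ht (k := 1) (by simpa using h2)
  have h := invol24_check _ hm
  rw [← card_fixPts_conj c t, card_fixPts]
  simp only [Bool.or_eq_true, Bool.not_eq_true', Nat.beq_eq] at h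
  rcases h with ((h | h) | h) | h
  · exfalso
    rw [← tb_mul] at h
    have : c * t * c⁻¹ * (c * t * c⁻¹) = 1 := by
      have : c * t * c⁻¹ * (c * t * c⁻¹) = c * t ^ 2 * c⁻¹ := by rw [pow_two]; group
      rw [this, h2]; group
    rw [this, tb_one] at h
    simp at h
  · exfalso
    rw [← tb_one] at h
    have := tb_injective h
    apply h1
    have h3 : t = c⁻¹ * (c * t * c⁻¹) * c := by group
    rw [h3, this]; group
  · exact Or.inl h
  · exact Or.inr h

/-- no subgroup of order 40 of M24 fixes four points -/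
theorem no_forty {L : Subgroup (Equiv.Perm GolayPt)} (hL : L ≤ M24) (hc : Nat.card L = 40)
    {F : Finset GolayPt} (hF : ∀ g ∈ L, ∀ f ∈ F, g f = f) (hF4 : F.card = 4) : False := by
  obtain ⟨c, t, hc5, ht2, hct⟩ := exists_comm_of_card_forty hc
  have hc5' : orderOf (c : Equiv.Perm GolayPt) = 5 := by rw [Subgroup.orderOf_coe]; exact hc5
  have ht2' : orderOf (t : Equiv.Perm GolayPt) = 2 := by rw [Subgroup.orderOf_coe]; exact ht2
  have hct' : (t : Equiv.Perm GolayPt) * c = c * t := congrArg Subtype.val hct
  have h4 : (fixPts (c : Equiv.Perm GolayPt)).card = 4 :=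
    card_fixPts_of_prime (hL c.2) (by norm_num) (by norm_num) hc5'
  have hFt : F ⊆ fixPts (t : Equiv.Perm GolayPt) := fun f hf => mem_fixPts.2 (hF _ t.2 f hf)
  have hFc : F ⊆ fixPts (c : Equiv.Perm GolayPt) := fun f hf => mem_fixPts.2 (hF _ c.2 f hf)
  have h8 : (fixPts (t : Equiv.Perm GolayPt)).card = 8 := by
    rcases card_fixPts_invol (hL t.2) (by rw [← ht2']; exact pow_orderOf_eq_one _)
      (by intro h; rw [h, orderOf_one] at ht2'; omega) with h | h
    · exact h
    · have := Finset.card_le_card hFt
      omega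
  have : Fact (Nat.Prime 5) := ⟨by norm_num⟩
  have hm := card_modEq_fix (c : Equiv.Perm GolayPt) 5 (by rw [← hc5']; exact pow_orderOf_eq_one _)
    (fixPts (t : Equiv.Perm GolayPt)) (by
      intro x hx
      rw [mem_fixPts] at hx ⊢
      have := DFunLike.congr_fun hct' x
      simp only [Equiv.Perm.mul_apply] at this
      rw [this, hx])
  have hle : ((fixPts (t : Equiv.Perm GolayPt)).filter (fun x => (c : Equiv.Perm GolayPt) x = x)).card ≤ 4 := by
    rw [← h4]
    apply Finset.card_le_card
    intro x hx
    exact mem_fixPts.2 (Finset.mem_filter.1 hx).2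
  have hge : 4 ≤ ((fixPts (t : Equiv.Perm GolayPt)).filter (fun x => (c : Equiv.Perm GolayPt) x = x)).card := by
    rw [← hF4]
    apply Finset.card_le_card
    intro x hx
    exact Finset.mem_filter.2 ⟨hFt hx, mem_fixPts.1 (hFc hx)⟩
  rw [h8] at hm
  unfold Nat.ModEq at hm
  omega

theorem chain_step {L : Subgroup (Equiv.Perm GolayPt)} (hL : L ≤ M24) {F : Finset GolayPt}
    (hF : ∀ g ∈ L, ∀ f ∈ F, g f = f) (x : GolayPt) {n s : ℕ} (hn : Nat.card L = n * s)
    (hs : (orbF L x).card = s) :
    Nat.card (stabIn L x) = n ∧ stabIn L x ≤ M24 ∧ ∀ g ∈ stabIn L x, ∀ f ∈ insert x F, g f = f := by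
  refine ⟨?_, fun g hg => hL (mem_stabIn.1 hg).1, ?_⟩
  · have h := card_stabIn_mul L x
    rw [hs, hn] at h
    have hs0 : 0 < s := by rw [← hs]; exact card_orbF_pos L x
    exact Nat.eq_of_mul_eq_mul_right hs0 h
  · intro g hg f hf
    rcases Finset.mem_insert.1 hf with rfl | hf
    · exact (mem_stabIn.1 hg).2
    · exact hF g (mem_stabIn.1 hg).1 f hf

theorem M24_sub_fix {L : Subgroup (Equiv.Perm GolayPt)} (hL : L ≤ M24) (hc : Nat.card L = 10200960) :
    ∃ y, ∀ g ∈ L, g y = y := by
  have hF : ∀ g ∈ L, ∀ f ∈ (∅ : Finset GolayPt), g f = f := by simp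
  have key : ∀ x : GolayPt, (orbF L x).card = 1 ∨ (orbF L x).card = 23 ∨ (orbF L x).card = 24 := by
    intro x
    have h0 := card_orbF_pos L x
    have h1 := card_orbF_le hF (x := x) (by simp)
    have h2 := card_orbF_mod hL hF (x := x) (by simp) (p := 23) (by norm_num) (by norm_num) (by rw [hc]; norm_num)
    simp only [Finset.card_empty] at h1 h2
    omega
  rcases key none with h | h | h
  · exact ⟨none, fixed_of_card_orbF_eq_one h⟩
  · have hlt : (orbF L none).card < (Finset.univ : Finset GolayPt).card := by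
      rw [h]; show 23 < 24; norm_num
    obtain ⟨y, -, hy⟩ := Finset.exists_mem_notMem_of_card_lt_card hlt
    refine ⟨y, fixed_of_card_orbF_eq_one ?_⟩
    have hd := orbF_disjoint_orbF hy
    have := Finset.card_le_univ (orbF L y ∪ orbF L none)
    rw [Finset.card_union_of_disjoint hd, h] at this
    have h24 : Fintype.card GolayPt = 24 := rfl
    have := card_orbF_pos L y
    omega
  · exfalso
    obtain ⟨c1, l1, f1⟩ := chain_step hL hF none (n := 425040) (s := 24) (by rw [hc]) h
    have s1 : (orbF (stabIn L none) (some 0)).card = 23 := by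
      have hx : (some 0 : GolayPt) ∉ insert (none : GolayPt) (∅ : Finset GolayPt) := by decide
      have h0 := card_orbF_pos (stabIn L none) (some 0)
      have h1 := card_orbF_le f1 hx
      have h2 := card_orbF_mod l1 f1 hx (p := 23) (by norm_num) (by norm_num) (by rw [c1]; norm_num)
      rw [show (insert (none : GolayPt) (∅ : Finset GolayPt)).card = 1 from rfl] at h1 h2
      omega
    obtain ⟨c2, l2, f2⟩ := chain_step l1 f1 (some 0) (n := 18480) (s := 23) (by rw [c1]) s1
    have s2 : (orbF (stabIn (stabIn L none) (some 0)) (some 1)).card = 22 := by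
      have hx : (some 1 : GolayPt) ∉ insert (some 0 : GolayPt) (insert (none : GolayPt) (∅ : Finset GolayPt)) := by decide
      have h0 := card_orbF_pos (stabIn (stabIn L none) (some 0)) (some 1)
      have h1 := card_orbF_le f2 hx
      have h2 := card_orbF_mod l2 f2 hx (p := 11) (by norm_num) (by norm_num) (by rw [c2]; norm_num)
      have h3 := card_orbF_mod l2 f2 hx (p := 7) (by norm_num) (by norm_num) (by rw [c2]; norm_num)
      rw [show (insert (some 0 : GolayPt) (insert (none : GolayPt) (∅ : Finset GolayPt))).card = 2 from rfl] at h1 h2 h3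
      omega
    obtain ⟨c3, l3, f3⟩ := chain_step l2 f2 (some 1) (n := 840) (s := 22) (by rw [c2]) s2
    have s3 : (orbF (stabIn (stabIn (stabIn L none) (some 0)) (some 1)) (some 2)).card = 21 := by
      have hx : (some 2 : GolayPt) ∉ insert (some 1 : GolayPt) (insert (some 0 : GolayPt) (insert (none : GolayPt) (∅ : Finset GolayPt))) := by decide
      have h0 := card_orbF_pos (stabIn (stabIn (stabIn L none) (some 0)) (some 1)) (some 2)
      have h1 := card_orbF_le f3 hx
      have h2 := card_orbF_mod l3 f3 hx (p := 7) (by norm_num) (by norm_num) (by rw [c3]; norm_num)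
      have h3 := card_orbF_mod l3 f3 hx (p := 5) (by norm_num) (by norm_num) (by rw [c3]; norm_num)
      rw [show (insert (some 1 : GolayPt) (insert (some 0 : GolayPt) (insert (none : GolayPt) (∅ : Finset GolayPt)))).card = 3 from rfl] at h1 h2 h3
      generalize (orbF (stabIn (stabIn (stabIn L none) (some 0)) (some 1)) (some 2)).card = s at h0 h1 h2 h3 ⊢
      have : s ≤ 21 := by omega
      interval_cases s <;> omega
    obtain ⟨c4, l4, f4⟩ := chain_step l3 f3 (some 2) (n := 40) (s := 21) (by rw [c3]) s3
    exact no_forty l4 c4 f4 rfl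

theorem card_stabIn_M24 (y : GolayPt) : Nat.card (stabIn M24 y) = 10200960 := by
  rw [← card_stab_pt y]
  apply card_eq_of_map
  intro g
  rw [mem_stabIn]
  constructor
  · rintro ⟨h1, h2⟩; exact ⟨h1, h2⟩
  · rintro ⟨h1, h2⟩; exact ⟨h1, h2⟩

theorem M24_sep {a b : GolayPt}
    (h : ∀ k : M24, (k : Equiv.Perm GolayPt) a = a ↔ (k : Equiv.Perm GolayPt) b = b) : a = b := by
  by_contra hab
  obtain ⟨c, hc⟩ : ∃ c : GolayPt, c ∉ ({a, b} : Finset GolayPt) := by
    by_contra hcon
    push Not at hcon
    have : (Finset.univ : Finset GolayPt) ⊆ {a, b} := fun x _ => hcon x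
    have h1 := Finset.card_le_card this
    have h2 : ({a, b} : Finset GolayPt).card ≤ 2 := Finset.card_le_two
    have h3 : (Finset.univ : Finset GolayPt).card = 24 := rfl
    omega
  simp only [Finset.mem_insert, Finset.mem_singleton, not_or] at hc
  obtain ⟨g, hg, hgi⟩ := M24_trans_tuple (k := 2) (by norm_num) ![a, b] ![a, c]
    (by
      intro i j hij
      fin_cases i <;> fin_cases j <;> simp_all [eq_comm])
    (by
      intro i j hij
      fin_cases i <;> fin_cases j <;> simp_all [eq_comm])
  have h1 : g a = a := hgi 0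
  have h2 : g b = c := hgi 1
  have := (h ⟨g, hg⟩).1 h1
  exact hc.2 (by rw [← h2]; exact this)

theorem aut_M24_inner (φ : MulAut M24) : φ ∈ Cfsg.Inn M24 := by
  obtain ⟨π, -, hπ2⟩ := exists_perm_of_aut M24 φ Set.univ
    (by intro a ha; exact absurd (Set.mem_univ a) ha)
    (by
      intro x _
      obtain ⟨y, hfix⟩ := M24_sub_fix (imgStab_le M24 φ x) (by rw [card_imgStab, card_stabIn_M24 x])
      exact ⟨y, Set.mem_univ y, stab_iff_of_fixed M24 φ x y hfix (by rw [card_stabIn_M24 x, card_stabIn_M24 y])⟩)
    (fun a _ b _ h => M24_sep h)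
  have hπ24 : π ∈ M24 := by
    apply mem_M24_of_normalizes le_rfl inM24P_spec π _ ts24 js24 ts24_ok js24_ok
    intro g hg
    rw [← hπ2 ⟨g, hg⟩]
    exact (φ ⟨g, hg⟩).2
  exact mem_inn_of_conj M24 φ π hπ24 hπ2

end Cfsg.Agent.Lib.Helper28
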