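/-
Orbits of a quartet stabiliser on the quartets of its dodecad: 1, 12, 27, 72, 108.
-/
import Cfsg.Agent.Lib.Helper28.Quart3
import Cfsg.Agent.S1597
set_option autoImplicit false
open Cfsg
open scoped Pointwise
namespace Cfsg.Agent.Lib.Helper28.Quart

def kap1 : List ℕ := [14, 23, 0, 3, 22, 11, 1, 7, 8, 2, 4, 5, 6, 16, 9, 15, 18, 10, 21, 20, 19, 13, 17, 12]

def TL1 : List (List ℕ) := [[1, 23, 2, 3, 4, 5, 9, 15, 7, 12, 18, 19, 6, 16, 14, 8, 22, 17, 21, 20, 11, 10, 13, 0],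
  [1, 23, 2, 14, 4, 17, 15, 9, 6, 8, 11, 21, 7, 16, 3, 12, 22, 5, 19, 10, 18, 20, 13, 0],
  [1, 23, 3, 2, 4, 17, 8, 6, 12, 7, 18, 22, 15, 11, 14, 9, 19, 5, 21, 13, 16, 10, 20, 0],
  [1, 23, 3, 14, 4, 5, 6, 8, 15, 9, 16, 21, 12, 11, 2, 7, 19, 17, 22, 10, 18, 13, 20, 0],
  [1, 23, 14, 2, 4, 5, 12, 7, 8, 6, 11, 22, 9, 18, 3, 15, 21, 17, 19, 13, 16, 20, 10, 0],
  [1, 23, 14, 3, 4, 17, 7, 12, 9, 15, 16, 19, 8, 18, 2, 6, 21, 5, 22, 20, 11, 13, 10, 0],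
  [1, 23, 6, 12, 5, 17, 8, 3, 2, 15, 11, 19, 7, 18, 9, 14, 22, 4, 21, 10, 16, 13, 20, 0],
  [1, 23, 9, 6, 5, 17, 15, 2, 14, 7, 16, 22, 8, 11, 12, 3, 21, 4, 19, 20, 18, 10, 13, 0],
  [1, 23, 12, 9, 5, 17, 7, 14, 3, 8, 18, 21, 15, 16, 6, 2, 19, 4, 22, 13, 11, 20, 10, 0],
  [3, 14, 6, 9, 17, 5, 15, 0, 23, 7, 16, 11, 8, 22, 12, 1, 20, 4, 19, 21, 13, 10, 18, 2],
  [3, 14, 9, 12, 17, 5, 8, 1, 0, 15, 22, 19, 7, 13, 6, 23, 11, 4, 20, 10, 16, 18, 21, 2],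
  [3, 14, 12, 6, 17, 5, 7, 23, 1, 8, 13, 20, 15, 16, 9, 0, 19, 4, 11, 18, 22, 21, 10, 2]]

def SL1 : List (List ℕ) := [[1, 23, 14, 2, 4, 5, 12, 7, 8, 6, 11, 22, 9, 18, 3, 15, 21, 17, 19, 13, 16, 20, 10, 0],
  [1, 23, 12, 6, 5, 4, 14, 7, 15, 2, 11, 22, 3, 16, 9, 8, 19, 17, 21, 20, 18, 13, 10, 0],
  [23, 1, 2, 14, 4, 5, 6, 7, 15, 12, 11, 10, 9, 16, 3, 8, 13, 17, 20, 21, 18, 19, 22, 0],
  [23, 1, 6, 12, 5, 4, 2, 7, 8, 14, 11, 10, 3, 18, 9, 15, 20, 17, 13, 19, 16, 21, 22, 0],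
  [0, 23, 14, 3, 4, 5, 12, 7, 15, 9, 22, 11, 6, 21, 2, 8, 18, 17, 16, 20, 19, 13, 10, 1],
  [0, 23, 12, 9, 5, 4, 14, 7, 8, 3, 22, 11, 2, 19, 6, 15, 16, 17, 18, 13, 21, 20, 10, 1],
  [23, 0, 3, 14, 4, 5, 9, 7, 8, 12, 22, 10, 6, 19, 2, 15, 20, 17, 13, 18, 21, 16, 11, 1],
  [23, 0, 9, 12, 5, 4, 3, 7, 15, 14, 22, 10, 2, 21, 6, 8, 13, 17, 20, 16, 19, 18, 11, 1],
  [0, 1, 2, 3, 4, 5, 6, 7, 8, 9, 10, 11, 12, 13, 14, 15, 16, 17, 18, 19, 20, 21, 22, 23],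
  [0, 1, 6, 9, 5, 4, 2, 7, 15, 3, 10, 11, 14, 20, 12, 8, 18, 17, 16, 21, 13, 19, 22, 23],
  [1, 0, 3, 2, 4, 5, 9, 7, 15, 6, 10, 22, 12, 20, 14, 8, 19, 17, 21, 16, 13, 18, 11, 23],
  [1, 0, 9, 6, 5, 4, 3, 7, 8, 2, 10, 22, 14, 13, 12, 15, 21, 17, 19, 18, 20, 16, 11, 23],
  [3, 14, 23, 0, 4, 17, 12, 7, 8, 9, 22, 11, 6, 13, 1, 15, 20, 5, 19, 18, 16, 21, 10, 2],
  [3, 14, 12, 9, 17, 4, 23, 7, 15, 0, 22, 11, 1, 16, 6, 8, 19, 5, 20, 21, 13, 18, 10, 2],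
  [14, 3, 0, 23, 4, 17, 9, 7, 15, 12, 22, 10, 6, 16, 1, 8, 18, 5, 21, 20, 13, 19, 11, 2],
  [14, 3, 9, 12, 17, 4, 0, 7, 8, 23, 22, 10, 1, 13, 6, 15, 21, 5, 18, 19, 16, 20, 11, 2],
  [2, 14, 23, 1, 4, 17, 12, 7, 15, 6, 11, 22, 9, 20, 0, 8, 13, 5, 16, 21, 19, 18, 10, 3],
  [2, 14, 12, 6, 17, 4, 23, 7, 8, 1, 11, 22, 0, 19, 9, 15, 16, 5, 13, 18, 20, 21, 10, 3],
  [14, 2, 1, 23, 4, 17, 6, 7, 8, 12, 11, 10, 9, 19, 0, 15, 21, 5, 18, 13, 20, 16, 22, 3],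
  [14, 2, 6, 12, 17, 4, 1, 7, 15, 23, 11, 10, 0, 20, 9, 8, 18, 5, 21, 16, 19, 13, 22, 3],
  [2, 3, 0, 1, 4, 17, 9, 7, 8, 6, 10, 22, 12, 18, 23, 15, 16, 5, 13, 19, 21, 20, 11, 14],
  [2, 3, 9, 6, 17, 4, 0, 7, 15, 1, 10, 22, 23, 21, 12, 8, 13, 5, 16, 20, 18, 19, 11, 14],
  [3, 2, 1, 0, 4, 17, 6, 7, 15, 9, 10, 11, 12, 21, 23, 8, 19, 5, 20, 16, 18, 13, 22, 14],
  [3, 2, 6, 9, 17, 4, 1, 7, 8, 0, 10, 11, 23, 18, 12, 15, 20, 5, 19, 13, 21, 16, 22, 14],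
  [9, 12, 23, 0, 5, 17, 14, 7, 15, 3, 22, 11, 2, 20, 1, 8, 13, 4, 21, 16, 18, 19, 10, 6],
  [9, 12, 14, 3, 17, 5, 23, 7, 8, 0, 22, 11, 1, 18, 2, 15, 21, 4, 13, 19, 20, 16, 10, 6],
  [12, 9, 0, 23, 5, 17, 3, 7, 8, 14, 22, 10, 2, 18, 1, 15, 16, 4, 19, 13, 20, 21, 11, 6],
  [12, 9, 3, 14, 17, 5, 0, 7, 15, 23, 22, 10, 1, 20, 2, 8, 19, 4, 16, 21, 18, 13, 11, 6],
  [6, 12, 23, 1, 5, 17, 14, 7, 8, 2, 11, 22, 3, 13, 0, 15, 20, 4, 18, 19, 21, 16, 10, 9],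
  [6, 12, 14, 2, 17, 5, 23, 7, 15, 1, 11, 22, 0, 21, 3, 8, 18, 4, 20, 16, 13, 19, 10, 9],
  [12, 6, 1, 23, 5, 17, 2, 7, 15, 14, 11, 10, 3, 21, 0, 8, 19, 4, 16, 20, 13, 18, 22, 9],
  [12, 6, 2, 14, 17, 5, 1, 7, 8, 23, 11, 10, 0, 13, 3, 15, 16, 4, 19, 18, 21, 20, 22, 9],
  [6, 9, 0, 1, 5, 17, 3, 7, 15, 2, 10, 22, 14, 16, 23, 8, 18, 4, 20, 21, 19, 13, 11, 12],
  [6, 9, 3, 2, 17, 5, 0, 7, 8, 1, 10, 22, 23, 19, 14, 15, 20, 4, 18, 13, 16, 21, 11, 12],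
  [9, 6, 1, 0, 5, 17, 2, 7, 8, 3, 10, 11, 14, 19, 23, 15, 21, 4, 13, 18, 16, 20, 22, 12],
  [9, 6, 2, 3, 17, 5, 1, 7, 15, 0, 10, 11, 23, 16, 14, 8, 13, 4, 21, 20, 19, 18, 22, 12]]

def kap2 : List ℕ := [14, 23, 6, 12, 5, 17, 7, 0, 2, 9, 21, 19, 8, 18, 15, 1, 10, 13, 11, 22, 20, 4, 16, 3]

def TL2 : List (List ℕ) := [[1, 23, 2, 3, 4, 5, 9, 15, 7, 12, 18, 19, 6, 16, 14, 8, 22, 17, 21, 20, 11, 10, 13, 0],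
  [1, 23, 3, 2, 4, 17, 8, 6, 12, 7, 18, 22, 15, 11, 14, 9, 19, 5, 21, 13, 16, 10, 20, 0],
  [1, 23, 14, 2, 4, 5, 12, 7, 8, 6, 11, 22, 9, 18, 3, 15, 21, 17, 19, 13, 16, 20, 10, 0],
  [1, 23, 6, 9, 5, 4, 3, 8, 7, 14, 16, 21, 2, 18, 12, 15, 22, 17, 19, 13, 11, 10, 20, 0],
  [1, 23, 9, 6, 5, 17, 15, 2, 14, 7, 16, 22, 8, 11, 12, 3, 21, 4, 19, 20, 18, 10, 13, 0],
  [1, 23, 12, 6, 5, 4, 14, 7, 15, 2, 11, 22, 3, 16, 9, 8, 19, 17, 21, 20, 18, 13, 10, 0],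
  [1, 23, 7, 8, 17, 5, 12, 14, 2, 9, 18, 21, 6, 11, 15, 3, 22, 4, 19, 20, 16, 13, 10, 0],
  [1, 23, 8, 7, 17, 4, 3, 6, 9, 2, 18, 22, 14, 16, 15, 12, 21, 5, 19, 10, 11, 13, 20, 0],
  [1, 23, 15, 7, 17, 5, 9, 2, 3, 6, 16, 22, 12, 18, 8, 14, 19, 4, 21, 10, 11, 20, 13, 0],
  [0, 23, 2, 3, 4, 17, 15, 9, 12, 7, 21, 11, 8, 22, 14, 6, 16, 5, 18, 20, 19, 10, 13, 1],
  [0, 23, 3, 2, 4, 5, 6, 8, 7, 12, 21, 16, 9, 19, 14, 15, 11, 17, 18, 13, 22, 10, 20, 1],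
  [0, 23, 14, 2, 4, 17, 7, 12, 6, 8, 19, 16, 15, 21, 3, 9, 18, 5, 11, 13, 22, 20, 10, 1],
  [0, 23, 6, 9, 5, 17, 8, 3, 14, 7, 19, 11, 15, 22, 12, 2, 18, 4, 16, 13, 21, 10, 20, 1],
  [0, 23, 9, 6, 5, 4, 2, 15, 7, 14, 19, 18, 3, 21, 12, 8, 11, 17, 16, 20, 22, 10, 13, 1],
  [0, 23, 12, 6, 5, 17, 7, 14, 2, 15, 21, 18, 8, 19, 9, 3, 16, 4, 11, 20, 22, 13, 10, 1],
  [0, 23, 7, 8, 17, 4, 14, 12, 9, 2, 19, 16, 3, 22, 15, 6, 11, 5, 18, 20, 21, 13, 10, 1],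
  [0, 23, 8, 7, 17, 5, 6, 3, 2, 9, 19, 11, 12, 21, 15, 14, 16, 4, 18, 10, 22, 13, 20, 1],
  [0, 23, 15, 7, 17, 4, 2, 9, 6, 3, 21, 11, 14, 19, 8, 12, 18, 5, 16, 10, 22, 20, 13, 1],
  [0, 1, 2, 3, 4, 5, 6, 7, 8, 9, 10, 11, 12, 13, 14, 15, 16, 17, 18, 19, 20, 21, 22, 23],
  [0, 1, 3, 2, 4, 17, 15, 12, 9, 8, 10, 16, 7, 20, 14, 6, 11, 5, 18, 22, 13, 21, 19, 23],
  [0, 1, 14, 2, 4, 5, 9, 8, 15, 12, 20, 16, 6, 10, 3, 7, 18, 17, 11, 22, 13, 19, 21, 23],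
  [0, 1, 6, 9, 5, 4, 2, 7, 15, 3, 10, 11, 14, 20, 12, 8, 18, 17, 16, 21, 13, 19, 22, 23],
  [0, 1, 9, 6, 5, 17, 8, 14, 3, 15, 10, 18, 7, 13, 12, 2, 11, 4, 16, 22, 20, 19, 21, 23],
  [0, 1, 12, 6, 5, 4, 3, 15, 8, 14, 13, 18, 2, 10, 9, 7, 16, 17, 11, 22, 20, 21, 19, 23],
  [0, 1, 7, 8, 17, 5, 6, 2, 3, 12, 13, 16, 9, 10, 15, 14, 11, 4, 18, 21, 20, 19, 22, 23],
  [0, 1, 8, 7, 17, 4, 14, 9, 12, 3, 13, 11, 2, 20, 15, 6, 16, 5, 18, 22, 10, 19, 21, 23],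
  [0, 1, 15, 7, 17, 5, 12, 3, 14, 9, 20, 11, 6, 13, 8, 2, 18, 4, 16, 22, 10, 21, 19, 23]]

def SL2 : List (List ℕ) := [[0, 1, 2, 3, 4, 5, 6, 7, 8, 9, 10, 11, 12, 13, 14, 15, 16, 17, 18, 19, 20, 21, 22, 23],
  [0, 1, 2, 14, 4, 17, 7, 6, 12, 15, 20, 18, 8, 13, 3, 9, 16, 5, 11, 21, 10, 19, 22, 23],
  [1, 0, 2, 3, 4, 17, 8, 12, 6, 15, 10, 19, 7, 13, 14, 9, 22, 5, 21, 11, 20, 18, 16, 23],
  [1, 0, 2, 14, 4, 5, 12, 8, 7, 9, 20, 21, 6, 13, 3, 15, 22, 17, 19, 18, 10, 11, 16, 23],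
  [3, 14, 23, 0, 4, 17, 12, 7, 8, 9, 22, 11, 6, 13, 1, 15, 20, 5, 19, 18, 16, 21, 10, 2],
  [3, 14, 23, 1, 4, 5, 7, 12, 6, 15, 16, 19, 8, 13, 0, 9, 20, 17, 11, 21, 22, 18, 10, 2],
  [14, 3, 23, 0, 4, 5, 8, 6, 12, 15, 22, 18, 7, 13, 1, 9, 10, 17, 21, 11, 16, 19, 20, 2],
  [14, 3, 23, 1, 4, 17, 6, 8, 7, 9, 16, 21, 12, 13, 0, 15, 10, 5, 18, 19, 22, 11, 20, 2],
  [6, 12, 15, 7, 4, 17, 3, 1, 0, 2, 21, 22, 14, 13, 8, 23, 18, 5, 20, 10, 11, 16, 19, 9],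
  [6, 12, 15, 8, 4, 5, 1, 3, 14, 23, 11, 20, 0, 13, 7, 2, 18, 17, 22, 16, 21, 10, 19, 9],
  [12, 6, 15, 7, 4, 5, 0, 14, 3, 23, 21, 10, 1, 13, 8, 2, 19, 17, 16, 22, 11, 20, 18, 9],
  [12, 6, 15, 8, 4, 17, 14, 0, 1, 2, 11, 16, 3, 13, 7, 23, 19, 5, 10, 20, 21, 22, 18, 9],
  [7, 8, 9, 6, 4, 5, 14, 1, 0, 2, 19, 22, 3, 13, 12, 23, 11, 17, 10, 20, 18, 16, 21, 15],
  [7, 8, 9, 12, 4, 17, 1, 14, 3, 23, 18, 10, 0, 13, 6, 2, 11, 5, 22, 16, 19, 20, 21, 15],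
  [8, 7, 9, 6, 4, 17, 0, 3, 14, 23, 19, 20, 1, 13, 12, 2, 21, 5, 16, 22, 18, 10, 11, 15],
  [8, 7, 9, 12, 4, 5, 3, 0, 1, 2, 18, 16, 14, 13, 6, 23, 21, 17, 20, 10, 19, 22, 11, 15]]

def kap3 : List ℕ := [12, 23, 3, 6, 11, 18, 14, 1, 0, 15, 5, 17, 7, 21, 9, 2, 20, 22, 19, 16, 10, 4, 13, 8]

def TL3 : List (List ℕ) := [[1, 23, 2, 3, 4, 5, 9, 15, 7, 12, 18, 19, 6, 16, 14, 8, 22, 17, 21, 20, 11, 10, 13, 0],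
  [1, 23, 3, 2, 4, 17, 8, 6, 12, 7, 18, 22, 15, 11, 14, 9, 19, 5, 21, 13, 16, 10, 20, 0],
  [1, 23, 14, 2, 4, 5, 12, 7, 8, 6, 11, 22, 9, 18, 3, 15, 21, 17, 19, 13, 16, 20, 10, 0],
  [1, 23, 6, 9, 5, 4, 3, 8, 7, 14, 16, 21, 2, 18, 12, 15, 22, 17, 19, 13, 11, 10, 20, 0],
  [1, 23, 9, 6, 5, 17, 15, 2, 14, 7, 16, 22, 8, 11, 12, 3, 21, 4, 19, 20, 18, 10, 13, 0],
  [1, 23, 12, 6, 5, 4, 14, 7, 15, 2, 11, 22, 3, 16, 9, 8, 19, 17, 21, 20, 18, 13, 10, 0],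
  [1, 23, 7, 8, 17, 5, 12, 14, 2, 9, 18, 21, 6, 11, 15, 3, 22, 4, 19, 20, 16, 13, 10, 0],
  [1, 23, 8, 7, 17, 4, 3, 6, 9, 2, 18, 22, 14, 16, 15, 12, 21, 5, 19, 10, 11, 13, 20, 0],
  [1, 23, 15, 7, 17, 5, 9, 2, 3, 6, 16, 22, 12, 18, 8, 14, 19, 4, 21, 10, 11, 20, 13, 0],
  [23, 1, 2, 3, 4, 17, 7, 6, 9, 8, 18, 20, 15, 16, 14, 12, 13, 5, 10, 19, 11, 21, 22, 0],
  [23, 1, 3, 2, 4, 5, 12, 15, 8, 9, 18, 13, 6, 11, 14, 7, 20, 17, 10, 22, 16, 21, 19, 0],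
  [23, 1, 14, 2, 4, 17, 8, 9, 12, 15, 11, 13, 7, 18, 3, 6, 10, 5, 20, 22, 16, 19, 21, 0],
  [23, 1, 6, 9, 5, 17, 7, 2, 3, 15, 16, 13, 8, 18, 12, 14, 20, 4, 10, 21, 11, 19, 22, 0],
  [23, 1, 9, 6, 5, 4, 14, 8, 15, 3, 16, 20, 2, 11, 12, 7, 13, 17, 10, 22, 18, 19, 21, 0],
  [23, 1, 12, 6, 5, 17, 15, 3, 14, 8, 11, 20, 7, 16, 9, 2, 10, 4, 13, 22, 18, 21, 19, 0],
  [23, 1, 7, 8, 17, 4, 2, 6, 12, 3, 18, 20, 14, 11, 15, 9, 10, 5, 13, 21, 16, 19, 22, 0],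
  [23, 1, 8, 7, 17, 5, 9, 14, 3, 12, 18, 10, 6, 16, 15, 2, 20, 4, 13, 22, 11, 19, 21, 0],
  [23, 1, 15, 7, 17, 4, 3, 12, 9, 14, 16, 10, 2, 18, 8, 6, 13, 5, 20, 22, 11, 21, 19, 0],
  [0, 23, 2, 3, 4, 17, 15, 9, 12, 7, 21, 11, 8, 22, 14, 6, 16, 5, 18, 20, 19, 10, 13, 1],
  [0, 23, 3, 2, 4, 5, 6, 8, 7, 12, 21, 16, 9, 19, 14, 15, 11, 17, 18, 13, 22, 10, 20, 1],
  [0, 23, 14, 2, 4, 17, 7, 12, 6, 8, 19, 16, 15, 21, 3, 9, 18, 5, 11, 13, 22, 20, 10, 1],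
  [0, 23, 6, 9, 5, 17, 8, 3, 14, 7, 19, 11, 15, 22, 12, 2, 18, 4, 16, 13, 21, 10, 20, 1],
  [0, 23, 9, 6, 5, 4, 2, 15, 7, 14, 19, 18, 3, 21, 12, 8, 11, 17, 16, 20, 22, 10, 13, 1],
  [0, 23, 12, 6, 5, 17, 7, 14, 2, 15, 21, 18, 8, 19, 9, 3, 16, 4, 11, 20, 22, 13, 10, 1],
  [0, 23, 7, 8, 17, 4, 14, 12, 9, 2, 19, 16, 3, 22, 15, 6, 11, 5, 18, 20, 21, 13, 10, 1],
  [0, 23, 8, 7, 17, 5, 6, 3, 2, 9, 19, 11, 12, 21, 15, 14, 16, 4, 18, 10, 22, 13, 20, 1],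
  [0, 23, 15, 7, 17, 4, 2, 9, 6, 3, 21, 11, 14, 19, 8, 12, 18, 5, 16, 10, 22, 20, 13, 1],
  [23, 0, 2, 3, 4, 5, 12, 8, 15, 6, 21, 20, 9, 22, 14, 7, 13, 17, 10, 11, 19, 18, 16, 1],
  [23, 0, 3, 2, 4, 17, 7, 9, 6, 15, 21, 13, 8, 19, 14, 12, 20, 5, 10, 16, 22, 18, 11, 1],
  [23, 0, 14, 2, 4, 5, 6, 15, 7, 9, 19, 13, 12, 21, 3, 8, 10, 17, 20, 16, 22, 11, 18, 1],
  [23, 0, 6, 9, 5, 4, 14, 15, 8, 2, 19, 13, 3, 22, 12, 7, 20, 17, 10, 11, 21, 16, 18, 1],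
  [23, 0, 9, 6, 5, 17, 7, 3, 2, 8, 19, 20, 15, 21, 12, 14, 13, 4, 10, 18, 22, 16, 11, 1],
  [23, 0, 12, 6, 5, 4, 2, 8, 7, 3, 21, 20, 14, 19, 9, 15, 10, 17, 13, 18, 22, 11, 16, 1],
  [23, 0, 7, 8, 17, 5, 9, 3, 14, 6, 19, 20, 12, 22, 15, 2, 10, 4, 13, 16, 21, 18, 11, 1],
  [23, 0, 8, 7, 17, 4, 2, 12, 6, 14, 19, 10, 3, 21, 15, 9, 20, 5, 13, 11, 22, 18, 16, 1],
  [23, 0, 15, 7, 17, 5, 6, 14, 2, 12, 21, 10, 9, 19, 8, 3, 13, 4, 20, 11, 22, 16, 18, 1],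
  [0, 1, 2, 3, 4, 5, 6, 7, 8, 9, 10, 11, 12, 13, 14, 15, 16, 17, 18, 19, 20, 21, 22, 23],
  [0, 1, 3, 2, 4, 17, 15, 12, 9, 8, 10, 16, 7, 20, 14, 6, 11, 5, 18, 22, 13, 21, 19, 23],
  [0, 1, 14, 2, 4, 5, 9, 8, 15, 12, 20, 16, 6, 10, 3, 7, 18, 17, 11, 22, 13, 19, 21, 23],
  [0, 1, 6, 9, 5, 4, 2, 7, 15, 3, 10, 11, 14, 20, 12, 8, 18, 17, 16, 21, 13, 19, 22, 23],
  [0, 1, 9, 6, 5, 17, 8, 14, 3, 15, 10, 18, 7, 13, 12, 2, 11, 4, 16, 22, 20, 19, 21, 23],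
  [0, 1, 12, 6, 5, 4, 3, 15, 8, 14, 13, 18, 2, 10, 9, 7, 16, 17, 11, 22, 20, 21, 19, 23],
  [0, 1, 7, 8, 17, 5, 6, 2, 3, 12, 13, 16, 9, 10, 15, 14, 11, 4, 18, 21, 20, 19, 22, 23],
  [0, 1, 8, 7, 17, 4, 14, 9, 12, 3, 13, 11, 2, 20, 15, 6, 16, 5, 18, 22, 10, 19, 21, 23],
  [0, 1, 15, 7, 17, 5, 12, 3, 14, 9, 20, 11, 6, 13, 8, 2, 18, 4, 16, 22, 10, 21, 19, 23],
  [1, 0, 2, 3, 4, 17, 8, 12, 6, 15, 10, 19, 7, 13, 14, 9, 22, 5, 21, 11, 20, 18, 16, 23],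
  [1, 0, 3, 2, 4, 5, 9, 7, 15, 6, 10, 22, 12, 20, 14, 8, 19, 17, 21, 16, 13, 18, 11, 23],
  [1, 0, 14, 2, 4, 17, 15, 6, 9, 7, 20, 22, 8, 10, 3, 12, 21, 5, 19, 16, 13, 11, 18, 23],
  [1, 0, 6, 9, 5, 17, 15, 14, 2, 8, 10, 21, 7, 20, 12, 3, 22, 4, 19, 11, 13, 16, 18, 23],
  [1, 0, 9, 6, 5, 4, 3, 7, 8, 2, 10, 22, 14, 13, 12, 15, 21, 17, 19, 18, 20, 16, 11, 23],
  [1, 0, 12, 6, 5, 17, 8, 2, 3, 7, 13, 22, 15, 10, 9, 14, 19, 4, 21, 18, 20, 11, 16, 23],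
  [1, 0, 7, 8, 17, 4, 3, 9, 6, 14, 13, 21, 2, 10, 15, 12, 22, 5, 19, 16, 20, 18, 11, 23],
  [1, 0, 8, 7, 17, 5, 12, 2, 14, 6, 13, 22, 9, 20, 15, 3, 21, 4, 19, 11, 10, 18, 16, 23],
  [1, 0, 15, 7, 17, 4, 14, 6, 12, 2, 20, 22, 3, 13, 8, 9, 19, 5, 21, 11, 10, 16, 18, 23],
  [3, 14, 0, 1, 4, 17, 6, 15, 7, 12, 13, 19, 9, 16, 23, 8, 11, 5, 20, 21, 22, 10, 18, 2],
  [3, 14, 1, 0, 4, 5, 8, 9, 12, 7, 13, 11, 15, 22, 23, 6, 19, 17, 20, 18, 16, 10, 21, 2],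
  [3, 14, 23, 0, 4, 17, 12, 7, 8, 9, 22, 11, 6, 13, 1, 15, 20, 5, 19, 18, 16, 21, 10, 2],
  [14, 3, 0, 1, 4, 5, 7, 9, 6, 8, 13, 21, 15, 16, 23, 12, 18, 17, 10, 19, 22, 20, 11, 2],
  [14, 3, 1, 0, 4, 17, 12, 15, 8, 6, 13, 18, 9, 22, 23, 7, 21, 5, 10, 11, 16, 20, 19, 2],
  [14, 3, 23, 0, 4, 5, 8, 6, 12, 15, 22, 18, 7, 13, 1, 9, 10, 17, 21, 11, 16, 19, 20, 2],
  [2, 14, 0, 1, 4, 5, 15, 6, 12, 7, 20, 22, 8, 11, 23, 9, 16, 17, 13, 21, 19, 10, 18, 3],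
  [2, 14, 1, 0, 4, 17, 9, 8, 7, 12, 20, 16, 6, 19, 23, 15, 22, 5, 13, 18, 11, 10, 21, 3],
  [2, 14, 23, 0, 4, 5, 7, 12, 9, 8, 19, 16, 15, 20, 1, 6, 13, 17, 22, 18, 11, 21, 10, 3],
  [14, 2, 0, 1, 4, 17, 12, 8, 15, 9, 20, 21, 6, 11, 23, 7, 18, 5, 10, 22, 19, 13, 16, 3],
  [14, 2, 1, 0, 4, 5, 7, 6, 9, 15, 20, 18, 8, 19, 23, 12, 21, 17, 10, 16, 11, 13, 22, 3],
  [14, 2, 23, 0, 4, 17, 9, 15, 7, 6, 19, 18, 12, 20, 1, 8, 10, 5, 21, 16, 11, 22, 13, 3],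
  [2, 3, 0, 1, 4, 17, 9, 7, 8, 6, 10, 22, 12, 18, 23, 15, 16, 5, 13, 19, 21, 20, 11, 14],
  [2, 3, 1, 0, 4, 5, 15, 12, 6, 8, 10, 16, 7, 21, 23, 9, 22, 17, 13, 11, 18, 20, 19, 14],
  [2, 3, 23, 0, 4, 17, 6, 8, 15, 12, 21, 16, 9, 10, 1, 7, 13, 5, 22, 11, 18, 19, 20, 14],
  [3, 2, 0, 1, 4, 5, 8, 12, 9, 15, 10, 19, 7, 18, 23, 6, 11, 17, 20, 22, 21, 13, 16, 14],
  [3, 2, 1, 0, 4, 17, 6, 7, 15, 9, 10, 11, 12, 21, 23, 8, 19, 5, 20, 16, 18, 13, 22, 14],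
  [3, 2, 23, 0, 4, 5, 15, 9, 6, 7, 21, 11, 8, 10, 1, 12, 20, 17, 19, 16, 18, 22, 13, 14]]

def SL3 : List (List ℕ) := [[0, 1, 2, 3, 4, 5, 6, 7, 8, 9, 10, 11, 12, 13, 14, 15, 16, 17, 18, 19, 20, 21, 22, 23],
  [0, 1, 2, 14, 4, 17, 7, 6, 12, 15, 20, 18, 8, 13, 3, 9, 16, 5, 11, 21, 10, 19, 22, 23],
  [6, 9, 3, 2, 17, 5, 0, 7, 8, 1, 10, 22, 23, 19, 14, 15, 20, 4, 18, 13, 16, 21, 11, 12],
  [6, 9, 3, 14, 17, 4, 7, 0, 23, 15, 16, 18, 8, 19, 2, 1, 20, 5, 22, 21, 10, 13, 11, 12],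
  [7, 15, 14, 2, 5, 17, 0, 6, 12, 1, 20, 22, 23, 21, 3, 9, 10, 4, 11, 13, 16, 19, 18, 8],
  [7, 15, 14, 3, 5, 4, 6, 0, 23, 9, 16, 11, 12, 21, 2, 1, 10, 17, 22, 19, 20, 13, 18, 8]]

def kap4 : List ℕ := [15, 23, 6, 8, 20, 10, 7, 1, 2, 3, 19, 21, 12, 18, 14, 0, 17, 4, 11, 22, 5, 13, 16, 9]

def TL4 : List (List ℕ) := [[1, 23, 2, 3, 4, 5, 9, 15, 7, 12, 18, 19, 6, 16, 14, 8, 22, 17, 21, 20, 11, 10, 13, 0],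
  [1, 23, 3, 2, 4, 17, 8, 6, 12, 7, 18, 22, 15, 11, 14, 9, 19, 5, 21, 13, 16, 10, 20, 0],
  [1, 23, 14, 2, 4, 5, 12, 7, 8, 6, 11, 22, 9, 18, 3, 15, 21, 17, 19, 13, 16, 20, 10, 0],
  [1, 23, 6, 9, 5, 4, 3, 8, 7, 14, 16, 21, 2, 18, 12, 15, 22, 17, 19, 13, 11, 10, 20, 0],
  [1, 23, 9, 6, 5, 17, 15, 2, 14, 7, 16, 22, 8, 11, 12, 3, 21, 4, 19, 20, 18, 10, 13, 0],
  [1, 23, 12, 6, 5, 4, 14, 7, 15, 2, 11, 22, 3, 16, 9, 8, 19, 17, 21, 20, 18, 13, 10, 0],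
  [1, 23, 7, 8, 17, 5, 12, 14, 2, 9, 18, 21, 6, 11, 15, 3, 22, 4, 19, 20, 16, 13, 10, 0],
  [1, 23, 8, 7, 17, 4, 3, 6, 9, 2, 18, 22, 14, 16, 15, 12, 21, 5, 19, 10, 11, 13, 20, 0],
  [1, 23, 15, 7, 17, 5, 9, 2, 3, 6, 16, 22, 12, 18, 8, 14, 19, 4, 21, 10, 11, 20, 13, 0],
  [0, 23, 2, 3, 4, 17, 15, 9, 12, 7, 21, 11, 8, 22, 14, 6, 16, 5, 18, 20, 19, 10, 13, 1],
  [0, 23, 3, 2, 4, 5, 6, 8, 7, 12, 21, 16, 9, 19, 14, 15, 11, 17, 18, 13, 22, 10, 20, 1],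
  [0, 23, 14, 2, 4, 17, 7, 12, 6, 8, 19, 16, 15, 21, 3, 9, 18, 5, 11, 13, 22, 20, 10, 1],
  [0, 23, 6, 9, 5, 17, 8, 3, 14, 7, 19, 11, 15, 22, 12, 2, 18, 4, 16, 13, 21, 10, 20, 1],
  [0, 23, 9, 6, 5, 4, 2, 15, 7, 14, 19, 18, 3, 21, 12, 8, 11, 17, 16, 20, 22, 10, 13, 1],
  [0, 23, 12, 6, 5, 17, 7, 14, 2, 15, 21, 18, 8, 19, 9, 3, 16, 4, 11, 20, 22, 13, 10, 1],
  [0, 23, 7, 8, 17, 4, 14, 12, 9, 2, 19, 16, 3, 22, 15, 6, 11, 5, 18, 20, 21, 13, 10, 1],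
  [0, 23, 8, 7, 17, 5, 6, 3, 2, 9, 19, 11, 12, 21, 15, 14, 16, 4, 18, 10, 22, 13, 20, 1],
  [0, 23, 15, 7, 17, 4, 2, 9, 6, 3, 21, 11, 14, 19, 8, 12, 18, 5, 16, 10, 22, 20, 13, 1],
  [0, 1, 2, 3, 4, 5, 6, 7, 8, 9, 10, 11, 12, 13, 14, 15, 16, 17, 18, 19, 20, 21, 22, 23],
  [0, 1, 3, 2, 4, 17, 15, 12, 9, 8, 10, 16, 7, 20, 14, 6, 11, 5, 18, 22, 13, 21, 19, 23],
  [0, 1, 14, 2, 4, 5, 9, 8, 15, 12, 20, 16, 6, 10, 3, 7, 18, 17, 11, 22, 13, 19, 21, 23],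
  [0, 1, 6, 9, 5, 4, 2, 7, 15, 3, 10, 11, 14, 20, 12, 8, 18, 17, 16, 21, 13, 19, 22, 23],
  [0, 1, 9, 6, 5, 17, 8, 14, 3, 15, 10, 18, 7, 13, 12, 2, 11, 4, 16, 22, 20, 19, 21, 23],
  [0, 1, 12, 6, 5, 4, 3, 15, 8, 14, 13, 18, 2, 10, 9, 7, 16, 17, 11, 22, 20, 21, 19, 23],
  [0, 1, 7, 8, 17, 5, 6, 2, 3, 12, 13, 16, 9, 10, 15, 14, 11, 4, 18, 21, 20, 19, 22, 23],
  [0, 1, 8, 7, 17, 4, 14, 9, 12, 3, 13, 11, 2, 20, 15, 6, 16, 5, 18, 22, 10, 19, 21, 23],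
  [0, 1, 15, 7, 17, 5, 12, 3, 14, 9, 20, 11, 6, 13, 8, 2, 18, 4, 16, 22, 10, 21, 19, 23],
  [3, 14, 0, 1, 4, 17, 6, 15, 7, 12, 13, 19, 9, 16, 23, 8, 11, 5, 20, 21, 22, 10, 18, 2],
  [3, 14, 1, 0, 4, 5, 8, 9, 12, 7, 13, 11, 15, 22, 23, 6, 19, 17, 20, 18, 16, 10, 21, 2],
  [3, 14, 23, 0, 4, 17, 12, 7, 8, 9, 22, 11, 6, 13, 1, 15, 20, 5, 19, 18, 16, 21, 10, 2],
  [3, 14, 6, 9, 17, 5, 15, 0, 23, 7, 16, 11, 8, 22, 12, 1, 20, 4, 19, 21, 13, 10, 18, 2],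
  [3, 14, 9, 6, 17, 4, 1, 8, 7, 23, 16, 20, 0, 13, 12, 15, 11, 5, 19, 18, 22, 10, 21, 2],
  [3, 14, 12, 6, 17, 5, 7, 23, 1, 8, 13, 20, 15, 16, 9, 0, 19, 4, 11, 18, 22, 21, 10, 2],
  [3, 14, 7, 8, 5, 17, 12, 23, 0, 6, 13, 20, 9, 22, 15, 1, 11, 4, 19, 21, 16, 18, 10, 2],
  [3, 14, 8, 7, 5, 4, 1, 9, 6, 0, 13, 11, 23, 16, 15, 12, 20, 17, 19, 10, 22, 18, 21, 2],
  [3, 14, 15, 7, 5, 17, 6, 0, 1, 9, 16, 11, 12, 13, 8, 23, 19, 4, 20, 10, 22, 21, 18, 2],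
  [2, 14, 0, 1, 4, 5, 15, 6, 12, 7, 20, 22, 8, 11, 23, 9, 16, 17, 13, 21, 19, 10, 18, 3],
  [2, 14, 1, 0, 4, 17, 9, 8, 7, 12, 20, 16, 6, 19, 23, 15, 22, 5, 13, 18, 11, 10, 21, 3],
  [2, 14, 23, 0, 4, 5, 7, 12, 9, 8, 19, 16, 15, 20, 1, 6, 13, 17, 22, 18, 11, 21, 10, 3],
  [2, 14, 6, 9, 17, 4, 0, 15, 7, 23, 19, 13, 1, 20, 12, 8, 22, 5, 16, 21, 11, 10, 18, 3],
  [2, 14, 9, 6, 17, 5, 8, 1, 23, 7, 19, 22, 15, 11, 12, 0, 13, 4, 16, 18, 20, 10, 21, 3],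
  [2, 14, 12, 6, 17, 4, 23, 7, 8, 1, 11, 22, 0, 19, 9, 15, 16, 5, 13, 18, 20, 21, 10, 3],
  [2, 14, 7, 8, 5, 4, 23, 12, 6, 0, 19, 16, 1, 11, 15, 9, 22, 17, 13, 21, 20, 18, 10, 3],
  [2, 14, 8, 7, 5, 17, 9, 1, 0, 6, 19, 22, 12, 20, 15, 23, 16, 4, 13, 10, 11, 18, 21, 3],
  [2, 14, 15, 7, 5, 4, 0, 6, 9, 1, 20, 22, 23, 19, 8, 12, 13, 17, 16, 10, 11, 21, 18, 3],
  [2, 3, 0, 1, 4, 17, 9, 7, 8, 6, 10, 22, 12, 18, 23, 15, 16, 5, 13, 19, 21, 20, 11, 14],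
  [2, 3, 1, 0, 4, 5, 15, 12, 6, 8, 10, 16, 7, 21, 23, 9, 22, 17, 13, 11, 18, 20, 19, 14],
  [2, 3, 23, 0, 4, 17, 6, 8, 15, 12, 21, 16, 9, 10, 1, 7, 13, 5, 22, 11, 18, 19, 20, 14],
  [2, 3, 6, 9, 17, 5, 8, 23, 1, 15, 10, 13, 7, 18, 12, 0, 22, 4, 16, 11, 21, 19, 20, 14],
  [2, 3, 9, 6, 17, 4, 0, 7, 15, 1, 10, 22, 23, 21, 12, 8, 13, 5, 16, 20, 18, 19, 11, 14],
  [2, 3, 12, 6, 17, 5, 15, 1, 0, 7, 21, 22, 8, 10, 9, 23, 16, 4, 13, 20, 18, 11, 19, 14],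
  [2, 3, 7, 8, 5, 17, 9, 0, 1, 12, 18, 16, 6, 10, 15, 23, 22, 4, 13, 20, 21, 19, 11, 14],
  [2, 3, 8, 7, 5, 4, 23, 6, 12, 1, 18, 22, 0, 21, 15, 9, 16, 17, 13, 11, 10, 19, 20, 14],
  [2, 3, 15, 7, 5, 17, 12, 1, 23, 6, 21, 22, 9, 18, 8, 0, 13, 4, 16, 11, 10, 20, 19, 14],
  [9, 12, 0, 1, 5, 17, 2, 8, 7, 14, 20, 21, 3, 18, 23, 15, 11, 4, 13, 19, 22, 10, 16, 6],
  [9, 12, 1, 0, 5, 4, 15, 3, 14, 7, 20, 11, 8, 22, 23, 2, 21, 17, 13, 16, 18, 10, 19, 6],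
  [9, 12, 23, 0, 5, 17, 14, 7, 15, 3, 22, 11, 2, 20, 1, 8, 13, 4, 21, 16, 18, 19, 10, 6],
  [9, 12, 2, 3, 17, 4, 8, 0, 23, 7, 18, 11, 15, 22, 14, 1, 13, 5, 21, 19, 20, 10, 16, 6],
  [9, 12, 3, 2, 17, 5, 1, 15, 7, 23, 18, 13, 0, 20, 14, 8, 11, 4, 21, 16, 22, 10, 19, 6],
  [9, 12, 14, 2, 17, 4, 7, 23, 1, 15, 20, 13, 8, 18, 3, 0, 21, 5, 11, 16, 22, 19, 10, 6],
  [9, 12, 7, 8, 4, 5, 23, 14, 3, 1, 18, 21, 0, 22, 15, 2, 11, 17, 13, 16, 20, 19, 10, 6],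
  [9, 12, 8, 7, 4, 17, 2, 0, 1, 3, 18, 11, 14, 20, 15, 23, 21, 5, 13, 10, 22, 19, 16, 6],
  [9, 12, 15, 7, 4, 5, 1, 3, 2, 0, 20, 11, 23, 18, 8, 14, 13, 17, 21, 10, 22, 16, 19, 6],
  [6, 12, 0, 1, 5, 4, 8, 2, 14, 7, 13, 22, 15, 11, 23, 3, 18, 17, 20, 19, 21, 10, 16, 9],
  [6, 12, 1, 0, 5, 17, 3, 15, 7, 14, 13, 18, 2, 21, 23, 8, 22, 4, 20, 16, 11, 10, 19, 9],
  [6, 12, 23, 0, 5, 4, 7, 14, 3, 15, 21, 18, 8, 13, 1, 2, 20, 17, 22, 16, 11, 19, 10, 9],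
  [6, 12, 2, 3, 17, 5, 0, 8, 7, 23, 21, 20, 1, 13, 14, 15, 22, 4, 18, 19, 11, 10, 16, 9],
  [6, 12, 3, 2, 17, 4, 15, 1, 23, 7, 21, 22, 8, 11, 14, 0, 20, 5, 18, 16, 13, 10, 19, 9],
  [6, 12, 14, 2, 17, 5, 23, 7, 15, 1, 11, 22, 0, 21, 3, 8, 18, 4, 20, 16, 13, 19, 10, 9],
  [6, 12, 7, 8, 4, 17, 14, 23, 1, 3, 13, 20, 2, 11, 15, 0, 22, 5, 18, 16, 21, 19, 10, 9],
  [6, 12, 8, 7, 4, 5, 0, 2, 3, 1, 13, 22, 23, 21, 15, 14, 20, 17, 18, 10, 11, 19, 16, 9],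
  [6, 12, 15, 7, 4, 17, 3, 1, 0, 2, 21, 22, 14, 13, 8, 23, 18, 5, 20, 10, 11, 16, 19, 9],
  [6, 9, 0, 1, 5, 17, 3, 7, 15, 2, 10, 22, 14, 16, 23, 8, 18, 4, 20, 21, 19, 13, 11, 12],
  [6, 9, 1, 0, 5, 4, 8, 14, 2, 15, 10, 18, 7, 19, 23, 3, 22, 17, 20, 11, 16, 13, 21, 12],
  [6, 9, 23, 0, 5, 17, 2, 15, 8, 14, 19, 18, 3, 10, 1, 7, 20, 4, 22, 11, 16, 21, 13, 12],
  [6, 9, 2, 3, 17, 4, 15, 23, 1, 8, 10, 20, 7, 16, 14, 0, 22, 5, 18, 11, 19, 21, 13, 12],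
  [6, 9, 3, 2, 17, 5, 0, 7, 8, 1, 10, 22, 23, 19, 14, 15, 20, 4, 18, 13, 16, 21, 11, 12],
  [6, 9, 14, 2, 17, 4, 8, 1, 0, 7, 19, 22, 15, 10, 3, 23, 18, 5, 20, 13, 16, 11, 21, 12],
  [6, 9, 7, 8, 4, 5, 0, 3, 2, 23, 19, 20, 1, 10, 15, 14, 22, 17, 18, 21, 16, 13, 11, 12],
  [6, 9, 8, 7, 4, 17, 14, 1, 23, 2, 19, 22, 3, 16, 15, 0, 20, 5, 18, 11, 10, 13, 21, 12],
  [6, 9, 15, 7, 4, 5, 23, 2, 14, 1, 16, 22, 0, 19, 8, 3, 18, 17, 20, 11, 10, 21, 13, 12],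
  [8, 15, 0, 1, 17, 4, 6, 14, 2, 9, 10, 21, 12, 11, 23, 3, 16, 5, 20, 19, 22, 13, 18, 7],
  [8, 15, 1, 0, 17, 5, 3, 12, 9, 2, 10, 16, 14, 22, 23, 6, 21, 4, 20, 18, 11, 13, 19, 7],
  [8, 15, 23, 0, 17, 4, 9, 2, 3, 12, 22, 16, 6, 10, 1, 14, 20, 5, 21, 18, 11, 19, 13, 7],
  [8, 15, 2, 3, 5, 4, 9, 23, 0, 6, 10, 20, 12, 22, 14, 1, 16, 17, 21, 19, 11, 18, 13, 7],
  [8, 15, 3, 2, 5, 17, 1, 12, 6, 0, 10, 16, 23, 11, 14, 9, 20, 4, 21, 13, 22, 18, 19, 7],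
  [8, 15, 14, 2, 5, 4, 6, 0, 1, 12, 11, 16, 9, 10, 3, 23, 21, 17, 20, 13, 22, 19, 18, 7],
  [8, 15, 6, 9, 4, 17, 0, 14, 3, 1, 10, 21, 23, 22, 12, 2, 20, 5, 16, 13, 11, 19, 18, 7],
  [8, 15, 9, 6, 4, 5, 2, 23, 1, 3, 10, 20, 14, 11, 12, 0, 21, 17, 16, 18, 22, 19, 13, 7],
  [8, 15, 12, 6, 4, 17, 1, 3, 2, 23, 11, 20, 0, 10, 9, 14, 16, 5, 21, 18, 22, 13, 19, 7],
  [7, 15, 0, 1, 17, 5, 14, 6, 9, 2, 20, 22, 3, 16, 23, 12, 11, 4, 10, 19, 21, 13, 18, 8],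
  [7, 15, 1, 0, 17, 4, 12, 3, 2, 9, 20, 11, 6, 21, 23, 14, 22, 5, 10, 18, 16, 13, 19, 8],
  [7, 15, 23, 0, 17, 5, 2, 9, 12, 3, 21, 11, 14, 20, 1, 6, 10, 4, 22, 18, 16, 19, 13, 8],
  [7, 15, 2, 3, 5, 17, 23, 9, 6, 0, 21, 11, 1, 16, 14, 12, 22, 4, 10, 19, 20, 18, 13, 8],
  [7, 15, 3, 2, 5, 4, 12, 1, 0, 6, 21, 22, 9, 20, 14, 23, 11, 17, 10, 13, 16, 18, 19, 8],
  [7, 15, 14, 2, 5, 17, 0, 6, 12, 1, 20, 22, 23, 21, 3, 9, 10, 4, 11, 13, 16, 19, 18, 8],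
  [7, 15, 6, 9, 4, 5, 14, 0, 1, 3, 16, 11, 2, 20, 12, 23, 22, 17, 10, 13, 21, 19, 18, 8],
  [7, 15, 9, 6, 4, 17, 23, 2, 3, 1, 16, 22, 0, 21, 12, 14, 11, 5, 10, 18, 20, 19, 13, 8],
  [7, 15, 12, 6, 4, 5, 3, 1, 23, 2, 21, 22, 14, 16, 9, 0, 10, 17, 11, 18, 20, 13, 19, 8],
  [7, 8, 0, 1, 17, 4, 12, 2, 3, 6, 13, 22, 9, 18, 23, 14, 11, 5, 10, 21, 19, 20, 16, 15],
  [7, 8, 1, 0, 17, 5, 14, 9, 6, 3, 13, 11, 2, 19, 23, 12, 22, 4, 10, 16, 18, 20, 21, 15],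
  [7, 8, 23, 0, 17, 4, 6, 3, 14, 9, 19, 11, 12, 13, 1, 2, 10, 5, 22, 16, 18, 21, 20, 15],
  [7, 8, 2, 3, 5, 4, 12, 0, 1, 9, 18, 11, 6, 13, 14, 23, 22, 17, 10, 20, 19, 21, 16, 15],
  [7, 8, 3, 2, 5, 17, 23, 6, 9, 1, 18, 22, 0, 19, 14, 12, 11, 4, 10, 16, 13, 21, 20, 15],
  [7, 8, 14, 2, 5, 4, 9, 1, 23, 6, 19, 22, 12, 18, 3, 0, 10, 17, 11, 16, 13, 20, 21, 15],
  [7, 8, 6, 9, 4, 17, 23, 3, 2, 0, 19, 11, 1, 18, 12, 14, 22, 5, 10, 21, 13, 16, 20, 15],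
  [7, 8, 9, 6, 4, 5, 14, 1, 0, 2, 19, 22, 3, 13, 12, 23, 11, 17, 10, 20, 18, 16, 21, 15],
  [7, 8, 12, 6, 4, 17, 0, 2, 14, 1, 13, 22, 23, 19, 9, 3, 10, 5, 11, 20, 18, 21, 16, 15]]

def SL4 : List (List ℕ) := [[0, 1, 2, 3, 4, 5, 6, 7, 8, 9, 10, 11, 12, 13, 14, 15, 16, 17, 18, 19, 20, 21, 22, 23],
  [0, 1, 2, 14, 4, 17, 7, 6, 12, 15, 20, 18, 8, 13, 3, 9, 16, 5, 11, 21, 10, 19, 22, 23],
  [1, 0, 2, 3, 4, 17, 8, 12, 6, 15, 10, 19, 7, 13, 14, 9, 22, 5, 21, 11, 20, 18, 16, 23],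
  [1, 0, 2, 14, 4, 5, 12, 8, 7, 9, 20, 21, 6, 13, 3, 15, 22, 17, 19, 18, 10, 11, 16, 23]]

theorem QF_mem_of_kappa {κ : List ℕ} {a b c e : ℕ} (h : inM24 κ = true) (hd : permMask κ 8442831 = 8442831)
    (ha : permMask κ 8388611 = a) (hb : permMask κ 16396 = b) (hc : permMask κ 4672 = c)
    (he : permMask κ 33152 = e) : QF a b c e ∈ quartets stdDodecad := by
  have hv : validTbl κ = true := by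
    simp only [inM24, Bool.and_eq_true] at h
    exact h.1
  have h1 := quartets_smul (permOf_mem_M24 h) Q0_mem
  rw [smul_std_of hv hd, Q0_eq, smul_QF _ (by norm_num) (by norm_num) (by norm_num) (by norm_num),
    pm_permOf hv, pm_permOf hv, pm_permOf hv, pm_permOf hv, ha, hb, hc, he] at h1
  exact h1

theorem X1_mem : QF 8409088 521 70 33152 ∈ quartets stdDodecad :=
  QF_mem_of_kappa (κ := kap1) (by decide +kernel) (by decide +kernel) (by decide +kernel) (by decide +kernel)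
    (by decide +kernel) (by decide +kernel)

theorem s1 : Nat.card ↥(A0 ⊓ MulAction.stabilizer M24 (QF 8409088 521 70 33152)) = 36 :=
  stab_size (by norm_num) (by norm_num) (by norm_num) (by norm_num) TL1 SL1 12 36 (by norm_num) (by norm_num)
    (by decide +kernel) (by decide +kernel) (by decide +kernel) (by decide +kernel) (by decide +kernel)
    (by decide +kernel)

theorem X2_mem : QF 8405000 36928 896 7 ∈ quartets stdDodecad :=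
  QF_mem_of_kappa (κ := kap2) (by decide +kernel) (by decide +kernel) (by decide +kernel) (by decide +kernel)
    (by decide +kernel) (by decide +kernel)

theorem s2 : Nat.card ↥(A0 ⊓ MulAction.stabilizer M24 (QF 8405000 36928 896 7)) = 16 :=
  stab_size (by norm_num) (by norm_num) (by norm_num) (by norm_num) TL2 SL2 27 16 (by norm_num) (by norm_num)
    (by decide +kernel) (by decide +kernel) (by decide +kernel) (by decide +kernel) (by decide +kernel)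
    (by decide +kernel)

theorem X3_mem : QF 8392960 584 49280 7 ∈ quartets stdDodecad :=
  QF_mem_of_kappa (κ := kap3) (by decide +kernel) (by decide +kernel) (by decide +kernel) (by decide +kernel)
    (by decide +kernel) (by decide +kernel)

theorem s3 : Nat.card ↥(A0 ⊓ MulAction.stabilizer M24 (QF 8392960 584 49280 7)) = 6 :=
  stab_size (by norm_num) (by norm_num) (by norm_num) (by norm_num) TL3 SL3 72 6 (by norm_num) (by norm_num)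
    (by decide +kernel) (by decide +kernel) (by decide +kernel) (by decide +kernel) (by decide +kernel)
    (by decide +kernel)

theorem X4_mem : QF 8421888 16704 4232 7 ∈ quartets stdDodecad :=
  QF_mem_of_kappa (κ := kap4) (by decide +kernel) (by decide +kernel) (by decide +kernel) (by decide +kernel)
    (by decide +kernel) (by decide +kernel)

theorem s4 : Nat.card ↥(A0 ⊓ MulAction.stabilizer M24 (QF 8421888 16704 4232 7)) = 4 :=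
  stab_size (by norm_num) (by norm_num) (by norm_num) (by norm_num) TL4 SL4 108 4 (by norm_num) (by norm_num)
    (by decide +kernel) (by decide +kernel) (by decide +kernel) (by decide +kernel) (by decide +kernel)
    (by decide +kernel)

theorem orbits {d : Finset GolayPt} {Q : Finset (Finset GolayPt)} (hd : d ∈ dodecads) (hQ : Q ∈ quartets d) :
    ∃ X₁ ∈ quartets d, ∃ X₂ ∈ quartets d, ∃ X₃ ∈ quartets d, ∃ X₄ ∈ quartets d,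
      (MulAction.orbit ↥(MulAction.stabilizer M24 d ⊓ MulAction.stabilizer M24 Q) X₁).ncard = 12 ∧
      (MulAction.orbit ↥(MulAction.stabilizer M24 d ⊓ MulAction.stabilizer M24 Q) X₂).ncard = 27 ∧
      (MulAction.orbit ↥(MulAction.stabilizer M24 d ⊓ MulAction.stabilizer M24 Q) X₃).ncard = 72 ∧
      (MulAction.orbit ↥(MulAction.stabilizer M24 d ⊓ MulAction.stabilizer M24 Q) X₄).ncard = 108 ∧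
      quartets d = {Q} ∪ MulAction.orbit ↥(MulAction.stabilizer M24 d ⊓ MulAction.stabilizer M24 Q) X₁ ∪
        MulAction.orbit ↥(MulAction.stabilizer M24 d ⊓ MulAction.stabilizer M24 Q) X₂ ∪
        MulAction.orbit ↥(MulAction.stabilizer M24 d ⊓ MulAction.stabilizer M24 Q) X₃ ∪
        MulAction.orbit ↥(MulAction.stabilizer M24 d ⊓ MulAction.stabilizer M24 Q) X₄ := by
  obtain ⟨g, hg, hgd, hgQ⟩ := exists_to_std hd hQ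
  have hA : Nat.card ↥(MulAction.stabilizer M24 d ⊓ MulAction.stabilizer M24 Q) = 432 := by
    obtain ⟨a, b, c, h, heq⟩ := stab_eq hd hQ
    rw [heq]
    exact M9.card_stab_triple h
  have gen : ∀ (X0 : Finset (Finset GolayPt)) (s n : ℕ), X0 ∈ quartets stdDodecad →
      Nat.card ↥(A0 ⊓ MulAction.stabilizer M24 X0) = s → s * n = 432 → 0 < s →
      (g⁻¹ • X0 ∈ quartets d ∧
        (MulAction.orbit ↥(MulAction.stabilizer M24 d ⊓ MulAction.stabilizer M24 Q) (g⁻¹ • X0)).ncard = n) := by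
    intro X0 s n hX0 hs hsn hs0
    constructor
    · have := quartets_smul (M24.inv_mem hg) hX0
      rwa [← hgd, inv_smul_smul] at this
    · have key := M9.card_inf_stab (G := M24) (MulAction.stabilizer M24 d ⊓ MulAction.stabilizer M24 Q)
        (g⁻¹ • X0)
      have c3 := card_conj3 (⟨g, hg⟩ : ↥M24) d Q (g⁻¹ • X0)
      have e1 : (⟨g, hg⟩ : ↥M24) • d = stdDodecad := hgd
      have e2 : (⟨g, hg⟩ : ↥M24) • Q = Q0 := hgQ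
      have e3 : (⟨g, hg⟩ : ↥M24) • (g⁻¹ • X0) = X0 := smul_inv_smul g X0
      rw [e1, e2, e3, hs] at c3
      rw [← c3, hA, ← hsn] at key
      exact Nat.eq_of_mul_eq_mul_left hs0 key
  obtain ⟨m1, n1⟩ := gen _ 36 12 X1_mem s1 (by norm_num) (by norm_num)
  obtain ⟨m2, n2⟩ := gen _ 16 27 X2_mem s2 (by norm_num) (by norm_num)
  obtain ⟨m3, n3⟩ := gen _ 6 72 X3_mem s3 (by norm_num) (by norm_num)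
  obtain ⟨m4, n4⟩ := gen _ 4 108 X4_mem s4 (by norm_num) (by norm_num)
  refine ⟨_, m1, _, m2, _, m3, _, m4, n1, n2, n3, n4, ?_⟩
  have hQo : MulAction.orbit ↥(MulAction.stabilizer M24 d ⊓ MulAction.stabilizer M24 Q) Q = {Q} := by
    ext X
    constructor
    · rintro ⟨k, rfl⟩
      exact k.2.2
    · intro hX
      rw [Set.mem_singleton_iff.1 hX]
      exact MulAction.mem_orbit_self Q
  have n0 : (MulAction.orbit ↥(MulAction.stabilizer M24 d ⊓ MulAction.stabilizer M24 Q) Q).ncard = 1 := by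
    rw [hQo, Set.ncard_singleton]
  have hsub : ∀ X ∈ quartets d,
      MulAction.orbit ↥(MulAction.stabilizer M24 d ⊓ MulAction.stabilizer M24 Q) X ⊆ quartets d := by
    rintro X hX _ ⟨k, rfl⟩
    have := quartets_smul k.1.2 hX
    rw [show k.1.1 • d = d from k.2.1] at this
    exact this
  have disj : ∀ X Y : Finset (Finset GolayPt),
      (MulAction.orbit ↥(MulAction.stabilizer M24 d ⊓ MulAction.stabilizer M24 Q) X).ncard ≠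
      (MulAction.orbit ↥(MulAction.stabilizer M24 d ⊓ MulAction.stabilizer M24 Q) Y).ncard →
      Disjoint (MulAction.orbit ↥(MulAction.stabilizer M24 d ⊓ MulAction.stabilizer M24 Q) X)
        (MulAction.orbit ↥(MulAction.stabilizer M24 d ⊓ MulAction.stabilizer M24 Q) Y) :=
    fun X Y h => (MulAction.orbit.eq_or_disjoint X Y).resolve_left (fun e => h (by rw [e]))
  rw [← hQo]
  symm
  apply Set.eq_of_subset_of_ncard_le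
  · exact Set.union_subset (Set.union_subset (Set.union_subset (Set.union_subset (hsub _ hQ) (hsub _ m1))
      (hsub _ m2)) (hsub _ m3)) (hsub _ m4)
  · rw [(Cfsg.Agent.S1597.result d hd).1,
      Set.ncard_union_eq (by
        simp only [Set.disjoint_union_left]
        exact ⟨⟨⟨disj _ _ (by rw [n0, n4]; norm_num), disj _ _ (by rw [n1, n4]; norm_num)⟩,
          disj _ _ (by rw [n2, n4]; norm_num)⟩, disj _ _ (by rw [n3, n4]; norm_num)⟩)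
        (Set.toFinite _) (Set.toFinite _),
      Set.ncard_union_eq (by
        simp only [Set.disjoint_union_left]
        exact ⟨⟨disj _ _ (by rw [n0, n3]; norm_num), disj _ _ (by rw [n1, n3]; norm_num)⟩,
          disj _ _ (by rw [n2, n3]; norm_num)⟩)
        (Set.toFinite _) (Set.toFinite _),
      Set.ncard_union_eq (by
        simp only [Set.disjoint_union_left]
        exact ⟨disj _ _ (by rw [n0, n2]; norm_num), disj _ _ (by rw [n1, n2]; norm_num)⟩)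
        (Set.toFinite _) (Set.toFinite _),
      Set.ncard_union_eq (disj _ _ (by rw [n0, n1]; norm_num)) (Set.toFinite _) (Set.toFinite _),
      n0, n1, n2, n3, n4]
  · exact Set.toFinite _

end Cfsg.Agent.Lib.Helper28.Quart
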